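import Mathlib
import Cfsg.Agent.Lib.Helper1.PGroup
import Cfsg.Agent.Lib.Helper1.Tools

set_option autoImplicit false

namespace Cfsg.Agent.Lib.Helper1

open scoped commutatorElement

theorem mem_frattini_iff {G : Type*} [Group G] (x : G) :
    x ∈ frattini G ↔ ∀ M : Subgroup G, IsCoatom M → x ∈ M := by
  simp [frattini, Order.radical, Subgroup.mem_iInf]

theorem pow_mem_frattini_of_pGroup {G : Type*} [Group G] [Finite G] (p : ℕ) [Fact p.Prime]
    (hG : IsPGroup p G) (x : G) : x ^ p ∈ frattini G := by
  rw [mem_frattini_iff]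
  intro M hM
  exact pow_mem_coatom_of_pGroup p hG M hM x

theorem commutator_le_frattini_of_pGroup {G : Type*} [Group G] [Finite G] (p : ℕ) [Fact p.Prime]
    (hG : IsPGroup p G) : commutator G ≤ frattini G := by
  intro x hx
  rw [mem_frattini_iff]
  intro M hM
  exact commutator_le_coatom_of_pGroup p hG M hM hx

/-- A subgroup containing the commutator subgroup is normal. -/
theorem normal_of_commutator_le_bb {G : Type*} [Group G] (N : Subgroup G)
    (h : commutator G ≤ N) : N.Normal := by
  constructor
  intro n hn g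
  have h1 : g * n * g⁻¹ * n⁻¹ ∈ N := by
    apply h
    rw [commutator_def]
    have : g * n * g⁻¹ * n⁻¹ = ⁅g, n⁆ := by rw [commutatorElement_def]
    rw [this]
    exact Subgroup.commutator_mem_commutator (Subgroup.mem_top g) (Subgroup.mem_top n)
  have : g * n * g⁻¹ = (g * n * g⁻¹ * n⁻¹) * n := by group
  rw [this]
  exact N.mul_mem h1 hn

/-- Upper bound: `k` elements generate at most `p ^ k` modulo the Frattini subgroup. -/
theorem card_closure_sup_frattini_le {G : Type*} [Group G] [Finite G] (p : ℕ) [Fact p.Prime]
    (hG : IsPGroup p G) (T : Finset G) :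
    Nat.card (Subgroup.closure (T : Set G) ⊔ frattini G : Subgroup G) ≤
      p ^ T.card * Nat.card (frattini G) := by
  classical
  induction T using Finset.induction_on with
  | empty => simp
  | insert a T ha ih =>
    set N : Subgroup G := Subgroup.closure (T : Set G) ⊔ frattini G with hN
    have hNn : N.Normal :=
      normal_of_commutator_le_bb N ((commutator_le_frattini_of_pGroup p hG).trans le_sup_right)
    have heq : Subgroup.closure ((insert a T : Finset G) : Set G) ⊔ frattini G
        = Subgroup.zpowers a ⊔ N := by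
      rw [Finset.coe_insert, Set.insert_eq, Subgroup.closure_union, Subgroup.zpowers_eq_closure,
        hN, sup_assoc]
    rw [heq, Finset.card_insert_of_notMem ha]
    have h1 := card_map_mk'_mul N (Subgroup.zpowers a ⊔ N)
    rw [inf_of_le_left (le_sup_right : N ≤ Subgroup.zpowers a ⊔ N)] at h1
    have h2 : (Subgroup.zpowers a ⊔ N).map (QuotientGroup.mk' N) =
        Subgroup.zpowers (QuotientGroup.mk' N a) := by
      rw [Subgroup.map_sup, MonoidHom.map_zpowers]
      have : N.map (QuotientGroup.mk' N) = ⊥ := by
        rw [← le_bot_iff, Subgroup.map_le_iff_le_comap, MonoidHom.comap_bot, QuotientGroup.ker_mk']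
      rw [this, sup_bot_eq]
    have h3 : Nat.card (Subgroup.zpowers (QuotientGroup.mk' N a)) ≤ p := by
      rw [Nat.card_zpowers]
      apply Nat.le_of_dvd (Fact.out : p.Prime).pos
      apply orderOf_dvd_of_pow_eq_one
      rw [← map_pow]
      have h4 : a ^ p ∈ N := le_sup_right (a := Subgroup.closure (T : Set G))
        (pow_mem_frattini_of_pGroup p hG a)
      exact (QuotientGroup.eq_one_iff _).mpr h4
    rw [h2] at h1
    calc Nat.card (Subgroup.zpowers a ⊔ N : Subgroup G)
        = Nat.card (Subgroup.zpowers (QuotientGroup.mk' N a)) * Nat.card N := h1.symm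
      _ ≤ p * Nat.card N := Nat.mul_le_mul_right _ h3
      _ ≤ p * (p ^ T.card * Nat.card (frattini G)) := Nat.mul_le_mul_left _ ih
      _ = p ^ (T.card + 1) * Nat.card (frattini G) := by ring

/-- Lower bound: elements independent modulo the Frattini subgroup generate `p ^ k`. -/
theorem le_card_closure_sup_frattini {G : Type*} [Group G] [Finite G] [DecidableEq G]
    (p : ℕ) [Fact p.Prime]
    (hG : IsPGroup p G) (T : Finset G)
    (hind : ∀ t ∈ T, t ∉ Subgroup.closure ((T.erase t : Finset G) : Set G) ⊔ frattini G) :
    p ^ T.card * Nat.card (frattini G) ≤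
      Nat.card (Subgroup.closure (T : Set G) ⊔ frattini G : Subgroup G) := by
  induction T using Finset.induction_on with
  | empty => simp
  | insert a T ha ih =>
    set N : Subgroup G := Subgroup.closure (T : Set G) ⊔ frattini G with hN
    have heq : Subgroup.closure ((insert a T : Finset G) : Set G) ⊔ frattini G
        = Subgroup.zpowers a ⊔ N := by
      rw [Finset.coe_insert, Set.insert_eq, Subgroup.closure_union, Subgroup.zpowers_eq_closure,
        hN, sup_assoc]
    have haN : a ∉ N := by
      have := hind a (Finset.mem_insert_self a T)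
      rwa [Finset.erase_insert ha] at this
    have hT : ∀ t ∈ T, t ∉ Subgroup.closure ((T.erase t : Finset G) : Set G) ⊔ frattini G := by
      intro t ht hmem
      apply hind t (Finset.mem_insert_of_mem ht)
      have hsub : (T.erase t : Finset G) ⊆ (insert a T).erase t := by
        intro x hx
        rw [Finset.mem_erase] at hx ⊢
        exact ⟨hx.1, Finset.mem_insert_of_mem hx.2⟩
      exact (sup_le_sup_right (Subgroup.closure_mono (Finset.coe_subset.mpr hsub)) _) hmem
    have ih' := ih hT
    rw [heq, Finset.card_insert_of_notMem ha]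
    have hlt : N < Subgroup.zpowers a ⊔ N := by
      refine lt_of_le_of_ne le_sup_right ?_
      intro h
      apply haN
      rw [h]
      exact Subgroup.mem_sup_left (Subgroup.mem_zpowers a)
    have hcl := card_lt_card_of_lt hlt
    obtain ⟨i, hi⟩ := IsPGroup.iff_card.mp (hG.to_subgroup N)
    obtain ⟨j, hj⟩ := IsPGroup.iff_card.mp (hG.to_subgroup (Subgroup.zpowers a ⊔ N))
    have hp : p.Prime := Fact.out
    rw [hi, hj] at hcl
    have hij : i < j := (Nat.pow_lt_pow_iff_right hp.one_lt).mp hcl
    calc p ^ (T.card + 1) * Nat.card (frattini G)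
        = p * (p ^ T.card * Nat.card (frattini G)) := by ring
      _ ≤ p * Nat.card N := Nat.mul_le_mul_left _ ih'
      _ = p ^ (i + 1) := by rw [hi]; ring
      _ ≤ p ^ j := Nat.pow_le_pow_right hp.pos hij
      _ = Nat.card (Subgroup.zpowers a ⊔ N : Subgroup G) := hj.symm

/-- Burnside's basis theorem. -/
theorem burnside_basis {G : Type*} [Group G] [Finite G] (p n : ℕ) [Fact p.Prime]
    (hG : IsPGroup p G) (hn : (frattini G).index = p ^ n) :
    (∀ S : Finset G, Subgroup.closure (S : Set G) = ⊤ →
      ∃ T : Finset G, T ⊆ S ∧ T.card = n ∧ Subgroup.closure (T : Set G) = ⊤) ∧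
    (∀ T : Finset G, Subgroup.closure (T : Set G) = ⊤ → n ≤ T.card) := by
  classical
  have hp : p.Prime := Fact.out
  have hcard : Nat.card G = Nat.card (frattini G) * p ^ n := by
    rw [← hn, Subgroup.card_mul_index]
  have hpos : 0 < Nat.card (frattini G) := Nat.card_pos
  have hlow : ∀ T : Finset G, Subgroup.closure (T : Set G) = ⊤ → n ≤ T.card := by
    intro T hT
    have h1 := card_closure_sup_frattini_le p hG T
    rw [hT, top_sup_eq, Subgroup.card_top, hcard, mul_comm] at h1
    have h2 : p ^ n ≤ p ^ T.card := Nat.le_of_mul_le_mul_right h1 hpos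
    exact (Nat.pow_le_pow_iff_right hp.one_lt).mp h2
  refine ⟨?_, hlow⟩
  intro S hS
  have hne : (S.powerset.filter (fun T : Finset G => Subgroup.closure (T : Set G) = ⊤)).Nonempty :=
    ⟨S, by simp [hS]⟩
  obtain ⟨T, hTmem, hTmin⟩ := Finset.exists_min_image _ Finset.card hne
  rw [Finset.mem_filter, Finset.mem_powerset] at hTmem
  obtain ⟨hTS, hTgen⟩ := hTmem
  refine ⟨T, hTS, ?_, hTgen⟩
  apply le_antisymm _ (hlow T hTgen)
  have hind : ∀ t ∈ T, t ∉ Subgroup.closure ((T.erase t : Finset G) : Set G) ⊔ frattini G := by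
    intro t ht hmem
    have h1 : Subgroup.closure ((T.erase t : Finset G) : Set G) ⊔ frattini G = ⊤ := by
      rw [eq_top_iff, ← hTgen, Subgroup.closure_le]
      intro x hx
      by_cases hxt : x = t
      · rw [hxt]; exact hmem
      · exact Subgroup.mem_sup_left (Subgroup.subset_closure
          (Finset.mem_coe.mpr (Finset.mem_erase.mpr ⟨hxt, hx⟩)))
    have h2 : Subgroup.closure ((T.erase t : Finset G) : Set G) = ⊤ := frattini_nongenerating h1
    have h3 := hTmin (T.erase t) (by
      rw [Finset.mem_filter, Finset.mem_powerset]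
      exact ⟨(Finset.erase_subset t T).trans hTS, h2⟩)
    rw [Finset.card_erase_of_mem ht] at h3
    have : 0 < T.card := Finset.card_pos.mpr ⟨t, ht⟩
    omega
  have h4 := le_card_closure_sup_frattini p hG T hind
  rw [hTgen, top_sup_eq, Subgroup.card_top, hcard, mul_comm] at h4
  have h5 : p ^ T.card ≤ p ^ n := Nat.le_of_mul_le_mul_left h4 hpos
  exact (Nat.pow_le_pow_iff_right hp.one_lt).mp h5

end Cfsg.Agent.Lib.Helper1
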