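import Mathlib
import Cfsg.Agent.S0016
import Cfsg.Agent.S0040
import Cfsg.Agent.Lib.Helper95.FrobCompl
import Cfsg.Agent.Lib.Helper1.Tools

/-!
# Fixed-point-free actions and Sylow subgroups; small index tools

* `mem_of_coprime_index`: an element of order prime to the index of a normal subgroup lies in it.
* `normal_le_of_coprime_index`: a normal subgroup of order prime to the index of `X` lies in `X`.
* `sylow_cyclic_of_fpf`: Sylow subgroups of a subgroup acting fixed-point-freely on a nontrivial
  normal subgroup are cyclic or generalized quaternion (no complement hypothesis).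
* `sylow_cyclic_of_fpf_odd`: the same for odd order: cyclic.
-/

set_option autoImplicit false

namespace Cfsg.Agent.Lib.Helper1

theorem mem_zpowers_pow_of_coprime {A : Type*} [Group A] [Finite A] (x : A) (m : ℕ)
    (h : (orderOf x).Coprime m) : x ∈ Subgroup.zpowers (x ^ m) := by
  have h1 : Subgroup.zpowers (x ^ m) = Subgroup.zpowers x := by
    apply Subgroup.eq_of_le_of_card_ge
    · rw [Subgroup.zpowers_le]
      exact Subgroup.pow_mem _ (Subgroup.mem_zpowers _) _
    · rw [Nat.card_zpowers, Nat.card_zpowers, Nat.Coprime.orderOf_pow h]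
  rw [h1]
  exact Subgroup.mem_zpowers _

theorem mem_of_coprime_index {G : Type*} [Group G] [Finite G] (N : Subgroup G) [N.Normal] (x : G)
    (h : (orderOf x).Coprime N.index) : x ∈ N := by
  have h1 : x ^ N.index ∈ N := Subgroup.pow_index_mem N x
  exact (Subgroup.zpowers_le.2 h1) (mem_zpowers_pow_of_coprime x _ h)

/-- A normal subgroup whose order is coprime to the index of `X` is contained in `X`. -/
theorem normal_le_of_coprime_index {G : Type*} [Group G] [Finite G] (N X : Subgroup G) [N.Normal]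
    (h : (Nat.card N).Coprime X.index) : N ≤ X := by
  have h1 := card_sup_mul_card_inf N X
  have h2 : Nat.card (N ⊔ X : Subgroup G) = Nat.card X * X.relIndex (N ⊔ X) :=
    card_eq_card_mul_relIndex le_sup_right
  have h3 : X.relIndex (N ⊔ X) * Nat.card (N ⊓ X : Subgroup G) = Nat.card N := by
    have hX : 0 < Nat.card X := Nat.card_pos
    rw [h2] at h1
    apply Nat.eq_of_mul_eq_mul_left hX
    linarith
  have h4 : X.relIndex (N ⊔ X) ∣ Nat.card N := Dvd.intro _ h3
  have h5 : X.relIndex (N ⊔ X) ∣ X.index :=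
    Dvd.intro _ (Subgroup.relIndex_mul_index (le_sup_right : X ≤ N ⊔ X))
  have h6 : X.relIndex (N ⊔ X) = 1 := by
    have h7 := Nat.dvd_gcd h4 h5
    rw [h.gcd_eq_one] at h7
    exact Nat.dvd_one.mp h7
  exact le_sup_left.trans (Subgroup.relIndex_eq_one.mp h6)

/-- Sylow subgroups of a subgroup acting fixed-point-freely on a nontrivial normal subgroup
are cyclic or generalized quaternion. -/
theorem sylow_cyclic_of_fpf {G : Type*} [Group G] [Finite G] (K H : Subgroup G) [K.Normal]
    (hK : K ≠ ⊥) (hfpf : ∀ h ∈ H, h ≠ 1 → ∀ k ∈ K, h * k = k * h → k = 1)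
    (p : ℕ) [Fact p.Prime] (P : Sylow p H) :
    IsCyclic P ∨ (p = 2 ∧ ∃ n : ℕ, Nonempty (P ≃* QuaternionGroup (2 ^ n))) := by
  have huniq : ∀ A B : Subgroup ↥(P : Subgroup ↥H), Nat.card A = p → Nat.card B = p → A = B := by
    apply Cfsg.Agent.S0040.unique_of_no_rank_two p P.isPGroup'
    intro x z hxz hxp hzp hind
    apply Cfsg.Agent.Lib.Helper95.FrobCompl.no_rank_two K hK p (((x : ↥H) : G)) (((z : ↥H) : G))
    · exact congrArg (fun t : ↥(P : Subgroup ↥H) => ((t : ↥H) : G)) hxz
    · exact congrArg (fun t : ↥(P : Subgroup ↥H) => ((t : ↥H) : G)) hxp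
    · exact congrArg (fun t : ↥(P : Subgroup ↥H) => ((t : ↥H) : G)) hzp
    · intro i j hij k hk hcomm
      have hne : (((x ^ i * z ^ j : ↥(P : Subgroup ↥H)) : ↥H) : G) ≠ 1 := by
        intro h
        apply hij
        apply hind i j
        apply Subtype.ext
        apply Subtype.ext
        exact h
      have hH : (((x ^ i * z ^ j : ↥(P : Subgroup ↥H)) : ↥H) : G) ∈ H :=
        ((x ^ i * z ^ j : ↥(P : Subgroup ↥H)) : ↥H).2
      exact hfpf _ hH hne k hk hcomm
  exact Cfsg.Agent.S0016.result (G := ↥(P : Subgroup ↥H)) p P.isPGroup' huniq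

/-- Sylow subgroups of an odd-order subgroup acting fixed-point-freely on a nontrivial normal
subgroup are cyclic. -/
theorem sylow_cyclic_of_fpf_odd {G : Type*} [Group G] [Finite G] (K H : Subgroup G) [K.Normal]
    (hK : K ≠ ⊥) (hfpf : ∀ h ∈ H, h ≠ 1 → ∀ k ∈ K, h * k = k * h → k = 1)
    (hodd : Odd (Nat.card H)) (p : ℕ) [Fact p.Prime] (P : Sylow p H) :
    IsCyclic P := by
  rcases sylow_cyclic_of_fpf K H hK hfpf p P with h | ⟨_, n, ⟨e⟩⟩
  · exact h
  · exfalso
    have h1 : Nat.card P = 4 * 2 ^ n := by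
      rw [Nat.card_congr e.toEquiv, Nat.card_eq_fintype_card, QuaternionGroup.card]
    have h2 : Nat.card P ∣ Nat.card H := Subgroup.card_subgroup_dvd_card _
    rw [h1] at h2
    have h3 : 2 ∣ Nat.card H := dvd_trans ⟨2 * 2 ^ n, by ring⟩ h2
    rcases hodd with ⟨m, hm⟩
    omega

end Cfsg.Agent.Lib.Helper1
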