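import Mathlib
import Cfsg.Agent.S4238
import Cfsg.Agent.Lib.Helper1.BurnsideBasis

/-!
# Coprime automorphisms of 2-generated `p`-groups

* `frattini_index_dvd_sq_of_two_generated`: a 2-generated finite `p`-group has Frattini index
  dividing `p ^ 2`.
* `aut_eq_one_of_frattini_index`: an automorphism of `r`-power order (`r ≠ p` prime,
  `r ∤ p ^ 2 - 1`) of a finite `p`-group with Frattini index dividing `p ^ 2` is trivial.
-/

set_option autoImplicit false

namespace Cfsg.Agent.Lib.Helper1

/-- A finite `p`-group generated by two elements has Frattini index dividing `p ^ 2`. -/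
theorem frattini_index_dvd_sq_of_two_generated {Q : Type*} [Group Q] [Finite Q] (p : ℕ)
    [hp : Fact p.Prime] (hQ : IsPGroup p Q) (a b : Q)
    (hgen : Subgroup.closure ({a, b} : Set Q) = ⊤) :
    (frattini Q).index ∣ p ^ 2 := by
  classical
  have h1 := card_closure_sup_frattini_le p hQ ({a, b} : Finset Q)
  have h2 : Subgroup.closure (({a, b} : Finset Q) : Set Q) ⊔ frattini Q = ⊤ := by
    rw [Finset.coe_insert, Finset.coe_singleton, hgen, top_sup_eq]
  rw [h2, Subgroup.card_top] at h1
  have h3 : Nat.card (frattini Q) * (frattini Q).index = Nat.card Q := (frattini Q).card_mul_index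
  have h4 : ({a, b} : Finset Q).card ≤ 2 := Finset.card_le_two
  obtain ⟨n, hn⟩ := hQ.index (frattini Q)
  have hΦpos : 0 < Nat.card (frattini Q) := Nat.card_pos
  have h5 : (frattini Q).index ≤ p ^ 2 := by
    have h6 : Nat.card (frattini Q) * (frattini Q).index ≤ Nat.card (frattini Q) * p ^ 2 := by
      rw [h3]
      calc Nat.card Q ≤ p ^ ({a, b} : Finset Q).card * Nat.card (frattini Q) := h1
        _ ≤ p ^ 2 * Nat.card (frattini Q) :=
          Nat.mul_le_mul_right _ (Nat.pow_le_pow_right hp.out.pos h4)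
        _ = Nat.card (frattini Q) * p ^ 2 := mul_comm _ _
    exact Nat.le_of_mul_le_mul_left h6 hΦpos
  rw [hn] at h5 ⊢
  exact pow_dvd_pow p ((Nat.pow_le_pow_iff_right hp.out.one_lt).mp h5)

/-- An automorphism of `r`-power order of a finite `p`-group whose Frattini quotient has order
dividing `p ^ 2` is trivial, provided `r ≠ p` and `r ∤ p ^ 2 - 1`. -/
theorem aut_eq_one_of_frattini_index {Q : Type*} [Group Q] [Finite Q] {p r : ℕ}
    [hp : Fact p.Prime] [hr : Fact r.Prime]
    (hQ : IsPGroup p Q) (hidx : (frattini Q).index ∣ p ^ 2) (hrp : r ≠ p)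
    (hr2 : ¬ r ∣ p ^ 2 - 1)
    (α : MulAut Q) (k : ℕ) (hα : α ^ (r ^ k) = 1) : α = 1 := by
  classical
  have hmap : (frattini Q).map (α : Q →* Q) = frattini Q :=
    Subgroup.characteristic_iff_map_eq.mp (frattini_characteristic (G := Q)) α
  obtain ⟨αb, hαbdef⟩ : ∃ αb : MulAut (Q ⧸ frattini Q),
      αb = QuotientGroup.congr (frattini Q) (frattini Q) α hmap := ⟨_, rfl⟩
  have hαb : ∀ q : Q, αb (QuotientGroup.mk q) = QuotientGroup.mk (α q) := by
    intro q; rw [hαbdef]; rfl
  have hpow : ∀ n : ℕ, ∀ q : Q, (αb ^ n) (QuotientGroup.mk q) = QuotientGroup.mk ((α ^ n) q) := by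
    intro n
    induction n with
    | zero => intro q; simp
    | succ n ih =>
      intro q
      rw [pow_succ, pow_succ, MulAut.mul_apply, MulAut.mul_apply, hαb, ih]
  have hαbk : αb ^ (r ^ k) = 1 := by
    ext v
    obtain ⟨q, rfl⟩ := QuotientGroup.mk_surjective v
    rw [hpow, hα]; rfl
  have hA : IsPGroup r (Subgroup.zpowers αb) := by
    have h1 : orderOf αb ∣ r ^ k := orderOf_dvd_of_pow_eq_one hαbk
    obtain ⟨j, -, hj⟩ := (Nat.dvd_prime_pow hr.out).mp h1
    exact IsPGroup.of_card (n := j) (by rw [Nat.card_zpowers, hj])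
  have hmod := hA.card_modEq_card_fixedPoints (Q ⧸ frattini Q)
  obtain ⟨F, hF⟩ : ∃ F : Subgroup (Q ⧸ frattini Q),
      F = (αb : (Q ⧸ frattini Q) →* (Q ⧸ frattini Q)).eqLocus (MonoidHom.id _) := ⟨_, rfl⟩
  have hFmem : ∀ v : Q ⧸ frattini Q, v ∈ F ↔ αb v = v := by
    intro v; rw [hF]; rfl
  have hfix : (MulAction.fixedPoints (Subgroup.zpowers αb) (Q ⧸ frattini Q)) =
      (F : Set (Q ⧸ frattini Q)) := by
    ext v
    rw [MulAction.mem_fixedPoints, SetLike.mem_coe, hFmem]
    constructor
    · intro h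
      exact h ⟨αb, Subgroup.mem_zpowers αb⟩
    · intro h a
      have hst : αb ∈ MulAction.stabilizer (MulAut (Q ⧸ frattini Q)) v := h
      exact (Subgroup.zpowers_le.mpr hst) a.2
  rw [hfix, SetLike.coe_sort_coe] at hmod
  have hVcard : Nat.card (Q ⧸ frattini Q) = (frattini Q).index := (Subgroup.index_eq_card _).symm
  obtain ⟨i, hi, hVi⟩ := (Nat.dvd_prime_pow hp.out).mp hidx
  have hFdvd : Nat.card F ∣ p ^ i := by
    rw [← hVi, ← hVcard]; exact Subgroup.card_subgroup_dvd_card F
  obtain ⟨j, hj, hFj⟩ := (Nat.dvd_prime_pow hp.out).mp hFdvd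
  by_cases hij : j = i
  · have hFtop : F = ⊤ := Subgroup.eq_top_of_card_eq F (by rw [hFj, hij, hVcard, hVi])
    have hker : α ∈ Cfsg.Agent.S4238.frattiniKer Q := by
      intro q
      have h1 : (QuotientGroup.mk q : Q ⧸ frattini Q) ∈ F := by rw [hFtop]; trivial
      have h2 : αb (QuotientGroup.mk q) = QuotientGroup.mk q := (hFmem _).mp h1
      rw [hαb] at h2
      have h3 : ((α q * q⁻¹ : Q) : Q ⧸ frattini Q) = 1 := by
        rw [QuotientGroup.mk_mul, QuotientGroup.mk_inv, h2, mul_inv_cancel]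
      exact (QuotientGroup.eq_one_iff _).mp h3
    exact Cfsg.Agent.S4238.eq_one_of_frattiniKer hQ α hker (r ^ k)
      (Nat.Coprime.pow_left k ((Nat.coprime_primes hr.out hp.out).mpr hrp)) hα
  · exfalso
    have hjlt : j < i := lt_of_le_of_ne hj hij
    have hdvd : r ∣ p ^ i - p ^ j := by
      rw [hVcard, hVi, hFj] at hmod
      exact (Nat.modEq_iff_dvd' (Nat.pow_le_pow_right hp.out.pos hj)).mp hmod.symm
    have hp1 : p - 1 ∣ p ^ 2 - 1 := by
      have h1 := Nat.sq_sub_sq p 1
      rw [one_pow] at h1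
      rw [h1]; exact dvd_mul_left _ _
    have hrnp : ¬ r ∣ p := fun h => hrp ((Nat.prime_dvd_prime_iff_eq hr.out hp.out).mp h)
    interval_cases i
    · omega
    · interval_cases j
      rw [pow_one, pow_zero] at hdvd
      exact hr2 (hdvd.trans hp1)
    · interval_cases j
      · rw [pow_zero] at hdvd
        exact hr2 hdvd
      · have h1 : p ^ 2 - p ^ 1 = p * (p - 1) := by
          rw [pow_one, Nat.mul_sub, mul_one, sq]
        rw [h1] at hdvd
        rcases (Nat.Prime.dvd_mul hr.out).mp hdvd with h | h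
        · exact hrnp h
        · exact hr2 (h.trans hp1)

end Cfsg.Agent.Lib.Helper1
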