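import Mathlib
import Cfsg.Prelude.Def_Solvable
import Cfsg.Agent.Lib.Helper1.Tools

set_option autoImplicit false

namespace Cfsg.Agent.Lib.Helper1

open Pointwise

/-- A subgroup meeting its conjugates by outside elements trivially. -/
def IsTI {G : Type*} [Group G] (H : Subgroup G) : Prop :=
  ∀ g : G, g ∉ H → H ⊓ (MulAut.conj g • H) = ⊥

/-- Nonidentity elements of the conjugates of a subgroup. -/
def conjUnion {G : Type*} [Group G] (H : Subgroup G) : Set G :=
  {x | x ≠ 1 ∧ ∃ g : G, x ∈ MulAut.conj g • H}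

theorem IsTI.mem_of_mem {G : Type*} [Group G] {H : Subgroup G} (hTI : IsTI H) {g x : G}
    (hx1 : x ≠ 1) (hxH : x ∈ H) (hxg : x ∈ MulAut.conj g • H) : g ∈ H := by
  by_contra hg
  have h1 := hTI g hg
  have hmem : x ∈ H ⊓ MulAut.conj g • H := Subgroup.mem_inf.mpr ⟨hxH, hxg⟩
  rw [h1, Subgroup.mem_bot] at hmem
  exact hx1 hmem

/-- Two conjugates of a TI subgroup sharing a nonidentity element coincide. -/
theorem IsTI.inv_mul_mem {G : Type*} [Group G] {H : Subgroup G} (hTI : IsTI H) {a b x : G}
    (hx1 : x ≠ 1) (hxa : x ∈ MulAut.conj a • H) (hxb : x ∈ MulAut.conj b • H) : a⁻¹ * b ∈ H := by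
  rw [mem_conj_smul] at hxa hxb
  apply hTI.mem_of_mem (x := a⁻¹ * x * a) _ hxa
  · rw [mem_conj_smul]
    have : (a⁻¹ * b)⁻¹ * (a⁻¹ * x * a) * (a⁻¹ * b) = b⁻¹ * x * b := by group
    rw [this]; exact hxb
  · intro h
    apply hx1
    have : x = a * (a⁻¹ * x * a) * a⁻¹ := by group
    rw [this, h]; group

theorem IsTI.conj_eq {G : Type*} [Group G] {H : Subgroup G} (hTI : IsTI H) {a b x : G}
    (hx1 : x ≠ 1) (hxa : x ∈ MulAut.conj a • H) (hxb : x ∈ MulAut.conj b • H) :
    MulAut.conj a • H = MulAut.conj b • H := by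
  have h := hTI.inv_mul_mem hx1 hxa hxb
  have : b = a * (a⁻¹ * b) := by group
  rw [this, conj_mul_smul_eq H a _ h]

/-- A conjugate of a TI subgroup is TI. -/
theorem IsTI.conj {G : Type*} [Group G] {H : Subgroup G} (hTI : IsTI H) (a : G) :
    IsTI (MulAut.conj a • H) := by
  intro g hg
  rw [eq_bot_iff]
  intro x hx
  obtain ⟨hx1, hx2⟩ := Subgroup.mem_inf.mp hx
  rw [Subgroup.mem_bot]
  by_contra hne
  rw [← mul_smul, ← map_mul] at hx2
  have h := hTI.inv_mul_mem hne hx1 hx2
  apply hg
  rw [mem_conj_smul]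
  have : a⁻¹ * g * a = a⁻¹ * (g * a) := by group
  rw [this]; exact h

/-- Counting the nonidentity elements of the conjugates of a TI subgroup lying in a
conjugation-invariant set. -/
theorem ti_ncard_inter {G : Type*} [Group G] [Finite G] (H : Subgroup G) (hTI : IsTI H)
    (S : Set G) (hS : ∀ g x : G, x ∈ S → g * x * g⁻¹ ∈ S) :
    (conjUnion H ∩ S).ncard = H.index * Nat.card {h : H // h ≠ 1 ∧ (h : G) ∈ S} := by
  classical
  let f : (G ⧸ H) × {h : H // h ≠ 1 ∧ (h : G) ∈ S} → G :=
    fun p => p.1.out * (p.2.1 : G) * p.1.out⁻¹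
  have hf : Function.Injective f := by
    rintro ⟨q, ⟨h, hh1, hhS⟩⟩ ⟨q', ⟨h', hh'1, hh'S⟩⟩ heq
    have heq' : q.out * (h : G) * q.out⁻¹ = q'.out * (h' : G) * q'.out⁻¹ := heq
    have hhG : (h : G) ≠ 1 := fun hc => hh1 (Subtype.ext hc)
    have hmem : q.out⁻¹ * q'.out ∈ H := by
      apply hTI.mem_of_mem hhG h.2
      rw [mem_conj_smul]
      have e1 : (h : G) = q.out⁻¹ * (q'.out * (h' : G) * q'.out⁻¹) * q.out := by
        rw [← heq']; group
      have e2 : (q.out⁻¹ * q'.out)⁻¹ * (h : G) * (q.out⁻¹ * q'.out) = h' := by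
        rw [e1]; group
      rw [e2]; exact h'.2
    have hq : q = q' := by
      rw [← QuotientGroup.out_eq' q, ← QuotientGroup.out_eq' q']
      exact QuotientGroup.eq.mpr hmem
    subst hq
    have e3 : (h : G) = h' := by
      have : (h : G) = q.out⁻¹ * (q.out * (h : G) * q.out⁻¹) * q.out := by group
      rw [this, heq']; group
    have e4 : h = h' := Subtype.ext e3
    subst e4
    rfl
  have hrange : Set.range f = conjUnion H ∩ S := by
    ext x
    constructor
    · rintro ⟨⟨q, ⟨h, hh1, hhS⟩⟩, rfl⟩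
      have hhG : (h : G) ≠ 1 := fun hc => hh1 (Subtype.ext hc)
      refine ⟨⟨?_, q.out, ?_⟩, hS _ _ hhS⟩
      · intro hc
        apply hhG
        have : (h : G) = q.out⁻¹ * (q.out * (h : G) * q.out⁻¹) * q.out := by group
        rw [this]
        have hc' : q.out * (h : G) * q.out⁻¹ = 1 := hc
        rw [hc']; group
      · rw [mem_conj_smul]
        have : q.out⁻¹ * (q.out * (h : G) * q.out⁻¹) * q.out = h := by group
        change q.out⁻¹ * (q.out * (h : G) * q.out⁻¹) * q.out ∈ H
        rw [this]; exact h.2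
    · rintro ⟨⟨hx1, g, hxg⟩, hxS⟩
      rw [mem_conj_smul] at hxg
      obtain ⟨h₀, hh₀⟩ := QuotientGroup.mk_out_eq_mul H g
      have hmem : (h₀ : G)⁻¹ * (g⁻¹ * x * g) * h₀ ∈ H :=
        H.mul_mem (H.mul_mem (H.inv_mem h₀.2) hxg) h₀.2
      have hne : (⟨(h₀ : G)⁻¹ * (g⁻¹ * x * g) * h₀, hmem⟩ : H) ≠ 1 := by
        intro hc
        have hc' : (h₀ : G)⁻¹ * (g⁻¹ * x * g) * h₀ = 1 := congrArg Subtype.val hc
        apply hx1
        have : x = (g * h₀) * ((h₀ : G)⁻¹ * (g⁻¹ * x * g) * h₀) * (g * h₀)⁻¹ := by group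
        rw [this, hc']; group
      have hS' : (h₀ : G)⁻¹ * (g⁻¹ * x * g) * h₀ ∈ S := by
        have := hS (g * h₀)⁻¹ x hxS
        have e : (g * (h₀ : G))⁻¹ * x * ((g * (h₀ : G))⁻¹)⁻¹ = (h₀ : G)⁻¹ * (g⁻¹ * x * g) * h₀ := by
          group
        rwa [e] at this
      refine ⟨⟨(QuotientGroup.mk g : G ⧸ H), ⟨⟨_, hmem⟩, hne, hS'⟩⟩, ?_⟩
      change (QuotientGroup.mk g : G ⧸ H).out * ((h₀ : G)⁻¹ * (g⁻¹ * x * g) * h₀)
        * (QuotientGroup.mk g : G ⧸ H).out⁻¹ = x
      rw [hh₀]; group
  rw [← hrange, Set.ncard_range_of_injective hf, Nat.card_prod, Subgroup.index_eq_card]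

/-- The number of nonidentity elements of a finite group. -/
theorem card_ne_one (G : Type*) [Group G] [Finite G] :
    Nat.card {h : G // h ≠ 1} = Nat.card G - 1 := by
  have h1 := Set.ncard_add_ncard_compl ({1} : Set G)
  rw [Set.ncard_singleton] at h1
  have h2 : Nat.card {h : G // h ≠ 1} = ({1}ᶜ : Set G).ncard := rfl
  omega

/-- Counting the nonidentity elements of the conjugates of a TI subgroup. -/
theorem ti_ncard {G : Type*} [Group G] [Finite G] (H : Subgroup G) (hTI : IsTI H) :
    (conjUnion H).ncard = H.index * (Nat.card H - 1) := by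
  have h1 := ti_ncard_inter H hTI Set.univ (fun _ _ _ => Set.mem_univ _)
  rw [Set.inter_univ] at h1
  rw [h1, ← card_ne_one H]
  congr 1
  exact Nat.card_congr (Equiv.subtypeEquivRight (fun h => by simp))

/-- The Frobenius kernel is the complement of the union of conjugates. -/
theorem frobeniusKernel_eq_compl {G : Type*} [Group G] (H : Subgroup G) :
    Cfsg.frobeniusKernel H = (conjUnion H)ᶜ := by
  ext x
  simp only [Cfsg.frobeniusKernel, conjUnion, Set.mem_ofPred_eq, Set.mem_compl_iff, not_and,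
    not_exists]
  constructor
  · rintro (h | h) hx
    · exact absurd h hx
    · exact h
  · intro h
    by_cases hx : x = 1
    · exact Or.inl hx
    · exact Or.inr (h hx)

/-- The Frobenius kernel of a TI subgroup has as many elements as the index. -/
theorem ti_card_kernel {G : Type*} [Group G] [Finite G] (H : Subgroup G) (hTI : IsTI H) :
    Nat.card (Cfsg.frobeniusKernel H) = H.index := by
  rw [Nat.card_coe_set_eq, frobeniusKernel_eq_compl]
  have h1 := Set.ncard_add_ncard_compl (conjUnion H)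
  rw [ti_ncard H hTI] at h1
  have h2 := Subgroup.card_mul_index H
  have hpos : 0 < Nat.card H := Nat.card_pos
  obtain ⟨c, hc⟩ : ∃ c, Nat.card H = c + 1 := ⟨Nat.card H - 1, by omega⟩
  rw [hc] at h1 h2
  simp only [Nat.add_sub_cancel] at h1
  nlinarith

/-- The index of a TI subgroup is congruent to 1 modulo its order. -/
theorem ti_index_mod {G : Type*} [Group G] [Finite G] (H : Subgroup G) (hTI : IsTI H) :
    H.index % Nat.card H = 1 % Nat.card H := by
  classical
  have : Fintype G := Fintype.ofFinite G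
  have : Fintype H := Fintype.ofFinite H
  have : Fintype (G ⧸ H) := Fintype.ofFinite _
  have hB := MulAction.sum_card_fixedBy_eq_card_orbits_mul_card_group H (G ⧸ H)
  have hfix : ∀ h : H, Fintype.card (MulAction.fixedBy (G ⧸ H) h)
      = if h = 1 then H.index else 1 := by
    intro h
    by_cases hh : h = 1
    · rw [if_pos hh, hh, Subgroup.index_eq_card, Nat.card_eq_fintype_card]
      apply Fintype.card_congr
      exact (Equiv.subtypeUnivEquiv (fun x => by simp))
    · rw [if_neg hh, Fintype.card_eq_one_iff]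
      refine ⟨⟨(QuotientGroup.mk 1 : G ⧸ H), ?_⟩, ?_⟩
      · rw [MulAction.mem_fixedBy]
        change (QuotientGroup.mk ((h : G) * 1) : G ⧸ H) = QuotientGroup.mk 1
        rw [QuotientGroup.eq]
        simp
      · rintro ⟨q, hq⟩
        apply Subtype.ext
        induction q using QuotientGroup.induction_on with
        | H g =>
          rw [MulAction.mem_fixedBy] at hq
          change (QuotientGroup.mk ((h : G) * g) : G ⧸ H) = QuotientGroup.mk g at hq
          rw [QuotientGroup.eq] at hq
          have hq' : g⁻¹ * (h : G)⁻¹ * g ∈ H := by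
            have e : ((h : G) * g)⁻¹ * g = g⁻¹ * (h : G)⁻¹ * g := by group
            rwa [e] at hq
          have hg : g ∈ H := by
            apply hTI.mem_of_mem (x := (h : G)⁻¹) _ (H.inv_mem h.2)
            · rw [mem_conj_smul]; exact hq'
            · intro hc
              apply hh
              apply Subtype.ext
              simpa using hc
          change (QuotientGroup.mk g : G ⧸ H) = QuotientGroup.mk 1
          rw [QuotientGroup.eq]
          simpa using H.inv_mem hg
  simp_rw [hfix] at hB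
  have hsum : (∑ h : H, if h = 1 then H.index else 1) = H.index + (Fintype.card H - 1) := by
    rw [← Finset.add_sum_erase Finset.univ _ (Finset.mem_univ (1 : H))]
    simp only [if_true]
    congr 1
    rw [Finset.sum_congr rfl (fun x hx => if_neg (Finset.ne_of_mem_erase hx))]
    simp
  rw [hsum] at hB
  have hpos : 0 < Fintype.card H := Fintype.card_pos
  rw [Nat.card_eq_fintype_card]
  set c := Fintype.card H with hc
  set o := Fintype.card (Quotient (MulAction.orbitRel H (G ⧸ H))) with ho
  have h1 : H.index + c = o * c + 1 := by omega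
  have h2 : (H.index + c) % c = H.index % c := Nat.add_mod_right _ _
  have h3 : (o * c + 1) % c = 1 % c := Nat.mul_add_mod_self_right o c 1
  rw [← h2, h1, h3]

end Cfsg.Agent.Lib.Helper1
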