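import Mathlib
import Cfsg.Prelude.Def_Solvable
import Cfsg.Agent.S0034
import Cfsg.Agent.S0035
import Cfsg.Agent.S0039
import Cfsg.Agent.S0040
import Cfsg.Agent.S0042

/-!
# Basic facts about Frobenius groups, collected

For a Frobenius complement `C` with kernel `N` (given as a subgroup with the right carrier):
normality, complement, nilpotency (Thompson), fixed-point-freeness, coprimality, structure of
Sylow subgroups of the complement, uniqueness of involutions.
-/

set_option autoImplicit false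

namespace Cfsg.Agent.Lib.Helper1

open scoped Pointwise

/-- The basic facts about a Frobenius group with complement `C` and kernel `N`. -/
theorem frobenius_facts {X : Type*} [Group X] [Finite X] (C N : Subgroup X)
    (hC : Cfsg.IsFrobeniusComplement C) (hN : (N : Set X) = Cfsg.frobeniusKernel C) :
    N.Normal ∧ N.IsComplement' C ∧ Group.IsNilpotent N ∧ N ≠ ⊥ ∧ C ≠ ⊥ ∧
    (∀ c ∈ C, c ≠ 1 → N ⊓ Subgroup.centralizer {c} = ⊥) ∧
    (Nat.card C).Coprime (Nat.card N) ∧
    (∀ (p : ℕ) [Fact p.Prime] (P : Sylow p C),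
      IsCyclic P ∨ ∃ n : ℕ, Nonempty (P ≃* QuaternionGroup (2 ^ n))) ∧
    (∀ x : X, x ∉ N → ∀ n ∈ N, x * n = n * x → n = 1) := by
  obtain ⟨N', hN'set, hN'n, hN'c⟩ := Cfsg.Agent.S0035.result C hC
  have hNN' : N' = N := SetLike.coe_injective (hN'set.trans hN.symm)
  subst hNN'
  have hCbot : C ≠ ⊥ := hC.1
  have hNbot : N' ≠ ⊥ := by
    intro h
    have h1 := hN'c.card_mul_card
    rw [h, Subgroup.card_bot, one_mul] at h1
    exact hC.2.1 (Subgroup.eq_top_of_card_eq C h1)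
  have hfpf := (Cfsg.Agent.S0039.result N' C hN'c hNbot hCbot).mp hC
  have hnil : Group.IsNilpotent N' := Cfsg.Agent.S0042.kernel_nilpotent C hC N' hN'set
  have hcop : (Nat.card C).Coprime (Nat.card N') := by
    obtain ⟨h1, h2⟩ := Cfsg.Agent.S0034.result C hC
    have h3 : Nat.card N' = C.index := by
      rw [← h1]; exact Nat.card_congr (Equiv.setCongr hN'set)
    rw [h3, Nat.Coprime, Nat.gcd_rec, h2, ← Nat.gcd_rec, Nat.gcd_one_right]
  refine ⟨hN'n, hN'c, hnil, hNbot, hCbot, hfpf, hcop,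
    fun p _ P => Cfsg.Agent.S0040.result N' C hN'c hNbot hfpf p P, ?_⟩
  intro x hx n hn hcomm
  have hx' : x ∉ Cfsg.frobeniusKernel C := by rw [← hN'set]; exact hx
  change ¬ (x = 1 ∨ ∀ g : X, x ∉ MulAut.conj g • C) at hx'
  push Not at hx'
  obtain ⟨hx1, g, hg⟩ := hx'
  rw [Subgroup.mem_pointwise_smul_iff_inv_smul_mem] at hg
  have hg' : g⁻¹ * x * g ∈ C := by simpa [MulAut.smul_def] using hg
  have h1 : g⁻¹ * x * g ≠ 1 := by
    intro h; apply hx1
    calc x = g * (g⁻¹ * x * g) * g⁻¹ := by group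
      _ = 1 := by rw [h]; group
  have h2 := hfpf _ hg' h1
  have h3 : g⁻¹ * n * g ∈ N' ⊓ Subgroup.centralizer {g⁻¹ * x * g} := by
    refine Subgroup.mem_inf.mpr ⟨?_, ?_⟩
    · have := hN'n.conj_mem n hn g⁻¹; simpa using this
    · rw [Subgroup.mem_centralizer_singleton_iff]
      calc g⁻¹ * n * g * (g⁻¹ * x * g) = g⁻¹ * (n * x) * g := by group
        _ = g⁻¹ * (x * n) * g := by rw [hcomm]
        _ = g⁻¹ * x * g * (g⁻¹ * n * g) := by group
  rw [h2, Subgroup.mem_bot] at h3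
  calc n = g * (g⁻¹ * n * g) * g⁻¹ := by group
    _ = 1 := by rw [h3]; group

/-- An involution acting without nontrivial fixed points on a finite normal subgroup inverts
it. -/
theorem inverts_of_fpf_involution {X : Type*} [Group X] [Finite X] (N : Subgroup X) [N.Normal]
    (t : X) (ht : t * t = 1) (hfix : ∀ n ∈ N, t * n = n * t → n = 1) (n : X) (hn : n ∈ N) :
    t * n * t⁻¹ = n⁻¹ := by
  have htinv : t⁻¹ = t := inv_eq_of_mul_eq_one_right ht
  let φ : N → N := fun x => ⟨(x : X)⁻¹ * (t * x * t⁻¹),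
    N.mul_mem (N.inv_mem x.2) (Subgroup.Normal.conj_mem inferInstance _ x.2 t)⟩
  have hinj : Function.Injective φ := by
    intro x y hxy
    have h1 : (x : X)⁻¹ * (t * x * t⁻¹) = (y : X)⁻¹ * (t * y * t⁻¹) := congrArg Subtype.val hxy
    have h2 : t * ((y : X) * (x : X)⁻¹) = ((y : X) * (x : X)⁻¹) * t := by
      calc t * ((y : X) * (x : X)⁻¹)
          = (y : X) * ((y : X)⁻¹ * (t * y * t⁻¹)) * t * (x : X)⁻¹ := by group
        _ = (y : X) * ((x : X)⁻¹ * (t * x * t⁻¹)) * t * (x : X)⁻¹ := by rw [h1]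
        _ = ((y : X) * (x : X)⁻¹) * t := by group
    have h3 := hfix _ (N.mul_mem y.2 (N.inv_mem x.2)) h2
    apply Subtype.ext
    calc (x : X) = ((y : X) * (x : X)⁻¹)⁻¹ * y := by group
      _ = y := by rw [h3]; group
  have hsurj : Function.Surjective φ := Finite.injective_iff_surjective.mp hinj
  obtain ⟨x, hx⟩ := hsurj ⟨n, hn⟩
  have h1 : (x : X)⁻¹ * (t * x * t⁻¹) = n := congrArg Subtype.val hx
  rw [← h1, htinv]
  calc t * ((x : X)⁻¹ * (t * x * t)) * t = (t * (x : X)⁻¹ * t) * x * (t * t) := by group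
    _ = ((x : X)⁻¹ * (t * x * t))⁻¹ := by
      rw [ht, mul_one]
      have h2 : ((x : X)⁻¹ * (t * x * t))⁻¹ = t⁻¹ * (x : X)⁻¹ * t⁻¹ * x := by group
      rw [h2, htinv]

/-- A Frobenius complement contains at most one involution. -/
theorem frobenius_complement_involution_unique {X : Type*} [Group X] [Finite X]
    (C N : Subgroup X) (hC : Cfsg.IsFrobeniusComplement C)
    (hN : (N : Set X) = Cfsg.frobeniusKernel C) (s t : X) (hs : s ∈ C) (ht : t ∈ C)
    (hs2 : orderOf s = 2) (ht2 : orderOf t = 2) : s = t := by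
  obtain ⟨hNn, -, -, hNbot, -, hfpf, -, -, -⟩ := frobenius_facts C N hC hN
  have hss : s * s = 1 := by rw [← pow_two, ← hs2]; exact pow_orderOf_eq_one s
  have htt : t * t = 1 := by rw [← pow_two, ← ht2]; exact pow_orderOf_eq_one t
  have hs1 : s ≠ 1 := by
    intro h; rw [h, orderOf_one] at hs2; omega
  have ht1 : t ≠ 1 := by
    intro h; rw [h, orderOf_one] at ht2; omega
  have hfix : ∀ c ∈ C, c ≠ 1 → ∀ n ∈ N, c * n = n * c → n = 1 := by
    intro c hc hc1 n hn hcomm
    have h1 : n ∈ N ⊓ Subgroup.centralizer {c} :=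
      Subgroup.mem_inf.mpr ⟨hn, Subgroup.mem_centralizer_singleton_iff.mpr hcomm.symm⟩
    rw [hfpf c hc hc1, Subgroup.mem_bot] at h1
    exact h1
  have hsinv := inverts_of_fpf_involution N s hss (hfix s hs hs1)
  have htinv := inverts_of_fpf_involution N t htt (hfix t ht ht1)
  by_contra hst
  have hu1 : s * t⁻¹ ≠ 1 := fun h => hst (mul_inv_eq_one.mp h)
  have huC : s * t⁻¹ ∈ C := C.mul_mem hs (C.inv_mem ht)
  apply hNbot
  rw [Subgroup.eq_bot_iff_forall]
  intro n hn
  apply hfix _ huC hu1 n hn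
  have h1 := hsinv n hn
  have h2 := htinv n hn
  have h3 : t⁻¹ * n * t = n⁻¹ := by
    have h4 : t⁻¹ = t := inv_eq_of_mul_eq_one_right htt
    rw [h4]; nth_rewrite 2 [← h4]; exact h2
  have h5 : t⁻¹ * n = n⁻¹ * t⁻¹ := by
    calc t⁻¹ * n = (t⁻¹ * n * t) * t⁻¹ := by group
      _ = n⁻¹ * t⁻¹ := by rw [h3]
  have h6 : s * n⁻¹ = n * s := by
    have h7 : s * n⁻¹ * s⁻¹ = n := by
      have := hsinv n⁻¹ (N.inv_mem hn)
      rwa [inv_inv] at this
    calc s * n⁻¹ = (s * n⁻¹ * s⁻¹) * s := by group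
      _ = n * s := by rw [h7]
  calc s * t⁻¹ * n = s * (t⁻¹ * n) := by group
    _ = s * (n⁻¹ * t⁻¹) := by rw [h5]
    _ = (s * n⁻¹) * t⁻¹ := by group
    _ = n * s * t⁻¹ := by rw [h6]
    _ = n * (s * t⁻¹) := by group

end Cfsg.Agent.Lib.Helper1
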