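import Mathlib
import Cfsg.Agent.Lib.Helper1.HallConj

set_option autoImplicit false

namespace Cfsg.Agent.Lib.Helper1

open Pointwise

universe u

/-- Hall's theorem, containment. -/
theorem hall_le_aux (n₀ : ℕ) : ∀ (G : Type u) [Group G] [Finite G] [Group.IsSolvable G],
    Nat.card G = n₀ → ∀ m n : ℕ, Nat.card G = m * n → m.Coprime n →
    ∀ K : Subgroup G, (Nat.card K).Coprime n →
      ∃ H : Subgroup G, Nat.card H = m ∧ K ≤ H := by
  induction n₀ using Nat.strongRecOn with | ind n₀ ih => ?_
  intro G _ _ _ hn₀ m n hG hmn K hK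
  rcases subsingleton_or_nontrivial G with hs | hnt
  · refine ⟨⊥, ?_, ?_⟩
    · have h1 : Nat.card G = 1 := Nat.card_eq_one_iff_unique.mpr ⟨hs, ⟨1⟩⟩
      rw [h1] at hG
      rw [Subgroup.card_bot]
      exact (Nat.eq_one_of_mul_eq_one_right hG.symm).symm
    · rw [Subgroup.eq_bot_of_subsingleton K]
  · obtain ⟨Q, p, k, hQn, hQc, hp, hkpos, hk⟩ := exists_minNormal_pGroup G
    have hcq := card_eq_card_quot_mul Q
    rw [hk] at hcq
    have hpk : 1 < p ^ k := Nat.one_lt_pow hkpos.ne' hp.one_lt
    have hpkpos : 0 < p ^ k := pow_pos hp.pos k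
    have hqpos : 0 < Nat.card (G ⧸ Q) := Nat.card_pos
    have hcardquot : Nat.card (G ⧸ Q) < Nat.card G := by
      rw [hcq]; exact lt_mul_of_one_lt_right hqpos hpk
    have hdvd : p ^ k ∣ m * n := by rw [← hG, hcq]; exact dvd_mul_left _ _
    set π := QuotientGroup.mk' Q with hπdef
    have hKbar : Nat.card (K.map π) ∣ Nat.card K := Subgroup.card_map_dvd K π
    rcases prime_pow_dvd_cases hp hdvd hmn with ⟨⟨m', hm'⟩, hpn⟩ | ⟨⟨n', hn'⟩, hpm⟩
    · -- p ^ k ∣ m
      have hq : Nat.card (G ⧸ Q) = m' * n := by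
        have : Nat.card (G ⧸ Q) * p ^ k = (m' * n) * p ^ k := by
          rw [← hcq, hG, hm']; ring
        exact Nat.eq_of_mul_eq_mul_right hpkpos this
      have hcop : m'.Coprime n := hmn.coprime_dvd_left (Dvd.intro_left _ hm'.symm)
      obtain ⟨X, hX, hKX⟩ := ih _ (hn₀ ▸ hcardquot) (G ⧸ Q) rfl m' n hq hcop (K.map π)
        (hK.coprime_dvd_left hKbar)
      refine ⟨X.comap π, ?_, Subgroup.map_le_iff_le_comap.mp hKX⟩
      rw [card_comap_mk', hX, hk, hm']; ring
    · -- p ^ k ∣ n
      have hq : Nat.card (G ⧸ Q) = m * n' := by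
        have : Nat.card (G ⧸ Q) * p ^ k = (m * n') * p ^ k := by
          rw [← hcq, hG, hn']; ring
        exact Nat.eq_of_mul_eq_mul_right hpkpos this
      have hcop : m.Coprime n' := hmn.coprime_dvd_right (Dvd.intro_left _ hn'.symm)
      have hcopL : m.Coprime (p ^ k) :=
        (Nat.Coprime.pow_left k ((hp.coprime_iff_not_dvd).mpr hpm)).symm
      have hKpk : (Nat.card K).Coprime (p ^ k) := hK.coprime_dvd_right (Dvd.intro _ hn'.symm)
      obtain ⟨X, hX, hKX⟩ := ih _ (hn₀ ▸ hcardquot) (G ⧸ Q) rfl m n' hq hcop (K.map π)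
        ((hK.coprime_dvd_right (Dvd.intro_left _ hn'.symm)).coprime_dvd_left hKbar)
      set L : Subgroup G := X.comap π with hL
      have hKL : K ≤ L := Subgroup.map_le_iff_le_comap.mp hKX
      have hcardL : Nat.card L = m * p ^ k := by rw [hL, card_comap_mk', hX, hk]
      by_cases hLtop : L = ⊤
      · have hQidx : Q.index = m := by
          have h1 := Subgroup.card_mul_index Q
          rw [hk, ← Subgroup.card_top (G := G), ← hLtop, hcardL, mul_comm m] at h1
          exact Nat.eq_of_mul_eq_mul_left hpkpos h1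
        have hcopQ : (Nat.card Q).Coprime Q.index := by rw [hk, hQidx]; exact hcopL.symm
        obtain ⟨H₀, hH₀⟩ := Subgroup.exists_right_complement'_of_coprime hcopQ
        have hcardH₀ : Nat.card H₀ = m := by rw [← hH₀.symm.index_eq_card, hQidx]
        set C : Subgroup G := Q ⊔ K with hC
        set X₀ : Subgroup G := H₀ ⊓ C with hX₀
        have hQC : Q ≤ C := le_sup_left
        have hKC : K ≤ C := le_sup_right
        have hX₀C : X₀ ≤ C := inf_le_right
        have hQK : Nat.card (Q ⊓ K : Subgroup G) = 1 := by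
          have d1 : Nat.card (Q ⊓ K : Subgroup G) ∣ p ^ k :=
            hk ▸ Subgroup.card_dvd_of_le inf_le_left
          have d2 : Nat.card (Q ⊓ K : Subgroup G) ∣ Nat.card K :=
            Subgroup.card_dvd_of_le inf_le_right
          exact Nat.eq_one_of_dvd_coprimes hKpk.symm d1 d2
        have hcardC : Nat.card C = p ^ k * Nat.card K := by
          have h1 := card_sup_mul_card_inf Q K
          rwa [hQK, mul_one, hk] at h1
        have hQX₀ : Nat.card (Q ⊓ X₀ : Subgroup G) = 1 := by
          have d1 : Nat.card (Q ⊓ X₀ : Subgroup G) ∣ p ^ k :=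
            hk ▸ Subgroup.card_dvd_of_le inf_le_left
          have d2 : Nat.card (Q ⊓ X₀ : Subgroup G) ∣ m :=
            hcardH₀ ▸ Subgroup.card_dvd_of_le (inf_le_right.trans inf_le_left)
          exact Nat.eq_one_of_dvd_coprimes hcopL.symm d1 d2
        have hsup : Q ⊔ X₀ = C := by
          apply le_antisymm (sup_le hQC hX₀C)
          intro c hc
          obtain ⟨q, hq, h, hh, rfl⟩ := exists_mul_of_isComplement' hH₀ c
          have hhC : h ∈ C := by
            have : h = q⁻¹ * (q * h) := by group
            rw [this]; exact C.mul_mem (C.inv_mem (hQC hq)) hc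
          exact Subgroup.mul_mem_sup hq (Subgroup.mem_inf.mpr ⟨hh, hhC⟩)
        have hcardX₀ : Nat.card X₀ = Nat.card K := by
          have h1 := card_sup_mul_card_inf Q X₀
          rw [hQX₀, mul_one, hsup, hcardC, hk] at h1
          exact (Nat.eq_of_mul_eq_mul_left hpkpos h1).symm
        have hQCn : (Q.subgroupOf C).Normal := Subgroup.normal_subgroupOf
        have hcardQC : Nat.card (Q.subgroupOf C) = p ^ k := by
          rw [card_subgroupOf_of_le hQC, hk]
        have hidxQC : (Q.subgroupOf C).index = Nat.card K := by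
          have h1 := Subgroup.card_mul_index (Q.subgroupOf C)
          rw [hcardQC, hcardC] at h1
          exact Nat.eq_of_mul_eq_mul_left hpkpos h1
        have hcopQC : (Nat.card (Q.subgroupOf C)).Coprime (Q.subgroupOf C).index := by
          rw [hcardQC, hidxQC]; exact hKpk.symm
        obtain ⟨c, hc⟩ := sz_conj_card (Q.subgroupOf C) hcopQC (Or.inl inferInstance)
          (X₀.subgroupOf C) (K.subgroupOf C)
          (by rw [card_subgroupOf_of_le hX₀C, hcardX₀, hidxQC])
          (by rw [card_subgroupOf_of_le hKC, hidxQC])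
        have h3 := conj_smul_of_subgroupOf hX₀C hKC c hc
        refine ⟨MulAut.conj (c : G) • H₀, by rw [card_conj_smul, hcardH₀], ?_⟩
        rw [← h3]
        exact Subgroup.pointwise_smul_le_pointwise_smul_iff.mpr inf_le_left
      · have hltL : Nat.card L < Nat.card G := by
          have := card_lt_card_of_lt (lt_top_iff_ne_top.mpr hLtop)
          rwa [Subgroup.card_top] at this
        obtain ⟨H', hH', hKH'⟩ := ih _ (hn₀ ▸ hltL) L rfl m (p ^ k) hcardL hcopL
          (K.subgroupOf L) (by rw [card_subgroupOf_of_le hKL]; exact hKpk)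
        refine ⟨H'.map L.subtype, ?_, ?_⟩
        · rw [Subgroup.card_map_of_injective L.subtype_injective, hH']
        · have h1 : (K.subgroupOf L).map L.subtype ≤ H'.map L.subtype := Subgroup.map_mono hKH'
          rwa [Subgroup.subgroupOf_map_subtype, inf_of_le_left hKL] at h1

/-- Hall's theorem, containment. -/
theorem hall_le {G : Type u} [Group G] [Finite G] [Group.IsSolvable G] (m n : ℕ)
    (hG : Nat.card G = m * n) (hmn : m.Coprime n) (K : Subgroup G)
    (hK : (Nat.card K).Coprime n) : ∃ H : Subgroup G, Nat.card H = m ∧ K ≤ H :=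
  hall_le_aux _ G rfl m n hG hmn K hK

end Cfsg.Agent.Lib.Helper1
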