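import Mathlib

/-!
# Elementary tools for the two-prime argument of statement S4017 (helper1)

`PE p y` : `y` is a `p`-element; `Invo t` : `t` is an involution.
* `orb` : a `p`-element normalizing a subgroup `T` with at most `p + 1` elements and moving some
  element of `T` acts transitively on the nontrivial elements of `T`, and `T` has `p + 1` elements.
* `card_sup_dvd` : `|A ⊔ B|` divides `|A| * |B|` when `A` normalizes `B`.
* `exists_two_pow_mul` : a number whose prime divisors are `2` or `p` is `2 ^ i * p ^ j`.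
-/

set_option autoImplicit false

namespace Cfsg.Agent.Lib.Helper1.Mix

variable {G : Type*} [Group G]

/-- `y` is a `p`-element. -/
def PE (p : ℕ) (y : G) : Prop := ∃ k : ℕ, y ^ p ^ k = 1

/-- `t` is an involution. -/
def Invo (t : G) : Prop := t ≠ 1 ∧ t * t = 1

theorem Invo.inv_eq {t : G} (h : Invo t) : t⁻¹ = t := inv_eq_of_mul_eq_one_left h.2

theorem Invo.conj {t : G} (h : Invo t) (g : G) : Invo (g * t * g⁻¹) := by
  refine ⟨fun h1 => h.1 ?_, ?_⟩
  · have : t = g⁻¹ * (g * t * g⁻¹) * g := by group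
    rw [this, h1]; group
  · have : g * t * g⁻¹ * (g * t * g⁻¹) = g * (t * t) * g⁻¹ := by group
    rw [this, h.2]; group

theorem Invo.orderOf {t : G} (h : Invo t) : orderOf t = 2 := by
  refine orderOf_eq_prime ?_ h.1
  rw [pow_two]; exact h.2

theorem PE.one (p : ℕ) : PE p (1 : G) := ⟨0, by simp⟩

theorem PE.isPGroup {p : ℕ} {y : G} (h : PE p y) : IsPGroup p (Subgroup.zpowers y) := by
  obtain ⟨k, hk⟩ := h
  rintro ⟨g, hg⟩
  obtain ⟨n, rfl⟩ := Subgroup.mem_zpowers_iff.1 hg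
  refine ⟨k, Subtype.ext ?_⟩
  show (y ^ n) ^ p ^ k = 1
  rw [← zpow_natCast, ← zpow_mul, mul_comm, zpow_mul, zpow_natCast, hk, one_zpow]

theorem PE.of_mem {p : ℕ} {P : Subgroup G} (hP : IsPGroup p P) {y : G} (hy : y ∈ P) : PE p y := by
  obtain ⟨k, hk⟩ := hP ⟨y, hy⟩
  exact ⟨k, by simpa using congrArg Subtype.val hk⟩

theorem PE.conj {p : ℕ} {y : G} (h : PE p y) (g : G) : PE p (g * y * g⁻¹) := by
  obtain ⟨k, hk⟩ := h
  exact ⟨k, by rw [conj_pow, hk, mul_one, mul_inv_cancel]⟩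

theorem PE.zpow {p : ℕ} {y : G} (h : PE p y) (n : ℤ) : PE p (y ^ n) :=
  PE.of_mem h.isPGroup (Subgroup.zpow_mem _ (Subgroup.mem_zpowers y) n)

theorem PE.pow {p : ℕ} {y : G} (h : PE p y) (n : ℕ) : PE p (y ^ n) :=
  PE.of_mem h.isPGroup (Subgroup.pow_mem _ (Subgroup.mem_zpowers y) n)

theorem PE.inv {p : ℕ} {y : G} (h : PE p y) : PE p y⁻¹ :=
  PE.of_mem h.isPGroup (Subgroup.inv_mem _ (Subgroup.mem_zpowers y))

theorem PE.of_mem_zpowers {p : ℕ} {y c : G} (h : PE p y) (hc : c ∈ Subgroup.zpowers y) :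
    PE p c :=
  PE.of_mem h.isPGroup hc

theorem PE.orderOf_dvd {p : ℕ} {y : G} (h : PE p y) : ∃ k, orderOf y ∣ p ^ k := by
  obtain ⟨k, hk⟩ := h
  exact ⟨k, orderOf_dvd_of_pow_eq_one hk⟩

/-- An element that is both a `p`-element and a `q`-element, `p ≠ q` primes, is trivial. -/
theorem PE.eq_one_of_ne {p q : ℕ} (hp : p.Prime) (hq : q.Prime) (hpq : p ≠ q) {y : G}
    (h : PE p y) (h2 : PE q y) : y = 1 := by
  obtain ⟨k, hk⟩ := h.orderOf_dvd
  obtain ⟨m, hm⟩ := h2.orderOf_dvd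
  have hc : (p ^ k).Coprime (q ^ m) :=
    Nat.Coprime.pow k m ((Nat.coprime_primes hp hq).2 hpq)
  exact orderOf_eq_one_iff.1 (Nat.eq_one_of_dvd_coprimes hc hk hm)

theorem PE.eq_one_of_sq {p : ℕ} (hp : p.Prime) (hp2 : p ≠ 2) {y : G}
    (h : PE p y) (h2 : y * y = 1) : y = 1 :=
  h.eq_one_of_ne hp Nat.prime_two hp2 ⟨1, by rw [pow_one, pow_two]; exact h2⟩

/-- An element inverted by an element commuting with it is trivial, for `p` odd. -/
theorem PE.eq_one_of_inv {p : ℕ} (hp : p.Prime) (hp2 : p ≠ 2) {y s : G}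
    (h : PE p y) (hinv : s * y * s⁻¹ = y⁻¹) (hc : y * s = s * y) : y = 1 := by
  apply h.eq_one_of_sq hp hp2
  have h1 : s * y * s⁻¹ = y := by rw [← hc]; group
  rw [h1] at hinv
  calc y * y = y * y⁻¹ := by rw [← hinv]
    _ = 1 := mul_inv_cancel y

/-- A `p`-element normalizing a subgroup `T` with at most `p + 1` elements and moving an element
of `T` is transitive on the nontrivial elements of `T`, and `T` has exactly `p + 1` elements. -/
theorem orb [Finite G] {p : ℕ} (hp : p.Prime) (T : Subgroup G) (hT : Nat.card T ≤ p + 1) {g : G}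
    (hg : PE p g) (hgT : g ∈ Subgroup.normalizer (T : Set G)) {z : G} (hz : z ∈ T)
    (hne : g * z * g⁻¹ ≠ z) :
    Nat.card T = p + 1 ∧ ∀ u ∈ T, u ≠ 1 → ∃ c ∈ Subgroup.zpowers g, c * z * c⁻¹ = u := by
  classical
  have := Fact.mk hp
  obtain ⟨k, hk⟩ := hg
  have hHp : IsPGroup p (Subgroup.zpowers (ConjAct.toConjAct g)) := by
    apply PE.isPGroup
    exact ⟨k, by rw [← map_pow, hk, map_one]⟩
  obtain ⟨n, hn⟩ := hHp.card_orbit z
  have hact : ∀ m : ℤ, ∀ hc : ConjAct.toConjAct g ^ m ∈ Subgroup.zpowers (ConjAct.toConjAct g),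
      (⟨ConjAct.toConjAct g ^ m, hc⟩ : Subgroup.zpowers (ConjAct.toConjAct g)) • z
        = g ^ m * z * (g ^ m)⁻¹ := by
    intro m hc
    rw [Subgroup.mk_smul, ConjAct.smul_def, map_zpow, ConjAct.ofConjAct_toConjAct]
  have hz1 : z ≠ 1 := by
    rintro rfl
    exact hne (by group)
  have hsub : MulAction.orbit (Subgroup.zpowers (ConjAct.toConjAct g)) z ⊆ (T : Set G) \ {1} := by
    rintro _ ⟨⟨c, hc⟩, rfl⟩
    obtain ⟨m, rfl⟩ := Subgroup.mem_zpowers_iff.1 hc
    show (⟨ConjAct.toConjAct g ^ m, hc⟩ : Subgroup.zpowers (ConjAct.toConjAct g)) • z ∈ _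
    rw [hact m hc]
    have hm : g ^ m ∈ Subgroup.normalizer (T : Set G) := Subgroup.zpow_mem _ hgT m
    refine ⟨(Subgroup.mem_normalizer_iff.1 hm z).1 hz, ?_⟩
    intro h1
    rw [Set.mem_singleton_iff] at h1
    apply hz1
    have : z = (g ^ m)⁻¹ * (g ^ m * z * (g ^ m)⁻¹) * g ^ m := by group
    rw [this, h1]; group
  have hfin : ((T : Set G) \ {1}).Finite := Set.toFinite _
  have hcardT : ((T : Set G) \ {1}).ncard = Nat.card T - 1 := by
    rw [Set.ncard_sdiff_singleton_of_mem (Subgroup.one_mem T)]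
    rfl
  have hle : (MulAction.orbit (Subgroup.zpowers (ConjAct.toConjAct g)) z).ncard
      ≤ ((T : Set G) \ {1}).ncard := Set.ncard_le_ncard hsub hfin
  have hn' : (MulAction.orbit (Subgroup.zpowers (ConjAct.toConjAct g)) z).ncard = p ^ n := by
    rw [← hn]; rfl
  have hn0 : n ≠ 0 := by
    rintro rfl
    rw [pow_zero] at hn'
    obtain ⟨a, ha⟩ := Set.ncard_eq_one.1 hn'
    have h1 : z ∈ MulAction.orbit (Subgroup.zpowers (ConjAct.toConjAct g)) z :=
      MulAction.mem_orbit_self z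
    have h2 : g * z * g⁻¹ ∈ MulAction.orbit (Subgroup.zpowers (ConjAct.toConjAct g)) z := by
      refine ⟨⟨ConjAct.toConjAct g ^ (1 : ℤ), Subgroup.zpow_mem_zpowers _ 1⟩, ?_⟩
      show (⟨ConjAct.toConjAct g ^ (1 : ℤ), _⟩ : Subgroup.zpowers (ConjAct.toConjAct g)) • z = _
      rw [hact 1]; simp
    rw [ha, Set.mem_singleton_iff] at h1 h2
    exact hne (h2.trans h1.symm)
  have hpn : p ≤ p ^ n := Nat.le_self_pow hn0 p
  have hT1 : 1 ≤ Nat.card T := Nat.one_le_iff_ne_zero.2 Nat.card_pos.ne'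
  have hcard : Nat.card T = p + 1 := by omega
  refine ⟨hcard, ?_⟩
  have heq : MulAction.orbit (Subgroup.zpowers (ConjAct.toConjAct g)) z = (T : Set G) \ {1} := by
    apply Set.eq_of_subset_of_ncard_le hsub _ hfin
    rw [hcardT, hn']; omega
  intro u hu hu1
  have hmem : u ∈ MulAction.orbit (Subgroup.zpowers (ConjAct.toConjAct g)) z := by
    rw [heq]; exact ⟨hu, hu1⟩
  obtain ⟨⟨c, hc⟩, hcu⟩ := hmem
  obtain ⟨m, rfl⟩ := Subgroup.mem_zpowers_iff.1 hc
  refine ⟨g ^ m, Subgroup.zpow_mem_zpowers g m, ?_⟩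
  rw [← hact m hc]; exact hcu

/-- `|A ⊔ B|` divides `|A| * |B|` when `A` normalizes `B`. -/
theorem card_sup_dvd (A B : Subgroup G) (h : A ≤ Subgroup.normalizer (B : Set G)) :
    Nat.card (A ⊔ B : Subgroup G) ∣ Nat.card A * Nat.card B := by
  have hB : B ≤ Subgroup.normalizer (B : Set G) := Subgroup.le_normalizer
  have hAB : A ⊔ B ≤ Subgroup.normalizer (B : Set G) := sup_le h hB
  have h1 := Subgroup.relIndex_sup_right (A.subgroupOf (Subgroup.normalizer (B : Set G)))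
    (B.subgroupOf (Subgroup.normalizer (B : Set G)))
  have h2 := Subgroup.relIndex_mul_relIndex (⊥ : Subgroup (Subgroup.normalizer (B : Set G)))
    (B.subgroupOf (Subgroup.normalizer (B : Set G)))
    (A.subgroupOf (Subgroup.normalizer (B : Set G)) ⊔ B.subgroupOf (Subgroup.normalizer (B : Set G)))
    bot_le le_sup_right
  rw [Subgroup.relIndex_bot_left, Subgroup.relIndex_bot_left, h1] at h2
  have h3 : A.subgroupOf (Subgroup.normalizer (B : Set G)) ⊔
      B.subgroupOf (Subgroup.normalizer (B : Set G))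
      = (A ⊔ B).subgroupOf (Subgroup.normalizer (B : Set G)) :=
    (Subgroup.subgroupOf_sup h hB).symm
  have hc : ∀ K : Subgroup G, K ≤ Subgroup.normalizer (B : Set G) →
      Nat.card (K.subgroupOf (Subgroup.normalizer (B : Set G))) = Nat.card K := fun K hK =>
    Nat.card_congr (Subgroup.subgroupOfEquivOfLe hK).toEquiv
  rw [h3, hc _ hAB, hc _ hB] at h2
  rw [← h2, mul_comm]
  apply Nat.mul_dvd_mul_right
  have := Subgroup.relIndex_dvd_card (B.subgroupOf (Subgroup.normalizer (B : Set G)))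
    (A.subgroupOf (Subgroup.normalizer (B : Set G)))
  rwa [hc _ h] at this

/-- A nonzero number whose prime divisors are `2` or `p` is of the form `2 ^ i * p ^ j`. -/
theorem exists_two_pow_mul {p n : ℕ} (hp : p.Prime) (hn : n ≠ 0)
    (h : ∀ r : ℕ, r.Prime → r ∣ n → r = 2 ∨ r = p) : ∃ i j : ℕ, n = 2 ^ i * p ^ j := by
  obtain ⟨i, n', h2, rfl⟩ := Nat.exists_eq_pow_mul_and_not_dvd hn 2 (by norm_num)
  have hn' : n' ≠ 0 := by rintro rfl; simp at hn
  obtain ⟨j, n'', hp', rfl⟩ := Nat.exists_eq_pow_mul_and_not_dvd hn' p hp.ne_one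
  refine ⟨i, j, ?_⟩
  have : n'' = 1 := by
    by_contra hne
    obtain ⟨r, hr, hrd⟩ := Nat.exists_prime_and_dvd hne
    rcases h r hr (Dvd.dvd.mul_left (Dvd.dvd.mul_left hrd _) _) with rfl | rfl
    · exact h2 (Dvd.dvd.mul_left hrd _)
    · exact hp' hrd
  rw [this, mul_one]

end Cfsg.Agent.Lib.Helper1.Mix
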