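import Mathlib
import Cfsg.Agent.Lib.Helper1.MixBase
import Cfsg.Agent.Lib.Helper1.Basic
import Cfsg.Agent.Lib.Helper1.FittingPrimary
import Cfsg.Agent.S0044
import Cfsg.Agent.Lib.Helper3.BurnsidePQ

/-!
# Solvable `{2, p}`-subgroups (helper1, for statement S4017)

* `mem_pCore_of_centralizes` : in a solvable group a `p`-element centralizing every `O_q` lies
  in `O_p`.
* `exists_normal_p` : a `{2, p}`-subgroup `H` whose `p`-elements centralize the normal
  `2`-subgroups of `H` (and with abelian `p`-subgroups) has a normal Sylow `p`-subgroup.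
* `join_eq` : a `{2, p}`-subgroup containing Sylow subgroups for `2` and `p` is their join.
* Sylow conjugation helpers.
-/

set_option autoImplicit false

namespace Cfsg.Agent.Lib.Helper1.Mix

universe u

variable {G : Type u} [Group G]

theorem mem_pCore_of_centralizes {N : Type*} [Group N] [Finite N] [Group.IsSolvable N] {p : ℕ}
    [Fact p.Prime] (y : N) (hy : PE p y)
    (hc : ∀ q : ℕ, q.Prime → ∀ z ∈ Cfsg.pCore q N, y * z = z * y) : y ∈ Cfsg.pCore p N := by
  obtain ⟨k, hk⟩ := hy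
  have h1 : Cfsg.fittingSubgroup N ≤ Subgroup.centralizer {y} := by
    apply fitting_le_of_pCore_le
    intro q hq z hz
    rw [Subgroup.mem_centralizer_singleton_iff]
    exact (hc q hq z hz).symm
  have h2 : y ∈ Subgroup.centralizer (Cfsg.fittingSubgroup N : Set N) := by
    rw [Subgroup.mem_centralizer_iff]
    intro z hz
    have := h1 hz
    rw [Subgroup.mem_centralizer_singleton_iff] at this
    exact this
  exact mem_pCore_of_mem_fitting y (Cfsg.Agent.S0044.result h2) k hk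

/-- A `{2, p}`-subgroup `H` whose `p`-elements centralize the normal `2`-subgroups of `H` has a
normal Sylow `p`-subgroup, provided `p`-subgroups are abelian. -/
theorem exists_normal_p [Finite G] {p : ℕ} (hp : p.Prime)
    (pcomm : ∀ P : Subgroup G, IsPGroup p P → ∀ g ∈ P, ∀ h ∈ P, g * h = h * g)
    (H : Subgroup G) (hH : ∀ r : ℕ, r.Prime → r ∣ Nat.card H → r = 2 ∨ r = p)
    (hcent : ∀ T : Subgroup G, IsPGroup 2 T → T ≤ H → H ≤ Subgroup.normalizer (T : Set G) →
      ∀ y ∈ H, PE p y → ∀ z ∈ T, y * z = z * y) :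
    ∃ D : Subgroup G, IsPGroup p D ∧ D ≤ H ∧ H ≤ Subgroup.normalizer (D : Set G) ∧
      ∀ y ∈ H, PE p y → y ∈ D := by
  have := Fact.mk hp
  obtain ⟨i, j, hij⟩ := exists_two_pow_mul hp Nat.card_pos.ne' hH
  have hsol : Group.IsSolvable H :=
    Cfsg.Agent.Lib.Helper3.burnside_paqb _ H 2 p i j Nat.prime_two hp rfl hij
  have hnorm : ∀ q : ℕ, H ≤ Subgroup.normalizer
      (((Cfsg.pCore q H).map H.subtype : Subgroup G) : Set G) := by
    intro q
    rw [Subgroup.le_normalizer_iff]
    rintro h hh _ ⟨z, hz, rfl⟩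
    have hn : (Cfsg.pCore q H).Normal := inferInstance
    exact ⟨⟨h, hh⟩ * z * ⟨h, hh⟩⁻¹, hn.conj_mem z hz ⟨h, hh⟩, rfl⟩
  refine ⟨(Cfsg.pCore p H).map H.subtype,
    (Cfsg.Agent.Lib.Helper55.pCore_isPGroup p H).map _, Subgroup.map_subtype_le _, hnorm p, ?_⟩
  intro y hy hpe
  have hy' : PE p (⟨y, hy⟩ : H) := by
    obtain ⟨k, hk⟩ := hpe
    exact ⟨k, Subtype.ext (by simpa using hk)⟩
  have key : (⟨y, hy⟩ : H) ∈ Cfsg.pCore p H := by
    apply mem_pCore_of_centralizes _ hy'
    intro q hq z hz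
    by_cases hq2 : q = 2
    · subst hq2
      have hT : IsPGroup 2 ((Cfsg.pCore 2 H).map H.subtype) :=
        (Cfsg.Agent.Lib.Helper55.pCore_isPGroup 2 H).map _
      have := hcent _ hT (Subgroup.map_subtype_le _) (hnorm 2) y hy hpe z ⟨z, hz, rfl⟩
      exact Subtype.ext this
    · by_cases hqp : q = p
      · subst hqp
        have hsup : IsPGroup q
            (Cfsg.pCore q H ⊔ Subgroup.zpowers (⟨y, hy⟩ : H) : Subgroup H) :=
          (Cfsg.Agent.Lib.Helper55.pCore_isPGroup q H).to_sup_of_normal_left hy'.isPGroup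
        have := pcomm _ (hsup.map H.subtype) y
          ⟨⟨y, hy⟩, Subgroup.mem_sup_right (Subgroup.mem_zpowers _), rfl⟩ z
          ⟨z, Subgroup.mem_sup_left hz, rfl⟩
        exact Subtype.ext this
      · have : Fact q.Prime := ⟨hq⟩
        have hz1 : z = 1 := by
          have hzq : PE q z := PE.of_mem (Cfsg.Agent.Lib.Helper55.pCore_isPGroup q H) hz
          obtain ⟨m, hm⟩ := hzq.orderOf_dvd
          by_contra hne
          have h1 : orderOf z ≠ 1 := fun h => hne (orderOf_eq_one_iff.1 h)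
          obtain ⟨r, hr, hrd⟩ := Nat.exists_prime_and_dvd h1
          have hrq : r = q :=
            (Nat.prime_dvd_prime_iff_eq hr hq).1 (hr.dvd_of_dvd_pow (hrd.trans hm))
          have := hH r hr (hrd.trans (orderOf_dvd_natCard z))
          omega
        rw [hz1, mul_one, one_mul]
  exact ⟨⟨y, hy⟩, key, rfl⟩

/-- A `{2, p}`-subgroup containing a Sylow `p`-subgroup and a Sylow `2`-subgroup of `G` is
their join. -/
theorem join_eq [Finite G] {p : ℕ} (hp : p.Prime) (hp2 : p ≠ 2) (H : Subgroup G)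
    (hH : ∀ r : ℕ, r.Prime → r ∣ Nat.card H → r = 2 ∨ r = p) (P : Sylow p G) (Q : Sylow 2 G)
    (hP : (P : Subgroup G) ≤ H) (hQ : (Q : Subgroup G) ≤ H) : H = (P : Subgroup G) ⊔ Q := by
  have := Fact.mk hp
  obtain ⟨i, j, hij⟩ := exists_two_pow_mul hp Nat.card_pos.ne' hH
  have hG : Nat.card G ≠ 0 := Nat.card_pos.ne'
  have hHG : Nat.card H ∣ Nat.card G := Subgroup.card_subgroup_dvd_card H
  have h2 : 2 ^ i ∣ Nat.card (Q : Subgroup G) := by
    rw [Sylow.card_eq_multiplicity]
    apply Nat.pow_dvd_pow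
    rw [← Nat.prime_two.pow_dvd_iff_le_factorization hG]
    exact (Dvd.intro _ hij.symm).trans hHG
  have h3 : p ^ j ∣ Nat.card (P : Subgroup G) := by
    rw [Sylow.card_eq_multiplicity]
    apply Nat.pow_dvd_pow
    rw [← hp.pow_dvd_iff_le_factorization hG]
    exact (Dvd.intro_left _ hij.symm).trans hHG
  have hcop : (Nat.card (P : Subgroup G)).Coprime (Nat.card (Q : Subgroup G)) := by
    rw [Sylow.card_eq_multiplicity, Sylow.card_eq_multiplicity]
    exact Nat.Coprime.pow _ _ ((Nat.coprime_primes hp Nat.prime_two).2 hp2)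
  have h4 : Nat.card (P : Subgroup G) * Nat.card (Q : Subgroup G) ∣
      Nat.card ((P : Subgroup G) ⊔ Q : Subgroup G) :=
    hcop.mul_dvd_of_dvd_of_dvd (Subgroup.card_dvd_of_le le_sup_left)
      (Subgroup.card_dvd_of_le le_sup_right)
  have h5 : Nat.card H ∣ Nat.card ((P : Subgroup G) ⊔ Q : Subgroup G) := by
    rw [hij, mul_comm]
    exact (Nat.mul_dvd_mul h3 h2).trans h4
  exact (Subgroup.eq_of_le_of_card_ge (sup_le hP hQ) (Nat.le_of_dvd Nat.card_pos h5)).symm

/-- Membership in a conjugate Sylow subgroup. -/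
theorem mem_smul_sylow {q : ℕ} (P : Sylow q G) (g x : G) : x ∈ g • P ↔ g⁻¹ * x * g ∈ P := by
  show x ∈ (↑(g • P) : Subgroup G) ↔ _
  rw [Sylow.coe_subgroup_smul, mem_conj_smul]; rfl

/-- A `q`-element normalizing a Sylow `q`-subgroup lies in it. -/
theorem mem_sylow_of_normalizer {q : ℕ} (P : Sylow q G) {c : G} (hc : PE q c)
    (hcN : c ∈ Subgroup.normalizer ((P : Subgroup G) : Set G)) : c ∈ P := by
  have h1 : IsPGroup q (Subgroup.zpowers c ⊔ (P : Subgroup G) : Subgroup G) :=
    hc.isPGroup.to_sup_of_normal_right' P.2 (Subgroup.zpowers_le.2 hcN)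
  have h2 := P.3 h1 le_sup_right
  have h3 : c ∈ (Subgroup.zpowers c ⊔ (P : Subgroup G) : Subgroup G) :=
    Subgroup.mem_sup_left (Subgroup.mem_zpowers c)
  rw [h2] at h3
  exact h3

/-- A `q`-subgroup normalizing a Sylow `q`-subgroup lies in it. -/
theorem le_sylow_of_le_normalizer {q : ℕ} (P : Sylow q G) {T : Subgroup G} (hT : IsPGroup q T)
    (hTN : T ≤ Subgroup.normalizer ((P : Subgroup G) : Set G)) : T ≤ P := by
  have h1 : IsPGroup q (T ⊔ (P : Subgroup G) : Subgroup G) := hT.to_sup_of_normal_right' P.2 hTN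
  have h2 := P.3 h1 le_sup_right
  rw [← h2]; exact le_sup_left

/-- A `q`-subgroup normalized by a Sylow `q`-subgroup lies in it. -/
theorem le_sylow_of_normalizer_ge {q : ℕ} (P : Sylow q G) {T : Subgroup G} (hT : IsPGroup q T)
    (hTN : (P : Subgroup G) ≤ Subgroup.normalizer (T : Set G)) : T ≤ P := by
  have h1 : IsPGroup q (T ⊔ (P : Subgroup G) : Subgroup G) := hT.to_sup_of_normal_left' P.2 hTN
  have h2 := P.3 h1 le_sup_right
  rw [← h2]; exact le_sup_left

theorem exists_sylow_mem [Finite G] {q : ℕ} [Fact q.Prime] {y : G} (hy : PE q y) :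
    ∃ P : Sylow q G, y ∈ P := by
  obtain ⟨P, hP⟩ := hy.isPGroup.exists_le_sylow
  exact ⟨P, hP (Subgroup.mem_zpowers y)⟩

theorem exists_smul_sylow [Finite G] {q : ℕ} [Fact q.Prime] (P P' : Sylow q G) :
    ∃ g : G, g • P = P' :=
  MulAction.exists_smul_eq G P P'

end Cfsg.Agent.Lib.Helper1.Mix
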