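import Mathlib
import Cfsg.Agent.Lib.Helper1.MixSolv

/-!
# The minimal configuration for statement S4017 (helper1)

`MixCtx G p a` records the properties of a minimal counterexample in the case `p = 2 ^ a - 1`:
elementary abelian Sylow `2`-subgroups of order `2 ^ a = p + 1` with a transitive `p`-element,
abelian Sylow `p`-subgroups, proper subgroups of even order are `{2, p}`-groups, and no
nontrivial `2`- or `p`-subgroup is normal.  This file derives the basic local facts.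
-/

set_option autoImplicit false
set_option linter.unusedSectionVars false

namespace Cfsg.Agent.Lib.Helper1.Mix

universe u

variable {G : Type u} [Group G]

/-- The context of the minimal configuration. -/
structure MixCtx (G : Type u) [Group G] (p a : ℕ) : Prop where
  hp : p.Prime
  hp2 : p ≠ 2
  ha : 2 ≤ a
  hpa : p + 1 = 2 ^ a
  card2 : ∀ Q : Sylow 2 G, Nat.card (Q : Subgroup G) = 2 ^ a
  two_sq : ∀ g : G, PE 2 g → g * g = 1
  p_comm : ∀ P : Sylow p G, ∀ g ∈ P, ∀ h ∈ P, g * h = h * g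
  proper : ∀ H : Subgroup G, H ≠ ⊤ → 2 ∣ Nat.card H →
    ∀ r : ℕ, r.Prime → r ∣ Nat.card H → r = 2 ∨ r = p
  norm2 : ∀ T : Subgroup G, IsPGroup 2 T → T ≠ ⊥ → Subgroup.normalizer (T : Set G) ≠ ⊤
  normp : ∀ N : Subgroup G, IsPGroup p N → N ≠ ⊥ → Subgroup.normalizer (N : Set G) ≠ ⊤
  trans : ∀ Q : Sylow 2 G, ∀ u ∈ Q, u ≠ 1 → ∀ v ∈ Q, v ≠ 1 →
    ∃ c : G, PE p c ∧ c ∈ Subgroup.normalizer ((Q : Subgroup G) : Set G) ∧ c * u * c⁻¹ = v

theorem comm_of_sq {g h : G} (hg : g * g = 1) (hh : h * h = 1) (hgh : g * h * (g * h) = 1) :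
    g * h = h * g := by
  have h1 : (g * h)⁻¹ = g * h := inv_eq_of_mul_eq_one_left hgh
  rw [mul_inv_rev, inv_eq_of_mul_eq_one_left hh, inv_eq_of_mul_eq_one_left hg] at h1
  exact h1.symm

theorem Invo.pe2 {t : G} (ht : Invo t) : PE 2 t := ⟨1, by rw [pow_one, pow_two]; exact ht.2⟩

theorem mem_normalizer_zpowers {g y : G} (h1 : g * y * g⁻¹ ∈ Subgroup.zpowers y)
    (h2 : g⁻¹ * y * g ∈ Subgroup.zpowers y) :
    g ∈ Subgroup.normalizer (Subgroup.zpowers y : Set G) := by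
  rw [Subgroup.mem_normalizer_iff]
  intro h
  constructor
  · rintro ⟨n, rfl⟩
    show g * y ^ n * g⁻¹ ∈ _
    rw [← conj_zpow]
    exact Subgroup.zpow_mem _ h1 n
  · intro hh
    obtain ⟨n, hn⟩ := hh
    have e1 : h = g⁻¹ * (g * h * g⁻¹) * g := by group
    have e2 : g⁻¹ * y ^ n * g = (g⁻¹ * y * g) ^ n := by
      have := conj_zpow (a := g⁻¹) (b := y) (i := n)
      rw [inv_inv] at this
      exact this.symm
    rw [e1, ← hn]
    show g⁻¹ * y ^ n * g ∈ _
    rw [e2]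
    exact Subgroup.zpow_mem _ h2 n

theorem mem_normalizer_zpowers_of_comm {g y : G} (h : g * y = y * g) :
    g ∈ Subgroup.normalizer (Subgroup.zpowers y : Set G) := by
  apply mem_normalizer_zpowers
  · have : g * y * g⁻¹ = y := by rw [h]; group
    rw [this]; exact Subgroup.mem_zpowers y
  · have : g⁻¹ * y * g = y := by rw [mul_assoc, ← h]; group
    rw [this]; exact Subgroup.mem_zpowers y

theorem mem_normalizer_zpowers_of_inv {s y : G} (hs : Invo s) (h : s * y * s⁻¹ = y⁻¹) :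
    s ∈ Subgroup.normalizer (Subgroup.zpowers y : Set G) := by
  apply mem_normalizer_zpowers
  · rw [h]; exact Subgroup.inv_mem _ (Subgroup.mem_zpowers y)
  · have : s⁻¹ * y * s = y⁻¹ := by
      rw [← h, hs.inv_eq]
    rw [this]; exact Subgroup.inv_mem _ (Subgroup.mem_zpowers y)

theorem comm_of_mem_zpowers {y t c : G} (h : y * t = t * y) (hc : c ∈ Subgroup.zpowers y) :
    c * t = t * c := by
  have h1 : Subgroup.zpowers y ≤ Subgroup.centralizer {t} :=
    Subgroup.zpowers_le.2 (Subgroup.mem_centralizer_singleton_iff.2 h)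
  exact Subgroup.mem_centralizer_singleton_iff.1 (h1 hc)

theorem zpowers_ne_bot {y : G} (hy : y ≠ 1) : Subgroup.zpowers y ≠ ⊥ := by
  intro h
  apply hy
  have := Subgroup.mem_zpowers y
  rw [h, Subgroup.mem_bot] at this
  exact this

theorem comm_of_inv_inv {s t v : G} (hs : s * v * s⁻¹ = v⁻¹) (ht : t * v * t⁻¹ = v⁻¹) :
    s * t * v = v * (s * t) := by
  have h1 : s * v⁻¹ * s⁻¹ = v := by
    have : s * v⁻¹ * s⁻¹ = (s * v * s⁻¹)⁻¹ := by group
    rw [this, hs, inv_inv]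
  have h2 : s * t * v * (s * t)⁻¹ = v := by
    have : s * t * v * (s * t)⁻¹ = s * (t * v * t⁻¹) * s⁻¹ := by group
    rw [this, ht, h1]
  exact mul_inv_eq_iff_eq_mul.1 h2

theorem Invo.inv_sq_prod {s t : G} (hs : Invo s) (ht : Invo t) :
    s * (s * t * (s * t)) * s⁻¹ = (s * t * (s * t))⁻¹ := by
  have e1 : s * (s * t * (s * t)) * s⁻¹ = (s * s) * t * s * t * s⁻¹ := by group
  have e2 : (s * t * (s * t))⁻¹ = t⁻¹ * s⁻¹ * t⁻¹ * s⁻¹ := by group
  rw [e1, e2, hs.2, one_mul, hs.inv_eq, ht.inv_eq]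

theorem Invo.inv_sq_prod' {s t : G} (hs : Invo s) (ht : Invo t) :
    t * (s * t * (s * t)) * t⁻¹ = (s * t * (s * t))⁻¹ := by
  have e1 : t * (s * t * (s * t)) * t⁻¹ = t * s * t * s := by group
  have e2 : (s * t * (s * t))⁻¹ = t⁻¹ * s⁻¹ * t⁻¹ * s⁻¹ := by group
  rw [e1, e2, hs.inv_eq, ht.inv_eq]

theorem inv_conj_of_inv {s v : G} (h : s * v * s⁻¹ = v⁻¹) : s * v⁻¹ * s⁻¹ = v := by
  have : s * v⁻¹ * s⁻¹ = (s * v * s⁻¹)⁻¹ := by group
  rw [this, h, inv_inv]

namespace MixCtx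

variable [Finite G] {p a : ℕ} (C : MixCtx G p a)

include C

theorem four_le : 4 ≤ 2 ^ a := by
  have := Nat.pow_le_pow_right (by norm_num : 0 < 2) C.ha
  simpa using this

theorem two_comm {T : Subgroup G} (hT : IsPGroup 2 T) {g h : G} (hg : g ∈ T) (hh : h ∈ T) :
    g * h = h * g :=
  comm_of_sq (C.two_sq g (PE.of_mem hT hg)) (C.two_sq h (PE.of_mem hT hh))
    (C.two_sq _ (PE.of_mem hT (T.mul_mem hg hh)))

theorem two_card {T : Subgroup G} (hT : IsPGroup 2 T) : Nat.card T ≤ 2 ^ a := by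
  obtain ⟨Q, hQ⟩ := hT.exists_le_sylow
  exact (Subgroup.card_le_of_le hQ).trans (C.card2 Q).le

theorem sylow_of_card {T : Subgroup G} (hT : IsPGroup 2 T) (hc : Nat.card T = 2 ^ a) :
    ∃ Q : Sylow 2 G, (Q : Subgroup G) = T := by
  obtain ⟨Q, hQ⟩ := hT.exists_le_sylow
  refine ⟨Q, (Subgroup.eq_of_le_of_card_ge hQ ?_).symm⟩
  rw [hc, C.card2 Q]

theorem pcomm (P : Subgroup G) (hP : IsPGroup p P) : ∀ g ∈ P, ∀ h ∈ P, g * h = h * g := by
  have := Fact.mk C.hp
  obtain ⟨Q, hQ⟩ := hP.exists_le_sylow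
  exact fun g hg h hh => C.p_comm Q g (hQ hg) h (hQ hh)

theorem four_dvd : 4 ∣ Nat.card G := by
  obtain Q : Sylow 2 G := default
  have h1 : Nat.card (Q : Subgroup G) ∣ Nat.card G := Subgroup.card_subgroup_dvd_card _
  rw [C.card2 Q] at h1
  exact (pow_dvd_pow 2 C.ha).trans h1

theorem exists_sylow_invo {t : G} (ht : Invo t) : ∃ Q : Sylow 2 G, t ∈ Q :=
  exists_sylow_mem ht.pe2

theorem exists_sylow_pair {t u : G} (ht : Invo t) (hu : Invo u) (hc : t * u = u * t) :
    ∃ Q : Sylow 2 G, t ∈ Q ∧ u ∈ Q := by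
  have h1 : IsPGroup 2 (Subgroup.zpowers t ⊔ Subgroup.zpowers u : Subgroup G) :=
    ht.pe2.isPGroup.to_sup_of_normal_right' hu.pe2.isPGroup
      (Subgroup.zpowers_le.2 (mem_normalizer_zpowers_of_comm hc))
  obtain ⟨Q, hQ⟩ := h1.exists_le_sylow
  exact ⟨Q, hQ (Subgroup.mem_sup_left (Subgroup.mem_zpowers t)),
    hQ (Subgroup.mem_sup_right (Subgroup.mem_zpowers u))⟩

theorem invo_of_mem (Q : Sylow 2 G) {u : G} (hu : u ∈ Q) (hu1 : u ≠ 1) : Invo u :=
  ⟨hu1, C.two_sq u (PE.of_mem Q.2 hu)⟩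

theorem pi_of_invo {H : Subgroup G} (hH : H ≠ ⊤) {t : G} (ht : Invo t) (htH : t ∈ H) :
    ∀ r : ℕ, r.Prime → r ∣ Nat.card H → r = 2 ∨ r = p := by
  apply C.proper H hH
  rw [← ht.orderOf]
  exact Subgroup.orderOf_dvd_natCard H htH

theorem cent_le_normalizer (t : G) :
    Subgroup.centralizer {t} ≤ Subgroup.normalizer (Subgroup.zpowers t : Set G) := by
  intro g hg
  exact mem_normalizer_zpowers_of_comm (Subgroup.mem_centralizer_singleton_iff.1 hg)

theorem cent_ne_top {t : G} (ht : Invo t) : Subgroup.centralizer {t} ≠ ⊤ := by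
  intro h
  apply C.norm2 (Subgroup.zpowers t) ht.pe2.isPGroup (zpowers_ne_bot ht.1)
  rw [eq_top_iff, ← h]
  exact C.cent_le_normalizer t

theorem normalizer_y_ne_top {y : G} (hy : PE p y) (hy1 : y ≠ 1) :
    Subgroup.normalizer (Subgroup.zpowers y : Set G) ≠ ⊤ :=
  C.normp _ hy.isPGroup (zpowers_ne_bot hy1)

/-- A `p`-element normalizing a `2`-subgroup `T` and centralizing a nontrivial element of `T`
centralizes `T`. -/
theorem orb_fix {T : Subgroup G} (hT : IsPGroup 2 T) {y : G} (hy : PE p y)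
    (hyT : y ∈ Subgroup.normalizer (T : Set G)) {t : G} (htT : t ∈ T) (ht1 : t ≠ 1)
    (hyt : y * t = t * y) : ∀ z ∈ T, y * z = z * y := by
  intro z hz
  by_contra hne
  have hne' : y * z * y⁻¹ ≠ z := fun h => hne (mul_inv_eq_iff_eq_mul.1 h)
  have hcard : Nat.card T ≤ p + 1 := by rw [C.hpa]; exact C.two_card hT
  obtain ⟨-, htr⟩ := orb C.hp T hcard hy hyT hz hne'
  obtain ⟨c, hc, hct⟩ := htr t htT ht1
  have hcc : c * t = t * c := comm_of_mem_zpowers hyt hc
  have hzt : z = t := by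
    have : z = c⁻¹ * (c * z * c⁻¹) * c := by group
    rw [this, hct, mul_assoc, ← hcc]; group
  exact hne (by rw [hzt]; exact hyt)

/-- A `p`-element normalizing but not centralizing a `2`-subgroup `T` forces `|T| = 2 ^ a`. -/
theorem orb_card {T : Subgroup G} (hT : IsPGroup 2 T) {y : G} (hy : PE p y)
    (hyT : y ∈ Subgroup.normalizer (T : Set G)) {z : G} (hz : z ∈ T) (hne : y * z ≠ z * y) :
    Nat.card T = 2 ^ a := by
  have hne' : y * z * y⁻¹ ≠ z := fun h => hne (mul_inv_eq_iff_eq_mul.1 h)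
  have hcard : Nat.card T ≤ p + 1 := by rw [C.hpa]; exact C.two_card hT
  rw [← C.hpa]
  exact (orb C.hp T hcard hy hyT hz hne').1

/-- All involutions are conjugate. -/
theorem conj_invo {s t : G} (hs : Invo s) (ht : Invo t) : ∃ g : G, g * s * g⁻¹ = t := by
  obtain ⟨Qs, hsQ⟩ := C.exists_sylow_invo hs
  obtain ⟨Qt, htQ⟩ := C.exists_sylow_invo ht
  obtain ⟨g, hg⟩ := exists_smul_sylow Qs Qt
  have h1 : g * s * g⁻¹ ∈ Qt := by
    rw [← hg, mem_smul_sylow]
    have : g⁻¹ * (g * s * g⁻¹) * g = s := by group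
    rw [this]; exact hsQ
  obtain ⟨c, -, -, hc⟩ := C.trans Qt _ h1 (hs.conj g).1 t htQ ht.1
  refine ⟨c * g, ?_⟩
  rw [← hc]; group

theorem exists_third (Q : Sylow 2 G) (s : G) : ∃ u ∈ Q, u ≠ 1 ∧ u ≠ s := by
  classical
  by_contra hcon
  push Not at hcon
  have hsub : ((Q : Subgroup G) : Set G) ⊆ (({1, s} : Finset G) : Set G) := by
    intro u hu
    by_cases hu1 : u = 1
    · simp [hu1]
    · simp [hcon u hu hu1]
  have h1 : Nat.card (Q : Subgroup G) ≤ 2 := by
    have h2 := Set.ncard_le_ncard hsub (Finset.finite_toSet _)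
    rw [Set.ncard_coe_finset] at h2
    exact h2.trans Finset.card_le_two
  rw [C.card2 Q] at h1
  have := C.four_le
  omega

/-- The square of a product of two involutions is a `p`-element. -/
theorem sq_prod_pe {s t : G} (hs : Invo s) (ht : Invo t) : PE p (s * t * (s * t)) := by
  obtain ⟨g, hg⟩ : ∃ g : G, g = s * t := ⟨_, rfl⟩
  rw [← hg]
  have hinvg : s * g * s⁻¹ = g⁻¹ := by
    rw [hg, mul_inv_rev, hs.inv_eq, ht.inv_eq, ← mul_assoc, hs.2, one_mul]
  have hinv : s * (g * g) * s⁻¹ = (g * g)⁻¹ := by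
    have : s * (g * g) * s⁻¹ = (s * g * s⁻¹) * (s * g * s⁻¹) := by group
    rw [this, hinvg, mul_inv_rev]
  have hpos : orderOf (g * g) ≠ 0 := (orderOf_pos _).ne'
  have key : ∀ r : ℕ, r.Prime → r ∣ orderOf (g * g) → r = p := by
    intro r hr hrd
    by_contra hrp
    by_cases hr2 : r = 2
    · subst hr2
      obtain ⟨m, hm⟩ := hrd
      have hm0 : m ≠ 0 := by rintro rfl; rw [mul_zero] at hm; exact hpos hm
      have h1 : (g * g) ^ m = g ^ m * g ^ m := (Commute.refl g).mul_pow m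
      have h2 : PE 2 (g ^ m) := by
        refine ⟨2, ?_⟩
        have : (g ^ m) ^ 2 ^ 2 = (g ^ m * g ^ m) * (g ^ m * g ^ m) := by
          rw [show (2 : ℕ) ^ 2 = 4 by norm_num, pow_succ, pow_succ, pow_succ, pow_one]; group
        rw [this, ← h1, ← pow_add, ← two_mul, ← hm]
        exact pow_orderOf_eq_one _
      have h3 := C.two_sq _ h2
      rw [← h1] at h3
      exact pow_ne_one_of_lt_orderOf hm0 (by omega) h3
    · have ho : orderOf ((g * g) ^ (orderOf (g * g) / r)) = r :=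
        orderOf_pow_orderOf_div hpos hrd
      obtain ⟨y, hy⟩ : ∃ y : G, y = (g * g) ^ (orderOf (g * g) / r) := ⟨_, rfl⟩
      rw [← hy] at ho
      have hyinv : s * y * s⁻¹ = y⁻¹ := by
        rw [hy, ← conj_pow, hinv, inv_pow]
      have hsN : s ∈ Subgroup.normalizer (Subgroup.zpowers y : Set G) :=
        mem_normalizer_zpowers_of_inv hs hyinv
      have hdvd := card_sup_dvd (Subgroup.zpowers s) (Subgroup.zpowers y)
        (Subgroup.zpowers_le.2 hsN)
      rw [Nat.card_zpowers, Nat.card_zpowers, hs.orderOf, ho] at hdvd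
      by_cases htop : (Subgroup.zpowers s ⊔ Subgroup.zpowers y : Subgroup G) = ⊤
      · rw [htop, Subgroup.card_top] at hdvd
        have h4 : 4 ∣ 2 * r := C.four_dvd.trans hdvd
        have h5 : 2 ∣ r := by omega
        exact hr2 ((Nat.prime_dvd_prime_iff_eq Nat.prime_two hr).1 h5).symm
      · have h6 := C.pi_of_invo htop hs (Subgroup.mem_sup_left (Subgroup.mem_zpowers s)) r hr
          (by rw [← ho]; exact Subgroup.orderOf_dvd_natCard _
                (Subgroup.mem_sup_right (Subgroup.mem_zpowers y)))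
        rcases h6 with h6 | h6
        · exact hr2 h6
        · exact hrp h6
  have h7 := Nat.eq_prime_pow_of_unique_prime_dvd hpos (fun {d} hd hdd => key d hd hdd)
  exact ⟨_, by rw [← h7]; exact pow_orderOf_eq_one _⟩

/-- The centralizer of an involution has a normal Sylow `p`-subgroup. -/
theorem cent_invo {t : G} (ht : Invo t) :
    ∃ D : Subgroup G, IsPGroup p D ∧ (∀ y ∈ D, y * t = t * y) ∧
      Subgroup.centralizer {t} ≤ Subgroup.normalizer (D : Set G) ∧
      ∀ y : G, PE p y → y * t = t * y → y ∈ D := by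
  have htc : t ∈ Subgroup.centralizer {t} := Subgroup.mem_centralizer_singleton_iff.2 rfl
  have hpi := C.pi_of_invo (C.cent_ne_top ht) ht htc
  obtain ⟨D, hD, hDle, hDn, hDall⟩ :=
    exists_normal_p C.hp C.pcomm (Subgroup.centralizer {t}) hpi (by
      intro T hT hTle hTn y hy hpe z hz
      by_contra hne
      have hyT := hTn hy
      have hcard := C.orb_card hT hpe hyT hz hne
      obtain ⟨Q, hQ⟩ := C.sylow_of_card hT hcard
      have htQ : t ∈ T := by
        rw [← hQ]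
        refine le_sylow_of_le_normalizer Q ht.pe2.isPGroup (Subgroup.zpowers_le.2 ?_)
          (Subgroup.mem_zpowers t)
        rw [hQ]; exact hTn htc
      exact hne (C.orb_fix hT hpe hyT htQ ht.1 (Subgroup.mem_centralizer_singleton_iff.1 hy) z hz))
  exact ⟨D, hD, fun y hy => Subgroup.mem_centralizer_singleton_iff.1 (hDle hy), hDn,
    fun y hy hyt => hDall y (Subgroup.mem_centralizer_singleton_iff.2 hyt) hy⟩

/-- A proper subgroup containing an involution and a Sylow `p`-subgroup `P` of `G`, whose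
`p`-elements centralize its normal `2`-subgroups, normalizes `P`. -/
theorem nsyl {H : Subgroup G} (hH : H ≠ ⊤) {t : G} (ht : Invo t) (htH : t ∈ H)
    (P : Sylow p G) (hPH : (P : Subgroup G) ≤ H)
    (hc : ∀ T : Subgroup G, IsPGroup 2 T → T ≤ H → H ≤ Subgroup.normalizer (T : Set G) →
      ∀ y ∈ H, PE p y → ∀ z ∈ T, y * z = z * y) :
    H ≤ Subgroup.normalizer ((P : Subgroup G) : Set G) ∧ ∀ y ∈ H, PE p y → y ∈ P := by
  obtain ⟨D, hD, -, hDn, hDall⟩ := exists_normal_p C.hp C.pcomm H (C.pi_of_invo hH ht htH) hc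
  have hPD : (P : Subgroup G) ≤ D := fun y hy => hDall y (hPH hy) (PE.of_mem P.2 hy)
  have hDP : D = P := P.3 hD hPD
  subst hDP
  exact ⟨hDn, hDall⟩

/-- Variant of `nsyl` when `H` has no nontrivial normal `2`-subgroup. -/
theorem nsyl' {H : Subgroup G} (hH : H ≠ ⊤) {t : G} (ht : Invo t) (htH : t ∈ H)
    (P : Sylow p G) (hPH : (P : Subgroup G) ≤ H)
    (hnone : ∀ T : Subgroup G, IsPGroup 2 T → T ≤ H → H ≤ Subgroup.normalizer (T : Set G) →
      ∀ w ∈ T, Invo w → False) :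
    H ≤ Subgroup.normalizer ((P : Subgroup G) : Set G) ∧ ∀ y ∈ H, PE p y → y ∈ P := by
  apply C.nsyl hH ht htH P hPH
  intro T hT hTle hTn y _ _ z hz
  by_cases hz1 : z = 1
  · rw [hz1, mul_one, one_mul]
  · exact (hnone T hT hTle hTn z hz ⟨hz1, C.two_sq z (PE.of_mem hT hz)⟩).elim

theorem sylow_le_normalizer_y (P : Sylow p G) {y : G} (hy : y ∈ P) :
    (P : Subgroup G) ≤ Subgroup.normalizer (Subgroup.zpowers y : Set G) :=
  fun g hg => mem_normalizer_zpowers_of_comm (C.p_comm P g hg y hy)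

/-- An element of a normal `2`-subgroup of `N_G(⟨y⟩)` commutes with the `p`-element `y`. -/
theorem comm_of_normal_two {y : G} (hy : PE p y) {T : Subgroup G} (hT : IsPGroup 2 T)
    (hTle : T ≤ Subgroup.normalizer (Subgroup.zpowers y : Set G))
    (hTn : Subgroup.normalizer (Subgroup.zpowers y : Set G) ≤ Subgroup.normalizer (T : Set G))
    {w : G} (hw : w ∈ T) : w * y = y * w := by
  have hyN : y ∈ Subgroup.normalizer (Subgroup.zpowers y : Set G) :=
    Subgroup.le_normalizer (Subgroup.mem_zpowers y)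
  have h1 : y * w⁻¹ * y⁻¹ ∈ T :=
    (Subgroup.mem_normalizer_iff.1 (hTn hyN) w⁻¹).1 (T.inv_mem hw)
  have h2 : w * y * w⁻¹ ∈ Subgroup.zpowers y :=
    (Subgroup.mem_normalizer_iff.1 (hTle hw) y).1 (Subgroup.mem_zpowers y)
  have h3 : w * y * w⁻¹ * y⁻¹ ∈ T := by
    have : w * y * w⁻¹ * y⁻¹ = w * (y * w⁻¹ * y⁻¹) := by group
    rw [this]; exact T.mul_mem hw h1
  have h4 : w * y * w⁻¹ * y⁻¹ ∈ Subgroup.zpowers y :=
    Subgroup.mul_mem _ h2 (Subgroup.inv_mem _ (Subgroup.mem_zpowers y))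
  have h5 : w * y * w⁻¹ * y⁻¹ = 1 :=
    PE.eq_one_of_ne C.hp Nat.prime_two C.hp2 (hy.of_mem_zpowers h4) (PE.of_mem hT h3)
  have h6 : w * y * w⁻¹ = y := mul_inv_eq_one.1 h5
  exact mul_inv_eq_iff_eq_mul.1 h6

/-- An involution normalizing a Sylow `p`-subgroup without fixed points inverts it. -/
theorem inverts_of_fpf (P : Sylow p G) {s : G} (hs : Invo s)
    (hsP : s ∈ Subgroup.normalizer ((P : Subgroup G) : Set G))
    (hfpf : ∀ v ∈ P, s * v = v * s → v = 1) : ∀ v ∈ P, s * v * s⁻¹ = v⁻¹ := by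
  intro v hv
  have hw : s * v * s⁻¹ ∈ P := (Subgroup.mem_normalizer_iff.1 hsP v).1 hv
  have hcomm := C.p_comm P _ hw v hv
  have h1 : s * (v * (s * v * s⁻¹)) = (v * (s * v * s⁻¹)) * s := by
    calc s * (v * (s * v * s⁻¹)) = s * ((s * v * s⁻¹) * v) := by rw [hcomm]
      _ = (s * s) * v * s⁻¹ * v := by group
      _ = v * s * v := by rw [hs.2, one_mul, hs.inv_eq]
      _ = (v * (s * v * s⁻¹)) * s := by group
  exact eq_inv_of_mul_eq_one_right (hfpf _ (Subgroup.mul_mem _ hv hw) h1)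

theorem sylow2_ne_bot (Q : Sylow 2 G) : (Q : Subgroup G) ≠ ⊥ := by
  intro h
  have h1 := C.card2 Q
  rw [h, Subgroup.card_bot] at h1
  have := C.four_le
  omega

end MixCtx

end Cfsg.Agent.Lib.Helper1.Mix
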