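import Mathlib

/-!
# Regular friendship graphs (helper1, for statement S4017)

A finite regular graph of degree at least three in which any two distinct vertices have exactly
one common neighbour does not exist.  The proof is the trace argument modulo a prime divisor of
`k - 1`.
-/

set_option autoImplicit false

namespace Cfsg.Agent.Lib.Helper1.Mix

open Matrix in
theorem friendship_regular_false {V : Type*} [Fintype V] [DecidableEq V] [Nonempty V]
    (adj : V → V → Prop) [DecidableRel adj]
    (hirr : ∀ v, ¬ adj v v) (hsymm : ∀ v w, adj v w → adj w v) (k : ℕ) (hk : 3 ≤ k)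
    (hdeg : ∀ v, (Finset.univ.filter (fun l => adj v l)).card = k)
    (hfr : ∀ v w, v ≠ w → (Finset.univ.filter (fun l => adj v l ∧ adj l w)).card = 1) :
    False := by
  obtain ⟨q, hq, hqk⟩ := Nat.exists_prime_and_dvd (show k - 1 ≠ 1 by omega)
  have := Fact.mk hq
  have hk1 : (k : ZMod q) = 1 := by
    have h1 : ((k - 1 : ℕ) : ZMod q) = 0 := (ZMod.natCast_eq_zero_iff _ _).2 hqk
    have h2 : k = (k - 1) + 1 := by omega
    rw [h2, Nat.cast_add, h1, zero_add, Nat.cast_one]
  let A : Matrix V V (ZMod q) := Matrix.of fun v w => if adj v w then 1 else 0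
  let J : Matrix V V (ZMod q) := Matrix.of fun _ _ => 1
  have hAA : A * A = J := by
    ext v w
    simp only [Matrix.mul_apply, A, J, Matrix.of_apply]
    have h1 : ∀ l, (if adj v l then (1 : ZMod q) else 0) * (if adj l w then 1 else 0)
        = if adj v l ∧ adj l w then 1 else 0 := by
      intro l
      by_cases h1 : adj v l <;> by_cases h2 : adj l w <;> simp [h1, h2]
    simp_rw [h1]
    rw [Finset.sum_boole]
    by_cases hvw : v = w
    · subst hvw
      have h2 : (Finset.univ.filter (fun l => adj v l ∧ adj l v))
          = Finset.univ.filter (fun l => adj v l) := by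
        ext l
        simp only [Finset.mem_filter, Finset.mem_univ, true_and]
        exact ⟨fun h => h.1, fun h => ⟨h, hsymm _ _ h⟩⟩
      rw [h2, hdeg v, hk1]
    · rw [hfr v w hvw, Nat.cast_one]
  have hAJ : A * J = J := by
    ext v w
    simp only [Matrix.mul_apply, A, J, Matrix.of_apply, mul_one]
    rw [Finset.sum_boole, hdeg v, hk1]
  have hpow : ∀ n : ℕ, 2 ≤ n → A ^ n = J := by
    intro n hn
    induction n, hn using Nat.le_induction with
    | base => rw [pow_two, hAA]
    | succ n _ ih => rw [pow_succ', ih, hAJ]
  have hJJ : J * J = J := by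
    calc J * J = (A * A) * J := by rw [hAA]
      _ = A * (A * J) := Matrix.mul_assoc _ _ _
      _ = A * J := congrArg (fun X => A * X) hAJ
      _ = J := hAJ
  have hcard : (Fintype.card V : ZMod q) = 1 := by
    obtain ⟨v⟩ := ‹Nonempty V›
    have h1 := congrFun (congrFun hJJ v) v
    simp only [Matrix.mul_apply, J, Matrix.of_apply, mul_one, Finset.sum_const,
      Finset.card_univ, nsmul_eq_mul] at h1
    exact h1
  have htrJ : Matrix.trace J = 1 := by
    simp only [Matrix.trace, Matrix.diag, J, Matrix.of_apply, Finset.sum_const, Finset.card_univ,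
      nsmul_eq_mul, mul_one]
    exact hcard
  have htrA : Matrix.trace A = 0 := by
    simp only [Matrix.trace, Matrix.diag, A, Matrix.of_apply]
    apply Finset.sum_eq_zero
    intro v _
    rw [if_neg (hirr v)]
  have h3 := ZMod.trace_pow_card A
  rw [htrA, zero_pow hq.ne_zero, hpow q hq.two_le, htrJ] at h3
  exact one_ne_zero h3

end Cfsg.Agent.Lib.Helper1.Mix
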