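import Mathlib
import Cfsg.Agent.Lib.Helper1.MixCtx

/-!
# The uniform case (helper1, for statement S4017)

`HypU p G` : a `p`-element commuting with an involution `t` commutes with every involution
commuting with `t`.  This file shows that `HypU` is impossible in the minimal configuration.
-/

set_option autoImplicit false
set_option linter.unusedSectionVars false

namespace Cfsg.Agent.Lib.Helper1.Mix

universe u

variable {G : Type u} [Group G]

/-- A `p`-element commuting with an involution `t` commutes with the involutions commuting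
with `t`. -/
def HypU (p : ℕ) (G : Type u) [Group G] : Prop :=
  ∀ t u : G, Invo t → Invo u → t * u = u * t → ∀ y : G, PE p y → y * t = t * y → y * u = u * y

/-- No nontrivial `p`-element commutes with an involution. -/
def HypD (p : ℕ) (G : Type u) [Group G] : Prop :=
  ∀ t y : G, Invo t → PE p y → y * t = t * y → y = 1

theorem HypD.hypU {p : ℕ} (h : HypD p G) : HypU p G := by
  intro t u ht _ _ y hy hyt
  rw [h t y ht hy hyt, one_mul, mul_one]

/-- A counting lemma: two disjoint copies of a set inside a finite set. -/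
theorem two_mul_ncard_le {α β : Type*} (S : Set α) (B : Set β) (hB : B.Finite) (h : α → β)
    (τ : β → β) (hh : ∀ x ∈ S, h x ∈ B) (hτ : ∀ b ∈ B, τ b ∈ B) (hτinj : Function.Injective τ)
    (hdisj : ∀ x ∈ S, ∀ x' ∈ S, τ (h x) ≠ h x') (hinj : Set.InjOn h S) :
    2 * S.ncard ≤ B.ncard := by
  have h1 : (h '' S).ncard = S.ncard := Set.InjOn.ncard_image hinj
  have h2 : (τ '' (h '' S)).ncard = (h '' S).ncard := Set.ncard_image_of_injective _ hτinj
  have hsub1 : h '' S ⊆ B := by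
    rintro _ ⟨x, hx, rfl⟩; exact hh x hx
  have hsub2 : τ '' (h '' S) ⊆ B := by
    rintro _ ⟨_, ⟨x, hx, rfl⟩, rfl⟩; exact hτ _ (hh x hx)
  have hd : Disjoint (h '' S) (τ '' (h '' S)) := by
    rw [Set.disjoint_left]
    rintro _ ⟨x', hx', rfl⟩ ⟨_, ⟨x, hx, rfl⟩, heq⟩
    exact hdisj x hx x' hx' heq
  have h3 := Set.ncard_union_eq hd (hB.subset hsub1) (hB.subset hsub2)
  have h4 := Set.ncard_le_ncard (Set.union_subset hsub1 hsub2) hB
  omega

namespace MixCtx

variable [Finite G] {p a : ℕ} (C : MixCtx G p a)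

include C

/-- Under `HypU`, a `p`-element `y ≠ 1` inverted by an involution lies in a Sylow `p`-subgroup
normal in `N_G(⟨y⟩)`. -/
theorem exists_sylow_inv (hU : HypU p G) {s y : G} (hs : Invo s) (hy : PE p y) (hy1 : y ≠ 1)
    (hinv : s * y * s⁻¹ = y⁻¹) :
    ∃ P : Sylow p G, y ∈ P ∧
      Subgroup.normalizer (Subgroup.zpowers y : Set G) ≤
        Subgroup.normalizer ((P : Subgroup G) : Set G) ∧
      ∀ g ∈ Subgroup.normalizer (Subgroup.zpowers y : Set G), PE p g → g ∈ P := by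
  have := Fact.mk C.hp
  obtain ⟨P, hyP⟩ := exists_sylow_mem hy
  have hsN : s ∈ Subgroup.normalizer (Subgroup.zpowers y : Set G) :=
    mem_normalizer_zpowers_of_inv hs hinv
  obtain ⟨h1, h2⟩ := C.nsyl' (C.normalizer_y_ne_top hy hy1) hs hsN P
    (C.sylow_le_normalizer_y P hyP) (by
      intro T hT hTle hTn w hw hwI
      have hwy : w * y = y * w := C.comm_of_normal_two hy hT hTle hTn hw
      have h3 : IsPGroup 2 (Subgroup.zpowers s ⊔ T : Subgroup G) :=
        hs.pe2.isPGroup.to_sup_of_normal_right' hT (Subgroup.zpowers_le.2 (hTn hsN))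
      have hws : w * s = s * w := C.two_comm h3 (Subgroup.mem_sup_right hw)
        (Subgroup.mem_sup_left (Subgroup.mem_zpowers s))
      have h4 := hU w s hwI hs hws y hy hwy.symm
      exact hy1 (PE.eq_one_of_inv C.hp C.hp2 hy hinv h4))
  exact ⟨P, hyP, h1, h2⟩

/-- Under `HypU`, an involution normalizing a Sylow `p`-subgroup `P` and inverting a nontrivial
element of `P` has no nontrivial fixed point on `P`. -/
theorem claimU (hU : HypU p G) {s : G} (hs : Invo s) (P : Sylow p G) {y : G} (hy : y ∈ P)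
    (hy1 : y ≠ 1) (hinv : s * y * s⁻¹ = y⁻¹) : ∀ v ∈ P, s * v = v * s → v = 1 := by
  intro y₀ hy₀ hcomm
  by_contra hy₀1
  have hype : PE p y := PE.of_mem P.2 hy
  obtain ⟨Qs, hsQ⟩ := C.exists_sylow_invo hs
  have hQN : ∀ u ∈ Qs, u ∈ Subgroup.normalizer (Subgroup.zpowers y₀ : Set G) := by
    intro u hu
    by_cases hu1 : u = 1
    · rw [hu1]; exact Subgroup.one_mem _
    · have h1 := hU s u hs (C.invo_of_mem Qs hu hu1) (C.two_comm Qs.2 hsQ hu) y₀
        (PE.of_mem P.2 hy₀) hcomm.symm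
      exact mem_normalizer_zpowers_of_comm h1.symm
  have hPN := C.sylow_le_normalizer_y P hy₀
  have hsN := hQN s hsQ
  obtain ⟨hNP, -⟩ := C.nsyl' (C.normalizer_y_ne_top (PE.of_mem P.2 hy₀) hy₀1) hs hsN P hPN (by
    intro T hT hTle hTn w hw hwI
    have hTQ : T ≤ Qs := le_sylow_of_normalizer_ge Qs hT (fun u hu => hTn (hQN u hu))
    by_cases hcen : ∀ g ∈ P, ∀ z ∈ T, g * z = z * g
    · have h1 := hU w s hwI hs (C.two_comm Qs.2 (hTQ hw) hsQ) y hype (hcen y hy w hw)
      exact hy1 (PE.eq_one_of_inv C.hp C.hp2 hype hinv h1)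
    · push Not at hcen
      obtain ⟨g, hg, z, hz, hne⟩ := hcen
      have hcard := C.orb_card hT (PE.of_mem P.2 hg) (hTn (hPN hg)) hz hne
      have hTeq : T = Qs := Subgroup.eq_of_le_of_card_ge hTQ (by rw [hcard, C.card2 Qs])
      have hsT : s ∈ T := by rw [hTeq]; exact hsQ
      have h1 : y * s * y⁻¹ ∈ T := (Subgroup.mem_normalizer_iff.1 (hTn (hPN hy)) s).1 hsT
      have h2 : y * y ∈ T := by
        have h3 : y * y = (y * s * y⁻¹) * s⁻¹ := by
          calc y * y = y * (s * y⁻¹ * s⁻¹) := by rw [inv_conj_of_inv hinv]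
            _ = (y * s * y⁻¹) * s⁻¹ := by group
        rw [h3]; exact T.mul_mem h1 (T.inv_mem hsT)
      have h4 : y * y = 1 := PE.eq_one_of_ne C.hp Nat.prime_two C.hp2
        (PE.of_mem P.2 (Subgroup.mul_mem _ hy hy)) (PE.of_mem hT h2)
      exact hy1 (PE.eq_one_of_sq C.hp C.hp2 hype h4))
  obtain ⟨u, huQ, hu1, hus⟩ := C.exists_third Qs s
  have hsu1 : s * u ≠ 1 := by
    intro h
    apply hus
    have : u = s⁻¹ := eq_inv_of_mul_eq_one_right h
    rw [this, hs.inv_eq]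
  have hsuQ : s * u ∈ Qs := Subgroup.mul_mem _ hsQ huQ
  have hfix : ∀ w ∈ Qs, w ≠ 1 → ∀ v ∈ P,
      (v * (w * v * w⁻¹)) * s = s * (v * (w * v * w⁻¹)) := by
    intro w hw hw1 v hv
    have hwI := C.invo_of_mem Qs hw hw1
    have hwN : w ∈ Subgroup.normalizer ((P : Subgroup G) : Set G) := hNP (hQN w hw)
    have hwv : w * v * w⁻¹ ∈ P := (Subgroup.mem_normalizer_iff.1 hwN v).1 hv
    refine hU w s hwI hs (C.two_comm Qs.2 hw hsQ) _ (PE.of_mem P.2 (Subgroup.mul_mem _ hv hwv)) ?_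
    have hcomm2 := C.p_comm P _ hwv v hv
    calc v * (w * v * w⁻¹) * w = v * w * v := by group
      _ = (w * w) * v * w⁻¹ * v := by rw [hwI.2, one_mul, hwI.inv_eq]
      _ = w * ((w * v * w⁻¹) * v) := by group
      _ = w * (v * (w * v * w⁻¹)) := by rw [hcomm2]
  have hf := hfix u huQ hu1 y hy
  have he := hfix (s * u) hsuQ hsu1 y hy
  have hf' : s * (y * (u * y * u⁻¹)) * s⁻¹ = y * (u * y * u⁻¹) :=
    mul_inv_eq_iff_eq_mul.2 hf.symm
  have h5 : s * u * y * (s * u)⁻¹ = y * (y * (u * y * u⁻¹)) := by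
    calc s * u * y * (s * u)⁻¹ = (s * y⁻¹ * s⁻¹) * (s * (y * (u * y * u⁻¹)) * s⁻¹) := by group
      _ = y * (y * (u * y * u⁻¹)) := by rw [inv_conj_of_inv hinv, hf']
  rw [h5] at he
  have h6 : y * y * s = s * (y * y) := by
    apply mul_right_cancel (b := y * (u * y * u⁻¹))
    calc y * y * s * (y * (u * y * u⁻¹)) = y * y * (s * (y * (u * y * u⁻¹))) := by group
      _ = y * y * ((y * (u * y * u⁻¹)) * s) := by rw [hf]
      _ = y * (y * (y * (u * y * u⁻¹))) * s := by group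
      _ = s * (y * (y * (y * (u * y * u⁻¹)))) := he
      _ = s * (y * y) * (y * (u * y * u⁻¹)) := by group
  have h7 : s * (y * y) * s⁻¹ = (y * y)⁻¹ := by
    have : s * (y * y) * s⁻¹ = (s * y * s⁻¹) * (s * y * s⁻¹) := by group
    rw [this, hinv, mul_inv_rev]
  have h8 : y * y = 1 :=
    PE.eq_one_of_inv C.hp C.hp2 (PE.of_mem P.2 (Subgroup.mul_mem _ hy hy)) h7 h6
  exact hy1 (PE.eq_one_of_sq C.hp C.hp2 hype h8)

/-- Some involution inverts a nontrivial `p`-element. -/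
theorem exists_inverted : ∃ s y : G, Invo s ∧ PE p y ∧ y ≠ 1 ∧ s * y * s⁻¹ = y⁻¹ := by
  by_contra hcon
  push Not at hcon
  have hcomm : ∀ s t : G, Invo s → Invo t → s * t = t * s := by
    intro s t hs ht
    by_contra hne
    have h1 : s * t * (s * t) ≠ 1 := fun h => hne (comm_of_sq hs.2 ht.2 h)
    exact hcon s _ hs (C.sq_prod_pe hs ht) h1 (hs.inv_sq_prod ht)
  obtain Q : Sylow 2 G := default
  have hall : ∀ t : G, Invo t → t ∈ Q := by
    intro t ht
    refine le_sylow_of_le_normalizer Q ht.pe2.isPGroup (Subgroup.zpowers_le.2 ?_)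
      (Subgroup.mem_zpowers t)
    apply Subgroup.centralizer_le_normalizer
    rw [Subgroup.mem_centralizer_iff]
    intro h hh
    by_cases hh1 : h = 1
    · rw [hh1, one_mul, mul_one]
    · exact hcomm h t (C.invo_of_mem Q hh hh1) ht
  apply C.norm2 Q Q.2 (C.sylow2_ne_bot Q)
  rw [eq_top_iff]
  intro g _
  rw [Subgroup.mem_normalizer_iff]
  intro n
  constructor
  · intro hn
    by_cases hn1 : n = 1
    · rw [hn1]; simp
    · exact hall _ ((C.invo_of_mem Q hn hn1).conj g)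
  · intro hn
    by_cases hn1 : n = 1
    · rw [hn1]; exact Subgroup.one_mem _
    · have h1 : g * n * g⁻¹ ≠ 1 := by
        intro h
        apply hn1
        have : n = g⁻¹ * (g * n * g⁻¹) * g := by group
        rw [this, h]; group
      have h2 := (C.invo_of_mem Q hn h1).conj g⁻¹
      have h3 : g⁻¹ * (g * n * g⁻¹) * g⁻¹⁻¹ = n := by group
      rw [h3] at h2
      exact hall n h2

/-- `HypU` is impossible when some nontrivial `p`-element commutes with an involution. -/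
theorem hypU_false_of_not_hypD (hU : HypU p G) (hD : ¬ HypD p G) : False := by
  have := Fact.mk C.hp
  obtain ⟨s, y, hs, hy, hy1, hinv⟩ := C.exists_inverted
  unfold HypD at hD
  push Not at hD
  obtain ⟨w', y₁', hw', hy₁', hc', hy₁'1⟩ := hD
  obtain ⟨P, hyP, hNP, -⟩ := C.exists_sylow_inv hU hs hy hy1 hinv
  have hsP : s ∈ Subgroup.normalizer ((P : Subgroup G) : Set G) :=
    hNP (mem_normalizer_zpowers_of_inv hs hinv)
  have hsinv := C.inverts_of_fpf P hs hsP (C.claimU hU hs P hyP hy1 hinv)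
  obtain ⟨P', hP'⟩ := exists_sylow_mem hy₁'
  obtain ⟨g, hg⟩ := exists_smul_sylow P' P
  obtain ⟨y₁, hy₁⟩ : ∃ y₁ : G, y₁ = g * y₁' * g⁻¹ := ⟨_, rfl⟩
  obtain ⟨w, hw⟩ : ∃ w : G, w = g * w' * g⁻¹ := ⟨_, rfl⟩
  have hy₁P : y₁ ∈ P := by
    rw [← hg, mem_smul_sylow, hy₁]
    have : g⁻¹ * (g * y₁' * g⁻¹) * g = y₁' := by group
    rw [this]; exact hP'
  have hwI : Invo w := by rw [hw]; exact hw'.conj g
  have hy₁1 : y₁ ≠ 1 := by
    intro h
    apply hy₁'1
    have : y₁' = g⁻¹ * y₁ * g := by rw [hy₁]; group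
    rw [this, h]; group
  have hc : y₁ * w = w * y₁ := by
    rw [hy₁, hw]
    calc g * y₁' * g⁻¹ * (g * w' * g⁻¹) = g * (y₁' * w') * g⁻¹ := by group
      _ = g * (w' * y₁') * g⁻¹ := by rw [hc']
      _ = g * w' * g⁻¹ * (g * y₁' * g⁻¹) := by group
  have hy₁pe : PE p y₁ := PE.of_mem P.2 hy₁P
  have hinv₁ := hsinv y₁ hy₁P
  obtain ⟨P₂, -, hNP₂, hNall₂⟩ := C.exists_sylow_inv hU hs hy₁pe hy₁1 hinv₁
  have hPP₂ : P₂ = P := by
    have h1 : (P : Subgroup G) ≤ P₂ :=
      fun v hv => hNall₂ v (C.sylow_le_normalizer_y P hy₁P hv) (PE.of_mem P.2 hv)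
    exact Sylow.ext (P.3 P₂.2 h1)
  rw [hPP₂] at hNP₂ hNall₂
  have hwN : w ∈ Subgroup.normalizer (Subgroup.zpowers y₁ : Set G) :=
    mem_normalizer_zpowers_of_comm hc.symm
  have hwP := hNP₂ hwN
  have hsN : s ∈ Subgroup.normalizer (Subgroup.zpowers y₁ : Set G) :=
    mem_normalizer_zpowers_of_inv hs hinv₁
  have hvpe : PE p (w * s * (w * s)) := C.sq_prod_pe hwI hs
  have hvN : w * s * (w * s) ∈ Subgroup.normalizer (Subgroup.zpowers y₁ : Set G) :=
    Subgroup.mul_mem _ (Subgroup.mul_mem _ hwN hsN) (Subgroup.mul_mem _ hwN hsN)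
  have hvP := hNall₂ _ hvN hvpe
  by_cases hv1 : w * s * (w * s) = 1
  · have hws : w * s = s * w := comm_of_sq hwI.2 hs.2 hv1
    have h1 := hU w s hwI hs hws y₁ hy₁pe hc
    exact hy₁1 (PE.eq_one_of_inv C.hp C.hp2 hy₁pe hinv₁ h1)
  · have h1 := C.claimU hU hwI P hvP hv1 (hwI.inv_sq_prod hs)
    exact hy₁1 (h1 y₁ hy₁P hc.symm)

/-- Under `HypD` the centralizer of a nontrivial element of a Sylow `2`-subgroup is that Sylow
subgroup. -/
theorem cent_eq_of_hypD (hD : HypD p G) (Q : Sylow 2 G) {t : G} (htQ : t ∈ Q) (ht1 : t ≠ 1)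
    {g : G} (hg : g * t = t * g) : g ∈ Q := by
  have htI := C.invo_of_mem Q htQ ht1
  have htc : t ∈ Subgroup.centralizer {t} := Subgroup.mem_centralizer_singleton_iff.2 rfl
  have h2 : IsPGroup 2 (Subgroup.centralizer {t}) := by
    have hpi := C.pi_of_invo (C.cent_ne_top htI) htI htc
    obtain ⟨i, j, hij⟩ := exists_two_pow_mul C.hp Nat.card_pos.ne' hpi
    rintro ⟨x, hx⟩
    refine ⟨i, Subtype.ext ?_⟩
    show x ^ 2 ^ i = 1
    have hxc : x * t = t * x := Subgroup.mem_centralizer_singleton_iff.1 hx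
    have hpe : PE p (x ^ 2 ^ i) := by
      refine ⟨j, ?_⟩
      rw [← pow_mul, ← hij]
      exact orderOf_dvd_iff_pow_eq_one.1 (Subgroup.orderOf_dvd_natCard _ hx)
    exact hD t _ htI hpe (comm_of_mem_zpowers hxc (Subgroup.pow_mem _ (Subgroup.mem_zpowers x) _))
  have hQle : (Q : Subgroup G) ≤ Subgroup.centralizer {t} :=
    fun u hu => Subgroup.mem_centralizer_singleton_iff.2 (C.two_comm Q.2 hu htQ)
  have h3 := Q.3 h2 hQle
  have h4 : g ∈ Subgroup.centralizer {t} := Subgroup.mem_centralizer_singleton_iff.2 hg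
  rw [h3] at h4
  exact h4

/-- `HypD` is impossible. -/
theorem hypD_false (hD : HypD p G) : False := by
  have := Fact.mk C.hp
  have hU : HypU p G := hD.hypU
  obtain ⟨s, y, hs, hy, hy1, hinv⟩ := C.exists_inverted
  obtain ⟨Qs, hsQ⟩ := C.exists_sylow_invo hs
  obtain ⟨P₁, hyP₁, hNP₁, -⟩ := C.exists_sylow_inv hU hs hy hy1 hinv
  have hsP₁ : s ∈ Subgroup.normalizer ((P₁ : Subgroup G) : Set G) :=
    hNP₁ (mem_normalizer_zpowers_of_inv hs hinv)
  -- involutions normalizing a Sylow `p`-subgroup invert it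
  have hinvP : ∀ (P : Sylow p G) (t : G), Invo t →
      t ∈ Subgroup.normalizer ((P : Subgroup G) : Set G) → ∀ v ∈ P, t * v * t⁻¹ = v⁻¹ :=
    fun P t ht htP => C.inverts_of_fpf P ht htP
      (fun v hv hc => hD t v ht (PE.of_mem P.2 hv) hc.symm)
  have hsinv₁ := hinvP P₁ s hs hsP₁
  -- a Sylow `2`-subgroup avoiding `s`
  have hsQ' : s ∉ y • Qs := by
    rw [mem_smul_sylow]
    intro h
    have h1 : y⁻¹ * s * y = (y * y)⁻¹ * s := by
      have h2 : s * y = y⁻¹ * s := mul_inv_eq_iff_eq_mul.1 hinv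
      calc y⁻¹ * s * y = y⁻¹ * (s * y) := by group
        _ = y⁻¹ * (y⁻¹ * s) := by rw [h2]
        _ = (y * y)⁻¹ * s := by group
    rw [h1] at h
    have h3 : (y * y)⁻¹ ∈ Qs := by
      have := Subgroup.mul_mem _ h (Subgroup.inv_mem _ hsQ)
      rwa [mul_inv_cancel_right] at this
    have h4 : y * y ∈ Qs := by
      have := Subgroup.inv_mem _ h3
      rwa [inv_inv] at this
    have h5 : y * y = 1 := PE.eq_one_of_ne C.hp Nat.prime_two C.hp2
      (by have := hy.pow 2; rwa [pow_two] at this) (PE.of_mem Qs.2 h4)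
    exact hy1 (PE.eq_one_of_sq C.hp C.hp2 hy h5)
  obtain ⟨Q, hQdef⟩ : ∃ Q : Sylow 2 G, Q = y • Qs := ⟨_, rfl⟩
  rw [← hQdef] at hsQ'
  -- existence
  have hex : ∀ t : G, ∃ h : G, (t ∈ Q ∧ t ≠ 1) →
      (h ∈ Qs ∧ ∀ v ∈ h • P₁, t * v * t⁻¹ = v⁻¹) := by
    intro t
    by_cases htQ : t ∈ Q ∧ t ≠ 1
    swap
    · exact ⟨1, fun h => (htQ h).elim⟩
    obtain ⟨htQ, ht1⟩ := htQ
    have htI := C.invo_of_mem Q htQ ht1
    have hst : s * t ≠ t * s := fun h => hsQ' (C.cent_eq_of_hypD hD Q htQ ht1 h)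
    have hv1 : s * t * (s * t) ≠ 1 := fun h => hst (comm_of_sq hs.2 htI.2 h)
    have hvpe := C.sq_prod_pe hs htI
    have hsv := hs.inv_sq_prod htI
    have htv := hs.inv_sq_prod' htI
    obtain ⟨P₂, hvP₂, hNP₂, -⟩ := C.exists_sylow_inv hU hs hvpe hv1 hsv
    have hsP₂ := hNP₂ (mem_normalizer_zpowers_of_inv hs hsv)
    have htP₂ := hNP₂ (mem_normalizer_zpowers_of_inv htI htv)
    have hsinv₂ := hinvP P₂ s hs hsP₂
    have htinv₂ := hinvP P₂ t htI htP₂
    obtain ⟨g, hg⟩ := exists_smul_sylow P₁ P₂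
    -- the conjugate involution inverts `P₂`
    have hs'inv : ∀ v ∈ P₂, (g * s * g⁻¹) * v * (g * s * g⁻¹)⁻¹ = v⁻¹ := by
      intro v hv
      have h1 : g⁻¹ * v * g ∈ P₁ := by rw [← hg, mem_smul_sylow] at hv; exact hv
      have h2 := hsinv₁ _ h1
      calc (g * s * g⁻¹) * v * (g * s * g⁻¹)⁻¹ = g * (s * (g⁻¹ * v * g) * s⁻¹) * g⁻¹ := by group
        _ = g * (g⁻¹ * v * g)⁻¹ * g⁻¹ := by rw [h2]
        _ = v⁻¹ := by group
    obtain ⟨c, hcdef⟩ : ∃ c : G, c = s * (g * s * g⁻¹) := ⟨_, rfl⟩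
    have hccomm : ∀ v ∈ P₂, c * v = v * c := by
      intro v hv
      rw [hcdef]
      exact comm_of_inv_inv (hsinv₂ v hv) (hs'inv v hv)
    have hcc : PE p (c * c) := by rw [hcdef]; exact C.sq_prod_pe hs (hs.conj g)
    obtain ⟨k, hk⟩ := hcc
    have hcpe : PE p c := by
      refine ⟨k, ?_⟩
      by_contra hw1
      have hww : c ^ p ^ k * c ^ p ^ k = 1 := by
        rw [← (Commute.refl c).mul_pow]; exact hk
      have h1 := hD (c ^ p ^ k) _ ⟨hw1, hww⟩ hvpe
        (comm_of_mem_zpowers (hccomm _ hvP₂)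
          (Subgroup.pow_mem _ (Subgroup.mem_zpowers c) _)).symm
      exact hv1 h1
    have hcN : c ∈ Subgroup.normalizer ((P₂ : Subgroup G) : Set G) := by
      apply Subgroup.centralizer_le_normalizer
      rw [Subgroup.mem_centralizer_iff]
      intro v hv
      exact (hccomm v hv).symm
    have hcP₂ : c ∈ P₂ := mem_sylow_of_normalizer P₂ hcpe hcN
    obtain ⟨k', hk'⟩ := hcpe
    obtain ⟨m, hm⟩ : ∃ m : ℕ, p ^ k' = 2 * m + 1 := by
      have hodd : Odd (p ^ k') := (C.hp.odd_of_ne_two C.hp2).pow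
      obtain ⟨m, hm⟩ := hodd
      exact ⟨m, hm⟩
    obtain ⟨e, hedef⟩ : ∃ e : G, e = c ^ (m + 1) := ⟨_, rfl⟩
    have heP₂ : e ∈ P₂ := by rw [hedef]; exact Subgroup.pow_mem _ hcP₂ _
    have hee : e * e = c := by
      rw [hedef, ← pow_add]
      have : m + 1 + (m + 1) = p ^ k' + 1 := by omega
      rw [this, pow_succ, hk', one_mul]
    have hese : e * (s * e) = s := by
      have h1 := hsinv₂ e heP₂
      have h2 : s * e = e⁻¹ * s := mul_inv_eq_iff_eq_mul.1 h1
      rw [h2]; group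
    have hgs : g * s = s * c * g := by
      rw [hcdef]
      calc g * s = (s * s) * (g * s * g⁻¹) * g := by rw [hs.2]; group
        _ = s * (s * (g * s * g⁻¹)) * g := by group
    refine ⟨e * g, ?_⟩
    intro _
    have hcomm : e * g * s = s * (e * g) := by
      calc e * g * s = e * (g * s) := by group
        _ = e * (s * c * g) := by rw [hgs]
        _ = e * (s * (e * e) * g) := by rw [hee]
        _ = (e * (s * e)) * e * g := by group
        _ = s * (e * g) := by rw [hese]; group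
    refine ⟨C.cent_eq_of_hypD hD Qs hsQ hs.1 hcomm, ?_⟩
    have hsm : (e * g) • P₁ = P₂ := by
      rw [mul_smul, hg]
      exact Sylow.smul_eq_iff_mem_normalizer.2 (Subgroup.le_normalizer heP₂)
    rw [hsm]
    exact htinv₂
  choose hh hhspec using hex
  -- uniqueness
  have huniq : ∀ (h : G) (t t' : G), t ∈ Q → t ≠ 1 → t' ∈ Q → t' ≠ 1 →
      (∀ v ∈ h • P₁, t * v * t⁻¹ = v⁻¹) → (∀ v ∈ h • P₁, t' * v * t'⁻¹ = v⁻¹) → t = t' := by
    intro h t t' htQ ht1 ht'Q ht'1 hti ht'i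
    by_contra hne
    have hv : h * y * h⁻¹ ∈ h • P₁ := by
      rw [mem_smul_sylow]
      have : h⁻¹ * (h * y * h⁻¹) * h = y := by group
      rw [this]; exact hyP₁
    have hvpe : PE p (h * y * h⁻¹) := hy.conj h
    have hc := comm_of_inv_inv (hti _ hv) (ht'i _ hv)
    have htt : t * t' ≠ 1 := by
      intro h1
      apply hne
      have h2 : t' = t⁻¹ := eq_inv_of_mul_eq_one_right h1
      rw [h2, (C.invo_of_mem Q htQ ht1).inv_eq]
    have hI := C.invo_of_mem Q (Subgroup.mul_mem _ htQ ht'Q) htt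
    have h3 := hD _ _ hI hvpe hc.symm
    apply hy1
    have : y = h⁻¹ * (h * y * h⁻¹) * h := by group
    rw [this, h3]; group
  -- counting
  have hS : (((Q : Subgroup G) : Set G) \ {1}).ncard = 2 ^ a - 1 := by
    rw [Set.ncard_sdiff_singleton_of_mem (Subgroup.one_mem _)]
    have : ((Q : Subgroup G) : Set G).ncard = Nat.card (Q : Subgroup G) := rfl
    rw [this, C.card2 Q]
  have hB : ((Qs : Subgroup G) : Set G).ncard = 2 ^ a := by
    have : ((Qs : Subgroup G) : Set G).ncard = Nat.card (Qs : Subgroup G) := rfl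
    rw [this, C.card2 Qs]
  have hmain := two_mul_ncard_le (((Q : Subgroup G) : Set G) \ {1}) ((Qs : Subgroup G) : Set G)
    (Set.toFinite _) hh (fun x => x * s)
    (fun t ht => (hhspec t ⟨ht.1, ht.2⟩).1)
    (fun b hb => Subgroup.mul_mem _ hb hsQ)
    (mul_left_injective s)
    (by
      intro t ht t' ht' heq
      have h1 := (hhspec t ⟨ht.1, ht.2⟩).2
      have h2 := (hhspec t' ⟨ht'.1, ht'.2⟩).2
      have h3 : hh t' • P₁ = hh t • P₁ := by
        rw [← heq]
        show (hh t * s) • P₁ = hh t • P₁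
        rw [mul_smul, Sylow.smul_eq_iff_mem_normalizer.2 hsP₁]
      rw [h3] at h2
      have h4 := huniq (hh t) t t' ht.1 ht.2 ht'.1 ht'.2 h1 h2
      rw [← h4] at heq
      have h5 : hh t * s = hh t * 1 := by rw [mul_one]; exact heq
      exact hs.1 (mul_left_cancel h5))
    (by
      intro t ht t' ht' heq
      have h1 := (hhspec t ⟨ht.1, ht.2⟩).2
      have h2 := (hhspec t' ⟨ht'.1, ht'.2⟩).2
      have heq' : hh t = hh t' := heq
      rw [← heq'] at h2
      exact huniq (hh t) t t' ht.1 ht.2 ht'.1 ht'.2 h1 h2)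
  rw [hS, hB] at hmain
  have := C.four_le
  omega

/-- `HypU` is impossible in the minimal configuration. -/
theorem hypU_false (hU : HypU p G) : False := by
  by_cases hD : HypD p G
  · exact C.hypD_false hD
  · exact C.hypU_false_of_not_hypD hU hD

end MixCtx

end Cfsg.Agent.Lib.Helper1.Mix
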