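import Mathlib
import Cfsg.Agent.Lib.Helper1.MixU
import Cfsg.Agent.Lib.Helper1.MixFriend

/-!
# The non-uniform case (helper1, for statement S4017)

If `HypU` fails then every involution centralizes a Sylow `p`-subgroup (`HypS`); this forces
`a = 2` and makes the commuting graph of involutions a regular friendship graph of degree at
least three, which does not exist.
-/

set_option autoImplicit false
set_option linter.unusedSectionVars false

namespace Cfsg.Agent.Lib.Helper1.Mix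

universe u

variable {G : Type u} [Group G]

/-- Every involution centralizes a Sylow `p`-subgroup. -/
def HypS (p : ℕ) (G : Type u) [Group G] : Prop :=
  ∀ t : G, Invo t → ∃ P : Sylow p G, ∀ v ∈ P, v * t = t * v

theorem PE.conj' {p : ℕ} {y : G} (h : PE p y) (g : G) : PE p (g⁻¹ * y * g) := by
  have := h.conj g⁻¹
  rwa [inv_inv] at this

theorem Invo.conj' {t : G} (h : Invo t) (g : G) : Invo (g⁻¹ * t * g) := by
  have := h.conj g⁻¹
  rwa [inv_inv] at this

theorem conj_comm {g v w : G} (h : (g⁻¹ * v * g) * w = w * (g⁻¹ * v * g)) :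
    v * (g * w * g⁻¹) = g * w * g⁻¹ * v := by
  calc v * (g * w * g⁻¹) = g * ((g⁻¹ * v * g) * w) * g⁻¹ := by group
    _ = g * (w * (g⁻¹ * v * g)) * g⁻¹ := by rw [h]
    _ = g * w * g⁻¹ * v := by group

namespace MixCtx

variable [Finite G] {p a : ℕ} (C : MixCtx G p a)

include C

/-- If two Sylow `p`-subgroups normalized by a Sylow `2`-subgroup `Q` meet nontrivially, the
second lies in the join of the first with `Q`. -/
theorem sylow_le_join (P P' : Sylow p G) (Q : Sylow 2 G)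
    (hQP : (Q : Subgroup G) ≤ Subgroup.normalizer ((P : Subgroup G) : Set G))
    (hQP' : (Q : Subgroup G) ≤ Subgroup.normalizer ((P' : Subgroup G) : Set G))
    {v : G} (hv : v ∈ P) (hv' : v ∈ P') (hv1 : v ≠ 1) :
    (P' : Subgroup G) ≤ (P : Subgroup G) ⊔ Q := by
  obtain ⟨t, htQ, ht1, -⟩ := C.exists_third Q 1
  have ht := C.invo_of_mem Q htQ ht1
  have hYp : IsPGroup p ((P : Subgroup G) ⊓ P' : Subgroup G) := P.2.to_le inf_le_left
  have hYbot : ((P : Subgroup G) ⊓ P' : Subgroup G) ≠ ⊥ := by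
    intro h
    have h1 : v ∈ ((P : Subgroup G) ⊓ P' : Subgroup G) := ⟨hv, hv'⟩
    rw [h] at h1
    exact hv1 (Subgroup.mem_bot.1 h1)
  have hNtop := C.normp _ hYp hYbot
  have hQY : (Q : Subgroup G) ≤
      Subgroup.normalizer (((P : Subgroup G) ⊓ P' : Subgroup G) : Set G) := by
    rw [Subgroup.le_normalizer_iff]
    intro q hq x hx
    exact ⟨(Subgroup.mem_normalizer_iff.1 (hQP hq) x).1 hx.1,
      (Subgroup.mem_normalizer_iff.1 (hQP' hq) x).1 hx.2⟩
  have hPY : (P : Subgroup G) ≤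
      Subgroup.normalizer (((P : Subgroup G) ⊓ P' : Subgroup G) : Set G) := by
    rw [Subgroup.le_normalizer_iff]
    intro g hg x hx
    have : g * x * g⁻¹ = x := by rw [C.p_comm P g hg x hx.1]; group
    rw [this]; exact hx
  have hP'Y : (P' : Subgroup G) ≤
      Subgroup.normalizer (((P : Subgroup G) ⊓ P' : Subgroup G) : Set G) := by
    rw [Subgroup.le_normalizer_iff]
    intro g hg x hx
    have : g * x * g⁻¹ = x := by rw [C.p_comm P' g hg x hx.2]; group
    rw [this]; exact hx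
  have hpiY := C.pi_of_invo hNtop ht (hQY htQ)
  have hjoinY := join_eq C.hp C.hp2 _ hpiY P Q hPY hQY
  rw [← hjoinY]; exact hP'Y

/-- If `HypU` fails, every involution centralizes a Sylow `p`-subgroup. -/
theorem hypS_of_not_hypU (h : ¬ HypU p G) : HypS p G := by
  have := Fact.mk C.hp
  unfold HypU at h
  push Not at h
  obtain ⟨t, u, ht, hu, htu, y₀, hy₀, hy₀t, hy₀u⟩ := h
  suffices hex : ∃ w : G, Invo w ∧ ∃ P : Sylow p G, ∀ v ∈ P, v * w = w * v by
    obtain ⟨w, hw, P, hP⟩ := hex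
    intro t' ht'
    obtain ⟨g, hg⟩ := C.conj_invo hw ht'
    refine ⟨g • P, ?_⟩
    intro v hv
    rw [mem_smul_sylow] at hv
    rw [← hg]
    exact conj_comm (hP _ hv)
  obtain ⟨Q, htQ, huQ⟩ := C.exists_sylow_pair ht hu htu
  obtain ⟨D, hDp, hDc, hDn, hDall⟩ := C.cent_invo ht
  have hy₀D : y₀ ∈ D := hDall y₀ hy₀ hy₀t
  have hy₀1 : y₀ ≠ 1 := by
    rintro rfl
    exact hy₀u (by rw [one_mul, mul_one])
  have hDbot : D ≠ ⊥ := by
    intro h
    rw [h] at hy₀D
    exact hy₀1 (Subgroup.mem_bot.1 hy₀D)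
  obtain ⟨P₁, hDP₁⟩ := hDp.exists_le_sylow
  have hMtop : Subgroup.normalizer (D : Set G) ≠ ⊤ := C.normp D hDp hDbot
  have hQC : ∀ q ∈ Q, q ∈ Subgroup.centralizer {t} :=
    fun q hq => Subgroup.mem_centralizer_singleton_iff.2 (C.two_comm Q.2 hq htQ)
  have hQM : (Q : Subgroup G) ≤ Subgroup.normalizer (D : Set G) := fun q hq => hDn (hQC q hq)
  have hPM : (P₁ : Subgroup G) ≤ Subgroup.normalizer (D : Set G) := by
    rw [Subgroup.le_normalizer_iff]
    intro g hg d hd
    have : g * d * g⁻¹ = d := by rw [C.p_comm P₁ g hg d (hDP₁ hd)]; group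
    rw [this]; exact hd
  have htM : t ∈ Subgroup.normalizer (D : Set G) := hQM htQ
  by_cases hex : ∃ T : Subgroup G, IsPGroup 2 T ∧ T ≤ Subgroup.normalizer (D : Set G) ∧
      Subgroup.normalizer (D : Set G) ≤ Subgroup.normalizer (T : Set G) ∧ ∃ w ∈ T, Invo w
  · obtain ⟨T, hT, hTle, hTn, w, hwT, hwI⟩ := hex
    have hTQ : T ≤ Q := le_sylow_of_normalizer_ge Q hT (fun q hq => hTn (hQM hq))
    by_cases hcen : ∀ g ∈ P₁, ∀ z ∈ T, g * z = z * g
    · exact ⟨w, hwI, P₁, fun v hv => hcen v hv w hwT⟩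
    · push Not at hcen
      obtain ⟨g, hg, z, hz, hne⟩ := hcen
      have hcard := C.orb_card hT (PE.of_mem P₁.2 hg) (hTn (hPM hg)) hz hne
      have hTeq : T = Q := Subgroup.eq_of_le_of_card_ge hTQ (by rw [hcard, C.card2 Q])
      have hy₀M : y₀ ∈ Subgroup.normalizer (D : Set G) := Subgroup.le_normalizer hy₀D
      have h1 := C.orb_fix hT hy₀ (hTn hy₀M) (t := t) (by rw [hTeq]; exact htQ) ht.1 hy₀t u
        (by rw [hTeq]; exact huQ)
      exact (hy₀u h1).elim
  · have hnone : ∀ T : Subgroup G, IsPGroup 2 T → T ≤ Subgroup.normalizer (D : Set G) →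
        Subgroup.normalizer (D : Set G) ≤ Subgroup.normalizer (T : Set G) →
        ∀ w ∈ T, Invo w → False :=
      fun T hT h1 h2 w hw hwI => hex ⟨T, hT, h1, h2, w, hw, hwI⟩
    obtain ⟨hMP, hMall⟩ := C.nsyl' hMtop ht htM P₁ hPM hnone
    have hpiM := C.pi_of_invo hMtop ht htM
    have hjoin := join_eq C.hp C.hp2 _ hpiM P₁ Q hPM hQM
    refine ⟨t, ht, P₁, ?_⟩
    have hinvQ : ∀ u₁ ∈ Q, u₁ ≠ 1 → u₁ ≠ t → ∀ v ∈ P₁, u₁ * v * u₁⁻¹ = v⁻¹ := by
      intro u₁ hu₁Q hu₁1 hu₁t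
      obtain ⟨c, hcpe, hcN, hcu⟩ := C.trans Q t htQ ht.1 u₁ hu₁Q hu₁1
      have hQc : (Q : Subgroup G) ≤
          Subgroup.normalizer (((c • P₁ : Sylow p G) : Subgroup G) : Set G) := by
        intro q hq
        apply Sylow.smul_eq_iff_mem_normalizer.1
        rw [← mul_smul]
        have h1 : c⁻¹ * q * c ∈ Q := by
          have := (Subgroup.mem_normalizer_iff.1 (Subgroup.inv_mem _ hcN) q).1 hq
          rwa [inv_inv] at this
        have h2 : (c⁻¹ * q * c) • P₁ = P₁ :=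
          Sylow.smul_eq_iff_mem_normalizer.2 (hMP (hQM h1))
        have h3 : q * c = c * (c⁻¹ * q * c) := by group
        rw [h3, mul_smul, h2]
      have hTI : ∀ v ∈ P₁, v ∈ c • P₁ → v = 1 := by
        intro v hv hv'
        by_contra hv1
        have hle := C.sylow_le_join P₁ (c • P₁) Q (hQM.trans hMP) hQc hv hv' hv1
        rw [← hjoin] at hle
        have hle2 : ((c • P₁ : Sylow p G) : Subgroup G) ≤ P₁ :=
          fun x hx => hMall x (hle hx) (PE.of_mem (c • P₁).2 hx)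
        have heq : c • P₁ = P₁ := Sylow.ext ((c • P₁).3 P₁.2 hle2).symm
        have hcP₁ : c ∈ P₁ :=
          mem_sylow_of_normalizer P₁ hcpe (Sylow.smul_eq_iff_mem_normalizer.1 heq)
        have h1 : c * t * c⁻¹ * t⁻¹ ∈ P₁ := by
          have h2 : t * c⁻¹ * t⁻¹ ∈ P₁ :=
            (Subgroup.mem_normalizer_iff.1 (hMP htM) c⁻¹).1 (Subgroup.inv_mem _ hcP₁)
          have : c * t * c⁻¹ * t⁻¹ = c * (t * c⁻¹ * t⁻¹) := by group
          rw [this]; exact Subgroup.mul_mem _ hcP₁ h2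
        have h2 : c * t * c⁻¹ * t⁻¹ ∈ Q :=
          Subgroup.mul_mem _ ((Subgroup.mem_normalizer_iff.1 hcN t).1 htQ) (Subgroup.inv_mem _ htQ)
        have h3 : c * t * c⁻¹ * t⁻¹ = 1 :=
          PE.eq_one_of_ne C.hp Nat.prime_two C.hp2 (PE.of_mem P₁.2 h1) (PE.of_mem Q.2 h2)
        apply hu₁t
        rw [← hcu]; exact mul_inv_eq_one.1 h3
      apply C.inverts_of_fpf P₁ (C.invo_of_mem Q hu₁Q hu₁1) (hMP (hQM hu₁Q))
      intro v hv hcomm
      apply hTI v hv
      rw [mem_smul_sylow]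
      apply hDP₁
      apply hDall _ ((PE.of_mem P₁.2 hv).conj' c)
      rw [← hcu] at hcomm
      calc c⁻¹ * v * c * t = c⁻¹ * (v * (c * t * c⁻¹)) * c := by group
        _ = c⁻¹ * ((c * t * c⁻¹) * v) * c := by rw [hcomm]
        _ = t * (c⁻¹ * v * c) := by group
    obtain ⟨u₁, hu₁Q, hu₁1, hu₁t⟩ := C.exists_third Q t
    have htu₁Q : t * u₁ ∈ Q := Subgroup.mul_mem _ htQ hu₁Q
    have htu₁1 : t * u₁ ≠ 1 := by
      intro h
      apply hu₁t
      have : u₁ = t⁻¹ := eq_inv_of_mul_eq_one_right h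
      rw [this, ht.inv_eq]
    have htu₁t : t * u₁ ≠ t := by
      intro h
      apply hu₁1
      have : t * u₁ = t * 1 := by rw [mul_one]; exact h
      exact mul_left_cancel this
    intro v hv
    have h1 := comm_of_inv_inv (hinvQ u₁ hu₁Q hu₁1 hu₁t v hv)
      (hinvQ (t * u₁) htu₁Q htu₁1 htu₁t v hv)
    have h2 : u₁ * (t * u₁) = t := by
      have hc := C.two_comm Q.2 hu₁Q htQ
      calc u₁ * (t * u₁) = (u₁ * t) * u₁ := by group
        _ = t * (u₁ * u₁) := by rw [hc]; group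
        _ = t := by rw [(C.invo_of_mem Q hu₁Q hu₁1).2, mul_one]
    rw [h2] at h1
    exact h1.symm

theorem exists_mem_ne_one (P : Sylow p G) : ∃ v ∈ P, v ≠ 1 := by
  have := Fact.mk C.hp
  obtain Q : Sylow 2 G := default
  obtain ⟨u, huQ, hu1, -⟩ := C.exists_third Q 1
  obtain ⟨v, hvQ, hv1, hvu⟩ := C.exists_third Q u
  obtain ⟨c, hc, -, hcu⟩ := C.trans Q u huQ hu1 v hvQ hv1
  have hc1 : c ≠ 1 := by
    rintro rfl
    apply hvu
    rw [← hcu]; group
  obtain ⟨P₀, hcP₀⟩ := exists_sylow_mem hc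
  obtain ⟨g, hg⟩ := exists_smul_sylow P₀ P
  refine ⟨g * c * g⁻¹, ?_, ?_⟩
  · rw [← hg, mem_smul_sylow]
    have : g⁻¹ * (g * c * g⁻¹) * g = c := by group
    rw [this]; exact hcP₀
  · intro h
    apply hc1
    have : c = g⁻¹ * (g * c * g⁻¹) * g := by group
    rw [this, h]; group

theorem sylow_p_ne_bot (P : Sylow p G) : (P : Subgroup G) ≠ ⊥ := by
  obtain ⟨v, hv, hv1⟩ := C.exists_mem_ne_one P
  intro h
  have h1 : v ∈ (P : Subgroup G) := hv
  rw [h] at h1
  exact hv1 (Subgroup.mem_bot.1 h1)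

theorem syl_all {t : G} (ht : Invo t) (P : Sylow p G) (hP : ∀ v ∈ P, v * t = t * v) :
    (∀ y : G, PE p y → y * t = t * y → y ∈ P) ∧
    Subgroup.centralizer {t} ≤ Subgroup.normalizer ((P : Subgroup G) : Set G) := by
  obtain ⟨D, hDp, -, hDn, hDall⟩ := C.cent_invo ht
  have hPD : (P : Subgroup G) ≤ D := fun v hv => hDall v (PE.of_mem P.2 hv) (hP v hv)
  have hDP : D = P := P.3 hDp hPD
  subst hDP
  exact ⟨hDall, hDn⟩

theorem normalizer_le_cent {t : G} (ht : Invo t) (P : Sylow p G)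
    (hP : ∀ v ∈ P, v * t = t * v) :
    ∀ g ∈ Subgroup.normalizer ((P : Subgroup G) : Set G), g * t = t * g := by
  obtain ⟨Q, htQ⟩ := C.exists_sylow_invo ht
  have hQC : (Q : Subgroup G) ≤ Subgroup.centralizer {t} :=
    fun q hq => Subgroup.mem_centralizer_singleton_iff.2 (C.two_comm Q.2 hq htQ)
  have hQN := hQC.trans (C.syl_all ht P hP).2
  have hNtop := C.normp P P.2 (C.sylow_p_ne_bot P)
  have hpi := C.pi_of_invo hNtop ht (hQN htQ)
  have hjoin := join_eq C.hp C.hp2 _ hpi P Q Subgroup.le_normalizer hQN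
  have hle : Subgroup.normalizer ((P : Subgroup G) : Set G) ≤ Subgroup.centralizer {t} := by
    rw [hjoin]
    exact sup_le (fun v hv => Subgroup.mem_centralizer_singleton_iff.2 (hP v hv)) hQC
  exact fun g hg => Subgroup.mem_centralizer_singleton_iff.1 (hle hg)

/-- Under `HypS`, an involution commuting with `t` and different from `t` inverts the Sylow
`p`-subgroup centralized by `t`. -/
theorem inv_of_comm (hS : HypS p G) {t u₁ : G} (ht : Invo t) (hu₁ : Invo u₁)
    (htu : t * u₁ = u₁ * t) (hne : t ≠ u₁) (P : Sylow p G) (hP : ∀ v ∈ P, v * t = t * v) :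
    ∀ v ∈ P, u₁ * v * u₁⁻¹ = v⁻¹ := by
  obtain ⟨Q, htQ, hu₁Q⟩ := C.exists_sylow_pair ht hu₁ htu
  obtain ⟨P', hP'⟩ := hS u₁ hu₁
  have hQC : ∀ w : G, w ∈ Q → (Q : Subgroup G) ≤ Subgroup.centralizer {w} :=
    fun w hw q hq => Subgroup.mem_centralizer_singleton_iff.2 (C.two_comm Q.2 hq hw)
  have hQP := (hQC t htQ).trans (C.syl_all ht P hP).2
  have hQP' := (hQC u₁ hu₁Q).trans (C.syl_all hu₁ P' hP').2
  apply C.inverts_of_fpf P hu₁ (hQP hu₁Q)
  intro v hv hcomm
  by_contra hv1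
  have hvP' : v ∈ P' := (C.syl_all hu₁ P' hP').1 v (PE.of_mem P.2 hv) hcomm.symm
  have hle := C.sylow_le_join P P' Q hQP hQP' hv hvP' hv1
  have hcent : (P : Subgroup G) ⊔ Q ≤ Subgroup.centralizer {t} :=
    sup_le (fun x hx => Subgroup.mem_centralizer_singleton_iff.2 (hP x hx)) (hQC t htQ)
  have hP'P : (P' : Subgroup G) ≤ P := fun x hx =>
    (C.syl_all ht P hP).1 x (PE.of_mem P'.2 hx)
      (Subgroup.mem_centralizer_singleton_iff.1 (hcent (hle hx)))
  have hPP' : P' = P := Sylow.ext (P'.3 P.2 hP'P).symm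
  have hP'' : ∀ v ∈ P, v * u₁ = u₁ * v := by rw [← hPP']; exact hP'
  obtain ⟨c, hcpe, hcN, hcu⟩ := C.trans Q t htQ ht.1 u₁ hu₁Q hu₁.1
  have hle2 : ((c • P : Sylow p G) : Subgroup G) ≤ P := by
    intro x hx
    have hx' : c⁻¹ * x * c ∈ P := (mem_smul_sylow P c x).1 hx
    apply (C.syl_all hu₁ P hP'').1 x (PE.of_mem (c • P).2 hx)
    rw [← hcu]
    exact conj_comm (hP _ hx')
  have heq : c • P = P := Sylow.ext ((c • P).3 P.2 hle2).symm
  have hcP : c ∈ P := mem_sylow_of_normalizer P hcpe (Sylow.smul_eq_iff_mem_normalizer.1 heq)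
  have h2 := hP c hcP
  apply hne
  rw [← hcu, h2]; group

theorem exists_fifth (h3 : 3 ≤ a) (Q : Sylow 2 G) (x₁ x₂ x₃ x₄ : G) :
    ∃ u ∈ Q, u ≠ x₁ ∧ u ≠ x₂ ∧ u ≠ x₃ ∧ u ≠ x₄ := by
  classical
  by_contra hcon
  push Not at hcon
  have hsub : ((Q : Subgroup G) : Set G) ⊆ (({x₁, x₂, x₃, x₄} : Finset G) : Set G) := by
    intro u hu
    have := hcon u hu
    simp only [Finset.coe_insert, Finset.coe_singleton, Set.mem_insert_iff,
      Set.mem_singleton_iff]
    by_cases h1 : u = x₁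
    · exact Or.inl h1
    by_cases h2 : u = x₂
    · exact Or.inr (Or.inl h2)
    by_cases h3 : u = x₃
    · exact Or.inr (Or.inr (Or.inl h3))
    exact Or.inr (Or.inr (Or.inr (this h1 h2 h3)))
  have h1 : Nat.card (Q : Subgroup G) ≤ 4 := by
    have h2 := Set.ncard_le_ncard hsub (Finset.finite_toSet _)
    rw [Set.ncard_coe_finset] at h2
    exact h2.trans Finset.card_le_four
  rw [C.card2 Q] at h1
  have : 2 ^ 3 ≤ 2 ^ a := Nat.pow_le_pow_right (by norm_num) h3
  omega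

theorem a_eq_two (hS : HypS p G) : a = 2 := by
  by_contra ha2
  have h3 : 3 ≤ a := by have := C.ha; omega
  obtain Q : Sylow 2 G := default
  obtain ⟨t, htQ, ht1, -⟩ := C.exists_third Q 1
  have ht := C.invo_of_mem Q htQ ht1
  obtain ⟨P, hP⟩ := hS t ht
  obtain ⟨v, hvP, hv1⟩ := C.exists_mem_ne_one P
  obtain ⟨u₁, hu₁Q, hu₁1, hu₁t⟩ := C.exists_third Q t
  obtain ⟨u₂, hu₂Q, h21, h2t, h2u, h2tu⟩ := C.exists_fifth h3 Q 1 t u₁ (t * u₁)
  have hu₁ := C.invo_of_mem Q hu₁Q hu₁1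
  have hu₂ := C.invo_of_mem Q hu₂Q h21
  have h12Q : u₁ * u₂ ∈ Q := Subgroup.mul_mem _ hu₁Q hu₂Q
  have h121 : u₁ * u₂ ≠ 1 := by
    intro h
    apply h2u
    have : u₂ = u₁⁻¹ := eq_inv_of_mul_eq_one_right h
    rw [this, hu₁.inv_eq]
  have h12t : u₁ * u₂ ≠ t := by
    intro h
    apply h2tu
    have : u₂ = u₁⁻¹ * t := by rw [← h]; group
    rw [this, hu₁.inv_eq]
    exact C.two_comm Q.2 hu₁Q htQ
  have i1 := C.inv_of_comm hS ht hu₁ (C.two_comm Q.2 htQ hu₁Q) (Ne.symm hu₁t) P hP v hvP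
  have i2 := C.inv_of_comm hS ht hu₂ (C.two_comm Q.2 htQ hu₂Q) (Ne.symm h2t) P hP v hvP
  have i3 := C.inv_of_comm hS ht (C.invo_of_mem Q h12Q h121) (C.two_comm Q.2 htQ h12Q)
    (Ne.symm h12t) P hP v hvP
  have h4 := comm_of_inv_inv i1 i2
  exact hv1 (PE.eq_one_of_inv C.hp C.hp2 (PE.of_mem P.2 hvP) i3 h4.symm)

/-- Under `HypS`, a nontrivial `p`-element `y` commutes with an involution `w` centralizing
`N_G(⟨y⟩)`. -/
theorem lemY (hS : HypS p G) {y : G} (hy : PE p y) (hy1 : y ≠ 1) :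
    ∃ w : G, Invo w ∧ y * w = w * y ∧
      ∀ g ∈ Subgroup.normalizer (Subgroup.zpowers y : Set G), g * w = w * g := by
  have := Fact.mk C.hp
  obtain ⟨P, hyP⟩ := exists_sylow_mem hy
  obtain ⟨w, hw, hP⟩ : ∃ w : G, Invo w ∧ ∀ v ∈ P, v * w = w * v := by
    obtain Q : Sylow 2 G := default
    obtain ⟨t₀, ht₀Q, ht₀1, -⟩ := C.exists_third Q 1
    have ht₀ := C.invo_of_mem Q ht₀Q ht₀1
    obtain ⟨P₀, hP₀⟩ := hS t₀ ht₀
    obtain ⟨g, hg⟩ := exists_smul_sylow P₀ P
    refine ⟨g * t₀ * g⁻¹, ht₀.conj g, ?_⟩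
    intro v hv
    rw [← hg, mem_smul_sylow] at hv
    exact conj_comm (hP₀ _ hv)
  refine ⟨w, hw, hP y hyP, ?_⟩
  have hNtop := C.normalizer_y_ne_top hy hy1
  have hPN := C.sylow_le_normalizer_y P hyP
  have hwN : w ∈ Subgroup.normalizer (Subgroup.zpowers y : Set G) :=
    mem_normalizer_zpowers_of_comm (hP y hyP).symm
  have hTw : ∀ T : Subgroup G, IsPGroup 2 T →
      T ≤ Subgroup.normalizer (Subgroup.zpowers y : Set G) →
      Subgroup.normalizer (Subgroup.zpowers y : Set G) ≤ Subgroup.normalizer (T : Set G) →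
      ∀ z ∈ T, z = 1 ∨ z = w := by
    intro T hT hTle hTn
    have hcenP : ∀ g ∈ P, ∀ z ∈ T, g * z = z * g := by
      by_contra hcon
      push Not at hcon
      obtain ⟨g, hg, z, hz, hne⟩ := hcon
      have hcard := C.orb_card hT (PE.of_mem P.2 hg) (hTn (hPN hg)) hz hne
      obtain ⟨Q', hQ'⟩ := C.sylow_of_card hT hcard
      obtain ⟨t₁, ht₁Q, ht₁1, -⟩ := C.exists_third Q' 1
      obtain ⟨t₂, ht₂Q, ht₂1, ht₂t₁⟩ := C.exists_third Q' t₁
      have ht₁ := C.invo_of_mem Q' ht₁Q ht₁1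
      have ht₂ := C.invo_of_mem Q' ht₂Q ht₂1
      have ht₁T : t₁ ∈ T := by rw [← hQ']; exact ht₁Q
      have ht₂T : t₂ ∈ T := by rw [← hQ']; exact ht₂Q
      have hc₁ : t₁ * y = y * t₁ := C.comm_of_normal_two hy hT hTle hTn ht₁T
      have hc₂ : t₂ * y = y * t₂ := C.comm_of_normal_two hy hT hTle hTn ht₂T
      obtain ⟨P₁, hP₁⟩ := hS t₁ ht₁
      have hyP₁ : y ∈ P₁ := (C.syl_all ht₁ P₁ hP₁).1 y hy hc₁.symm
      have hi := C.inv_of_comm hS ht₁ ht₂ (C.two_comm Q'.2 ht₁Q ht₂Q) (Ne.symm ht₂t₁) P₁ hP₁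
        y hyP₁
      exact hy1 (PE.eq_one_of_inv C.hp C.hp2 hy hi hc₂.symm)
    intro z hz
    by_cases hz1 : z = 1
    · exact Or.inl hz1
    · right
      have hzI : Invo z := ⟨hz1, C.two_sq z (PE.of_mem hT hz)⟩
      by_contra hzw
      have hzP : ∀ v ∈ P, v * z = z * v := fun v hv => hcenP v hv z hz
      have hzN : z ∈ Subgroup.normalizer ((P : Subgroup G) : Set G) := by
        apply Subgroup.centralizer_le_normalizer
        rw [Subgroup.mem_centralizer_iff]
        intro v hv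
        exact hzP v hv
      have hzw' : z * w = w * z := C.normalizer_le_cent hw P hP z hzN
      have hi := C.inv_of_comm hS hw hzI hzw'.symm (Ne.symm hzw) P hP y hyP
      exact hy1 (PE.eq_one_of_inv C.hp C.hp2 hy hi (hzP y hyP))
  obtain ⟨hNP, -⟩ := C.nsyl hNtop hw hwN P hPN (by
    intro T hT hTle hTn g hg hgpe z hz
    rcases hTw T hT hTle hTn z hz with h0 | h0
    · rw [h0, mul_one, one_mul]
    · have h1 : g * z * g⁻¹ ∈ T := (Subgroup.mem_normalizer_iff.1 (hTn hg) z).1 hz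
      rcases hTw T hT hTle hTn _ h1 with h2 | h2
      · rw [h0] at h2
        exact ((hw.conj g).1 h2).elim
      · rw [h0] at h2 ⊢
        exact mul_inv_eq_iff_eq_mul.1 h2)
  exact fun g hg => C.normalizer_le_cent hw P hP g (hNP hg)

theorem lemY_unique (hS : HypS p G) {y w w' : G} (hy : PE p y) (hy1 : y ≠ 1) (hw : Invo w)
    (hyw : y * w = w * y)
    (hN : ∀ g ∈ Subgroup.normalizer (Subgroup.zpowers y : Set G), g * w = w * g)
    (hw' : Invo w') (hyw' : y * w' = w' * y) : w' = w := by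
  by_contra hne
  have h1 : w' * w = w * w' := hN w' (mem_normalizer_zpowers_of_comm hyw'.symm)
  obtain ⟨P, hP⟩ := hS w hw
  have hyP : y ∈ P := (C.syl_all hw P hP).1 y hy hyw
  have hi := C.inv_of_comm hS hw hw' h1.symm (Ne.symm hne) P hP y hyP
  exact hy1 (PE.eq_one_of_inv C.hp C.hp2 hy hi hyw')

theorem eq_mul_of_four (h2 : a = 2) (Q : Sylow 2 G) {s t u : G} (hs : s ∈ Q) (ht : t ∈ Q)
    (hu : u ∈ Q) (hs1 : s ≠ 1) (ht1 : t ≠ 1) (hst : s ≠ t) (hu1 : u ≠ 1) (hus : u ≠ s)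
    (hut : u ≠ t) : u = s * t := by
  classical
  by_contra hne
  have hst1 : s * t ≠ 1 := by
    intro h
    apply hst
    have : t = s⁻¹ := eq_inv_of_mul_eq_one_right h
    rw [this, (C.invo_of_mem Q hs hs1).inv_eq]
  have hsub : ((({1, s, t, s * t, u} : Finset G)) : Set G) ⊆ ((Q : Subgroup G) : Set G) := by
    intro x hx
    simp only [Finset.coe_insert, Finset.coe_singleton, Set.mem_insert_iff,
      Set.mem_singleton_iff] at hx
    rcases hx with rfl | rfl | rfl | rfl | rfl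
    · exact Subgroup.one_mem _
    · exact hs
    · exact ht
    · exact Subgroup.mul_mem _ hs ht
    · exact hu
  have n4 : s * t ∉ ({u} : Finset G) := by
    simp only [Finset.mem_singleton]
    exact fun h => hne h.symm
  have n3 : t ∉ ({s * t, u} : Finset G) := by
    simp only [Finset.mem_insert, Finset.mem_singleton, not_or]
    exact ⟨fun h => hs1 (by simpa using h), fun h => hut h.symm⟩
  have n2 : s ∉ ({t, s * t, u} : Finset G) := by
    simp only [Finset.mem_insert, Finset.mem_singleton, not_or]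
    exact ⟨hst, fun h => ht1 (by simpa using h), fun h => hus h.symm⟩
  have n1 : (1 : G) ∉ ({s, t, s * t, u} : Finset G) := by
    simp only [Finset.mem_insert, Finset.mem_singleton, not_or]
    exact ⟨fun h => hs1 h.symm, fun h => ht1 h.symm, fun h => hst1 h.symm, fun h => hu1 h.symm⟩
  have hcard : ({1, s, t, s * t, u} : Finset G).card = 5 := by
    rw [Finset.card_insert_of_notMem n1, Finset.card_insert_of_notMem n2,
      Finset.card_insert_of_notMem n3, Finset.card_insert_of_notMem n4, Finset.card_singleton]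
  have h1 := Set.ncard_le_ncard hsub (Set.toFinite _)
  rw [Set.ncard_coe_finset, hcard] at h1
  have h3 : ((Q : Subgroup G) : Set G).ncard = Nat.card (Q : Subgroup G) := rfl
  rw [h3, C.card2 Q, h2] at h1
  omega

/-- Under `HypS`, two distinct involutions have exactly one common neighbour in the commuting
graph. -/
theorem friend (hS : HypS p G) {s t : G} (hs : Invo s) (ht : Invo t) (hst : s ≠ t) :
    ∃ w : G, Invo w ∧ (s ≠ w ∧ s * w = w * s) ∧ (w ≠ t ∧ w * t = t * w) ∧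
      ∀ w' : G, Invo w' → (s ≠ w' ∧ s * w' = w' * s) → (w' ≠ t ∧ w' * t = t * w') → w' = w := by
  have h2 := C.a_eq_two hS
  have hprod : ∀ w' : G, s * w' = w' * s → w' * t = t * w' → s * t * w' = w' * (s * t) := by
    intro w' h1 h3
    calc s * t * w' = s * (t * w') := by group
      _ = s * (w' * t) := by rw [h3]
      _ = (s * w') * t := by group
      _ = (w' * s) * t := by rw [h1]
      _ = w' * (s * t) := by group
  by_cases hc : s * t = t * s
  · obtain ⟨Q, hsQ, htQ⟩ := C.exists_sylow_pair hs ht hc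
    have hst1 : s * t ≠ 1 := by
      intro h
      apply hst
      have : t = s⁻¹ := eq_inv_of_mul_eq_one_right h
      rw [this, hs.inv_eq]
    have hstI : Invo (s * t) := C.invo_of_mem Q (Subgroup.mul_mem _ hsQ htQ) hst1
    refine ⟨s * t, hstI, ⟨?_, ?_⟩, ⟨?_, ?_⟩, ?_⟩
    · intro h
      exact ht.1 (by simpa using h)
    · rw [mul_assoc, ← hc]
    · intro h
      exact hs.1 (by simpa using h)
    · rw [← mul_assoc, ← hc]
    · rintro w' hw' ⟨hsw', hsw'c⟩ ⟨hw't, hw'tc⟩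
      have hall : ∀ q ∈ Q, q = 1 ∨ q = s ∨ q = t ∨ q = s * t := by
        intro q hq
        by_cases h1 : q = 1
        · exact Or.inl h1
        by_cases h3 : q = s
        · exact Or.inr (Or.inl h3)
        by_cases h4 : q = t
        · exact Or.inr (Or.inr (Or.inl h4))
        exact Or.inr (Or.inr (Or.inr (C.eq_mul_of_four h2 Q hsQ htQ hq hs.1 ht.1 hst h1 h3 h4)))
      have hw'Q : w' ∈ Q := by
        refine le_sylow_of_le_normalizer Q hw'.pe2.isPGroup (Subgroup.zpowers_le.2 ?_)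
          (Subgroup.mem_zpowers w')
        apply Subgroup.centralizer_le_normalizer
        rw [Subgroup.mem_centralizer_iff]
        intro q hq
        rcases hall q hq with h0 | h0 | h0 | h0
        · rw [h0, one_mul, mul_one]
        · rw [h0]; exact hsw'c
        · rw [h0]; exact hw'tc.symm
        · rw [h0]; exact hprod w' hsw'c hw'tc
      exact C.eq_mul_of_four h2 Q hsQ htQ hw'Q hs.1 ht.1 hst hw'.1 (Ne.symm hsw') hw't
  · have hy1 : s * t * (s * t) ≠ 1 := fun h => hc (comm_of_sq hs.2 ht.2 h)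
    have hype := C.sq_prod_pe hs ht
    obtain ⟨w, hw, hyw, hN⟩ := C.lemY hS hype hy1
    have hsN := mem_normalizer_zpowers_of_inv hs (hs.inv_sq_prod ht)
    have htN := mem_normalizer_zpowers_of_inv ht (hs.inv_sq_prod' ht)
    have hsw : s * w = w * s := hN s hsN
    have htw : t * w = w * t := hN t htN
    have hsnw : s ≠ w := by
      intro h
      rw [← h] at hyw
      exact hy1 (PE.eq_one_of_inv C.hp C.hp2 hype (hs.inv_sq_prod ht) hyw)
    have htnw : w ≠ t := by
      intro h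
      rw [h] at hyw
      exact hy1 (PE.eq_one_of_inv C.hp C.hp2 hype (hs.inv_sq_prod' ht) hyw)
    refine ⟨w, hw, ⟨hsnw, hsw⟩, ⟨htnw, htw.symm⟩, ?_⟩
    rintro w' hw' ⟨-, hsw'c⟩ ⟨-, hw'tc⟩
    apply C.lemY_unique hS hype hy1 hw hyw hN hw'
    have h1 := hprod w' hsw'c hw'tc
    calc s * t * (s * t) * w' = s * t * (s * t * w') := by group
      _ = s * t * (w' * (s * t)) := by rw [h1]
      _ = (s * t * w') * (s * t) := by group
      _ = w' * (s * t) * (s * t) := by rw [h1]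
      _ = w' * (s * t * (s * t)) := by group

/-- `HypS` is impossible. -/
theorem hypS_false (hS : HypS p G) : False := by
  classical
  have := Fact.mk C.hp
  have : Fintype G := Fintype.ofFinite G
  obtain Q : Sylow 2 G := default
  obtain ⟨t, htQ, ht1, -⟩ := C.exists_third Q 1
  have ht := C.invo_of_mem Q htQ ht1
  obtain ⟨P, hP⟩ := hS t ht
  obtain ⟨y, hyP, hy1⟩ := C.exists_mem_ne_one P
  have hype : PE p y := PE.of_mem P.2 hyP
  obtain ⟨u₁, hu₁Q, hu₁1, hu₁t⟩ := C.exists_third Q t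
  have hu₁ := C.invo_of_mem Q hu₁Q hu₁1
  have htu₁ : t * u₁ = u₁ * t := C.two_comm Q.2 htQ hu₁Q
  have hinv := C.inv_of_comm hS ht hu₁ htu₁ (Ne.symm hu₁t) P hP y hyP
  have hyt : y * t = t * y := hP y hyP
  have : Nonempty {x : G // Invo x} := ⟨⟨t, ht⟩⟩
  let adj : {x : G // Invo x} → {x : G // Invo x} → Prop :=
    fun v w => (v : G) ≠ w ∧ (v : G) * w = w * v
  have hdeg : ∀ v : {x : G // Invo x},
      (Finset.univ.filter (fun l => adj v l)).card =
        (Finset.univ.filter (fun l => adj ⟨t, ht⟩ l)).card := by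
    intro v
    obtain ⟨g, hg⟩ := C.conj_invo ht v.2
    symm
    let e : {x : G // Invo x} ≃ {x : G // Invo x} :=
      { toFun := fun l => ⟨g * l * g⁻¹, l.2.conj g⟩
        invFun := fun l => ⟨g⁻¹ * l * g, l.2.conj' g⟩
        left_inv := fun l => Subtype.ext (by show g⁻¹ * (g * l * g⁻¹) * g = l; group)
        right_inv := fun l => Subtype.ext (by show g * (g⁻¹ * l * g) * g⁻¹ = l; group) }
    apply Finset.card_equiv e
    intro l
    simp only [Finset.mem_filter, Finset.mem_univ, true_and]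
    show (t ≠ (l : G) ∧ t * (l : G) = l * t) ↔
      ((v : G) ≠ g * l * g⁻¹ ∧ (v : G) * (g * l * g⁻¹) = g * l * g⁻¹ * v)
    rw [← hg]
    constructor
    · rintro ⟨h1, h2⟩
      refine ⟨fun h => h1 ?_, ?_⟩
      · have : t = g⁻¹ * (g * t * g⁻¹) * g := by group
        rw [this, h]; group
      · calc g * t * g⁻¹ * (g * l * g⁻¹) = g * (t * l) * g⁻¹ := by group
          _ = g * (l * t) * g⁻¹ := by rw [h2]
          _ = g * l * g⁻¹ * (g * t * g⁻¹) := by group
    · rintro ⟨h1, h2⟩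
      refine ⟨fun h => h1 (by rw [h]), ?_⟩
      calc t * (l : G) = g⁻¹ * (g * t * g⁻¹ * (g * l * g⁻¹)) * g := by group
        _ = g⁻¹ * (g * l * g⁻¹ * (g * t * g⁻¹)) * g := by rw [h2]
        _ = l * t := by group
  have hk : 3 ≤ (Finset.univ.filter (fun l => adj ⟨t, ht⟩ l)).card := by
    have htu₁1 : t * u₁ ≠ 1 := by
      intro h
      apply hu₁t
      have : u₁ = t⁻¹ := eq_inv_of_mul_eq_one_right h
      rw [this, ht.inv_eq]
    have hconj : y * u₁ * y⁻¹ = y * y * u₁ := by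
      calc y * u₁ * y⁻¹ = y * (u₁ * y⁻¹ * u₁⁻¹) * u₁ := by group
        _ = y * y * u₁ := by rw [inv_conj_of_inv hinv]
    apply Nat.succ_le_of_lt
    rw [Finset.two_lt_card]
    refine ⟨⟨u₁, hu₁⟩, ?_, ⟨t * u₁, C.invo_of_mem Q (Subgroup.mul_mem _ htQ hu₁Q) htu₁1⟩, ?_,
      ⟨y * u₁ * y⁻¹, hu₁.conj y⟩, ?_, ?_, ?_, ?_⟩
    · simp only [Finset.mem_filter, Finset.mem_univ, true_and]
      exact ⟨Ne.symm hu₁t, htu₁⟩
    · simp only [Finset.mem_filter, Finset.mem_univ, true_and]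
      refine ⟨fun h => hu₁1 (by simpa using h), ?_⟩
      show t * (t * u₁) = t * u₁ * t
      rw [mul_assoc, ← htu₁]
    · simp only [Finset.mem_filter, Finset.mem_univ, true_and]
      refine ⟨fun h => ?_, ?_⟩
      · apply hu₁t
        have h' : t = y * u₁ * y⁻¹ := h
        have : u₁ = y⁻¹ * (y * u₁ * y⁻¹) * y := by group
        rw [this, ← h', mul_assoc, ← hyt]; group
      · show t * (y * u₁ * y⁻¹) = y * u₁ * y⁻¹ * t
        have hty' : t * y⁻¹ = y⁻¹ * t := by
          have : t * y⁻¹ = y⁻¹ * (y * t) * y⁻¹ := by group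
          rw [this, hyt]; group
        calc t * (y * u₁ * y⁻¹) = (t * y) * u₁ * y⁻¹ := by group
          _ = (y * t) * u₁ * y⁻¹ := by rw [hyt]
          _ = y * (t * u₁) * y⁻¹ := by group
          _ = y * (u₁ * t) * y⁻¹ := by rw [htu₁]
          _ = y * u₁ * (t * y⁻¹) := by group
          _ = y * u₁ * (y⁻¹ * t) := by rw [hty']
          _ = y * u₁ * y⁻¹ * t := by group
    · intro h
      have h' : u₁ = t * u₁ := congrArg Subtype.val h
      exact ht.1 (by simpa using h')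
    · intro h
      have h' : u₁ = y * u₁ * y⁻¹ := congrArg Subtype.val h
      have h3 : y * u₁ = u₁ * y := by
        have := mul_inv_eq_iff_eq_mul.1 h'.symm
        exact this
      exact hy1 (PE.eq_one_of_inv C.hp C.hp2 hype hinv h3)
    · intro h
      have h' : t * u₁ = y * u₁ * y⁻¹ := congrArg Subtype.val h
      rw [hconj] at h'
      have h3 : t = y * y := mul_right_cancel h'
      have h4 : PE p t := by rw [h3]; exact PE.of_mem P.2 (Subgroup.mul_mem _ hyP hyP)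
      exact ht.1 (PE.eq_one_of_ne C.hp Nat.prime_two C.hp2 h4 ht.pe2)
  apply friendship_regular_false adj (fun v h => h.1 rfl)
    (fun v w h => ⟨fun h' => h.1 h'.symm, h.2.symm⟩)
    (Finset.univ.filter (fun l => adj ⟨t, ht⟩ l)).card hk hdeg
  intro v w hvw
  have hvw' : (v : G) ≠ w := fun h => hvw (Subtype.ext h)
  obtain ⟨x, hx, h1, h2, huniq⟩ := C.friend hS v.2 w.2 hvw'
  rw [Finset.card_eq_one]
  refine ⟨⟨x, hx⟩, ?_⟩
  ext l
  simp only [Finset.mem_filter, Finset.mem_univ, true_and, Finset.mem_singleton]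
  constructor
  · rintro ⟨ha, hb⟩
    exact Subtype.ext (huniq l l.2 ha hb)
  · rintro rfl
    exact ⟨h1, h2⟩

/-- The minimal configuration is contradictory. -/
theorem false : False := by
  by_cases hU : HypU p G
  · exact C.hypU_false hU
  · exact C.hypS_false (C.hypS_of_not_hypU hU)

end MixCtx

end Cfsg.Agent.Lib.Helper1.Mix
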