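import Mathlib
import Cfsg.Agent.Lib.Helper1.MixNU
import Cfsg.Agent.Lib.Helper1.Tools
import Cfsg.Agent.Lib.Helper54.Frobenius

/-!
# The two-prime conclusion (helper1, statement S4017)

`mix_main`: the statement S4017 by induction on the group order.  Case A (every `p`-element
normalizing a `q`-subgroup centralizes it) uses Frobenius' normal `q`-complement theorem; Case B
builds the minimal configuration `MixCtx` and applies `MixCtx.false`.
-/

set_option autoImplicit false

namespace Cfsg.Agent.Lib.Helper1.Mix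

universe u

/-- No subgroup `A ⊔ B` (with `A` normalizing `B`) of order prime to `p`, divisible by `q` and
by another prime. -/
theorem no_mixed {G : Type u} [Group G] [Finite G] {p q : ℕ} (hq : q.Prime)
    (hS1 : ∀ H : Subgroup G, q ∣ Nat.card H → ¬ p ∣ Nat.card H → IsPGroup q H)
    (A B : Subgroup G) (hAB : A ≤ Subgroup.normalizer (B : Set G))
    (hpA : ¬ p ∣ Nat.card A * Nat.card B) (hqK : q ∣ Nat.card (A ⊔ B : Subgroup G))
    {r : ℕ} (hr : r.Prime) (hrq : r ≠ q) (hrK : r ∣ Nat.card (A ⊔ B : Subgroup G)) : False := by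
  have := Fact.mk hq
  have h1 := card_sup_dvd A B hAB
  have h2 : IsPGroup q (A ⊔ B : Subgroup G) := hS1 _ hqK (fun h => hpA (h.trans h1))
  obtain ⟨m, hm⟩ := IsPGroup.iff_card.1 h2
  rw [hm] at hrK
  exact hrq ((Nat.prime_dvd_prime_iff_eq hr hq).1 (hr.dvd_of_dvd_pow hrK))

/-- Case A: every `p`-element normalizing a subgroup of the Sylow `q`-subgroup centralizes it. -/
theorem caseA {G : Type u} [Group G] [Finite G] {p q : ℕ} (hp : p.Prime) (hq : q.Prime)
    (hpq : p ≠ q) (hqG : q ∣ Nat.card G)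
    (hS1 : ∀ H : Subgroup G, q ∣ Nat.card H → ¬ p ∣ Nat.card H → IsPGroup q H)
    (Q : Sylow q G)
    (hCA : ∀ Q₀ : Subgroup G, Q₀ ≤ Q → ∀ g ∈ Subgroup.normalizer (Q₀ : Set G), PE p g →
      ∀ z ∈ Q₀, g * z = z * g) :
    ∀ r : ℕ, r.Prime → r ∣ Nat.card G → r = p ∨ r = q := by
  have := Fact.mk hq
  intro r hr hrG
  by_contra hcon
  push Not at hcon
  obtain ⟨hrp, hrq⟩ := hcon
  have := Fact.mk hr
  have hfrob : ∀ Q₀ : Subgroup G, Q₀ ≤ (Q : Subgroup G) →
      ∀ g ∈ Subgroup.normalizer (Q₀ : Set G), Nat.Coprime (orderOf g) q →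
      g ∈ Subgroup.centralizer (Q₀ : Set G) := by
    intro Q₀ hQ₀ g hg hcop
    rw [Subgroup.mem_centralizer_iff]
    intro z hz
    by_cases hz1 : z = 1
    · rw [hz1, one_mul, mul_one]
    have hQ₀p : IsPGroup q Q₀ := Q.2.to_le hQ₀
    obtain ⟨i, hi⟩ := IsPGroup.iff_card.1 hQ₀p
    have hi0 : i ≠ 0 := by
      rintro rfl
      rw [pow_zero] at hi
      have h1 : Q₀ = ⊥ := Subgroup.card_eq_one.1 hi
      rw [h1] at hz
      exact hz1 (Subgroup.mem_bot.1 hz)
    have hqQ₀ : q ∣ Nat.card Q₀ := by rw [hi]; exact dvd_pow_self q hi0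
    have hgpe : PE p g := by
      have hpos : orderOf g ≠ 0 := (orderOf_pos g).ne'
      have key : ∀ {d : ℕ}, d.Prime → d ∣ orderOf g → d = p := by
        intro d hd hdd
        by_contra hdp
        have hdq : d ≠ q := by
          rintro rfl
          exact hd.one_lt.ne' (Nat.Coprime.eq_one_of_dvd hcop.symm hdd)
        obtain ⟨x, hx⟩ : ∃ x : G, x = g ^ (orderOf g / d) := ⟨_, rfl⟩
        have hxo : orderOf x = d := by rw [hx]; exact orderOf_pow_orderOf_div hpos hdd
        have hxN : x ∈ Subgroup.normalizer (Q₀ : Set G) := by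
          rw [hx]; exact Subgroup.pow_mem _ hg _
        refine no_mixed hq hS1 (Subgroup.zpowers x) Q₀ (Subgroup.zpowers_le.2 hxN) ?_
          (hqQ₀.trans (Subgroup.card_dvd_of_le le_sup_right)) hd hdq ?_
        · rw [Nat.card_zpowers, hxo, hi]
          intro h
          rcases (Nat.Prime.dvd_mul hp).1 h with h | h
          · exact hdp ((Nat.prime_dvd_prime_iff_eq hp hd).1 h).symm
          · exact hpq ((Nat.prime_dvd_prime_iff_eq hp hq).1 (hp.dvd_of_dvd_pow h))
        · have h1 : Nat.card (Subgroup.zpowers x) ∣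
              Nat.card (Subgroup.zpowers x ⊔ Q₀ : Subgroup G) :=
            Subgroup.card_dvd_of_le le_sup_left
          rwa [Nat.card_zpowers, hxo] at h1
      have h7 := Nat.eq_prime_pow_of_unique_prime_dvd hpos key
      exact ⟨_, by rw [← h7]; exact pow_orderOf_eq_one _⟩
    exact (hCA Q₀ hQ₀ g hg hgpe z hz).symm
  obtain ⟨N, hN, hc⟩ := (Cfsg.Agent.Lib.Helper54.frobenius_sylow Q).2 hfrob
  have hcard := hc.card_mul_card
  have hQcard := Sylow.card_eq_multiplicity Q
  have hqN : ¬ q ∣ Nat.card N := by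
    intro h
    have h1 : q ^ ((Nat.card G).factorization q + 1) ∣
        Nat.card N * Nat.card (Q : Subgroup G) := by
      rw [hQcard, pow_succ, mul_comm]
      exact Nat.mul_dvd_mul h dvd_rfl
    rw [hcard] at h1
    exact Nat.pow_succ_factorization_not_dvd Nat.card_pos.ne' hq h1
  have hrN : r ∣ Nat.card N := by
    have h1 : r ∣ Nat.card N * Nat.card (Q : Subgroup G) := by rw [hcard]; exact hrG
    rcases (Nat.Prime.dvd_mul hr).1 h1 with h | h
    · exact h
    · rw [hQcard] at h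
      exact (hrq ((Nat.prime_dvd_prime_iff_eq hr hq).1 (hr.dvd_of_dvd_pow h))).elim
  have := hN
  obtain R : Sylow r N := default
  have hfrat := Sylow.normalizer_sup_eq_top R
  have hRbot : (R : Subgroup N) ≠ ⊥ := R.ne_bot_of_dvd_card hrN
  obtain ⟨j, hj⟩ := IsPGroup.iff_card.1 R.2
  have hj0 : j ≠ 0 := by
    rintro rfl
    rw [pow_zero] at hj
    exact hRbot (Subgroup.card_eq_one.1 hj)
  have hR'card : Nat.card ((R : Subgroup N).map N.subtype) = r ^ j := by
    rw [Subgroup.card_subtype]; exact hj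
  have hdvd := card_sup_dvd
    (Subgroup.normalizer (((R : Subgroup N).map N.subtype : Subgroup G) : Set G)) N
    (by rw [Subgroup.normalizer_eq_top N]; exact le_top)
  rw [hfrat, Subgroup.card_top] at hdvd
  have hqnorm : q ∣ Nat.card
      (Subgroup.normalizer (((R : Subgroup N).map N.subtype : Subgroup G) : Set G)) := by
    rcases (Nat.Prime.dvd_mul hq).1 (hqG.trans hdvd) with h | h
    · exact h
    · exact (hqN h).elim
  obtain ⟨h, hh⟩ := exists_prime_orderOf_dvd_card' q hqnorm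
  have hh' : orderOf (h : G) = q := by rw [Subgroup.orderOf_coe]; exact hh
  refine no_mixed hq hS1 (Subgroup.zpowers (h : G)) ((R : Subgroup N).map N.subtype)
    (Subgroup.zpowers_le.2 h.2) ?_ ?_ hr hrq ?_
  · rw [Nat.card_zpowers, hh', hR'card]
    intro h1
    rcases (Nat.Prime.dvd_mul hp).1 h1 with h1 | h1
    · exact hpq ((Nat.prime_dvd_prime_iff_eq hp hq).1 h1)
    · exact hrp ((Nat.prime_dvd_prime_iff_eq hp hr).1 (hp.dvd_of_dvd_pow h1)).symm
  · have h1 : Nat.card (Subgroup.zpowers (h : G)) ∣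
        Nat.card (Subgroup.zpowers (h : G) ⊔ (R : Subgroup N).map N.subtype : Subgroup G) :=
      Subgroup.card_dvd_of_le le_sup_left
    rwa [Nat.card_zpowers, hh'] at h1
  · have h1 : Nat.card ((R : Subgroup N).map N.subtype) ∣
        Nat.card (Subgroup.zpowers (h : G) ⊔ (R : Subgroup N).map N.subtype : Subgroup G) :=
      Subgroup.card_dvd_of_le le_sup_right
    rw [hR'card] at h1
    exact (dvd_pow_self r hj0).trans h1

/-- The two-prime conclusion, by induction on the order. -/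
theorem mix_main : ∀ (n : ℕ) (G : Type u) [Group G] [Finite G] (p q : ℕ), Nat.card G = n →
    p.Prime → q.Prime → p ≠ q → p ≠ 2 → p ∣ Nat.card G → q ∣ Nat.card G →
    (∀ H : Subgroup G, H ≠ ⊤ → ¬ IsPGroup q H → q ∣ Nat.card H → p ∣ Nat.card H) →
    (q ^ (Nat.card G).factorization q - 1 < p ∨
      (p = q ^ (Nat.card G).factorization q - 1 ∧ ∀ P : Sylow p G, IsMulCommutative P)) →
    ∀ r : ℕ, r.Prime → r ∣ Nat.card G → r = p ∨ r = q := by
  intro n
  induction n using Nat.strong_induction_on with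
  | _ n ih =>
  intro G _ _ p q hn hp hq hpq hp2 hpG hqG hmix hlarge
  have := Fact.mk hp
  have := Fact.mk hq
  have hS1 : ∀ H : Subgroup G, q ∣ Nat.card H → ¬ p ∣ Nat.card H → IsPGroup q H := by
    intro H hqH hpH
    by_contra hnp
    apply hpH
    apply hmix H _ hnp hqH
    rintro rfl
    rw [Subgroup.card_top] at hpH
    exact hpH hpG
  obtain Q : Sylow q G := default
  have hQcard := Sylow.card_eq_multiplicity Q
  obtain ⟨a, ha_def⟩ : ∃ a : ℕ, a = (Nat.card G).factorization q := ⟨_, rfl⟩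
  rw [← ha_def] at hQcard hlarge
  by_cases hCA : ∀ Q₀ : Subgroup G, Q₀ ≤ Q → ∀ g ∈ Subgroup.normalizer (Q₀ : Set G), PE p g →
      ∀ z ∈ Q₀, g * z = z * g
  · exact caseA hp hq hpq hqG hS1 Q hCA
  push Not at hCA
  obtain ⟨Q₀, hQ₀, g, hgN, hgpe, z, hz, hgz⟩ := hCA
  have hgz' : g * z * g⁻¹ ≠ z := fun h => hgz (mul_inv_eq_iff_eq_mul.1 h)
  have hQ₀card : Nat.card Q₀ ≤ q ^ a := by rw [← hQcard]; exact Subgroup.card_le_of_le hQ₀
  have hqa1 : 1 ≤ q ^ a := Nat.one_le_pow _ _ hq.pos
  have hpa' : p + 1 = q ^ a ∧ ∀ P : Sylow p G, IsMulCommutative P := by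
    rcases hlarge with h | ⟨h1, h2⟩
    · exfalso
      have h3 : Nat.card Q₀ ≤ p + 1 := by omega
      have h4 := (orb hp Q₀ h3 hgpe hgN hz hgz').1
      omega
    · exact ⟨by omega, h2⟩
  obtain ⟨hpa, hPcomm⟩ := hpa'
  obtain ⟨hQ₀c, htr⟩ := orb hp Q₀ (by omega) hgpe hgN hz hgz'
  have hQ₀eq : Q₀ = Q := Subgroup.eq_of_le_of_card_ge hQ₀ (by rw [hQcard, hQ₀c, hpa])
  rw [hQ₀eq] at htr hz hgN
  have hq2 : q = 2 := by
    have hodd : Odd p := hp.odd_of_ne_two hp2
    have heven : Even (q ^ a) := by rw [← hpa]; exact hodd.add_one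
    exact (Nat.Prime.even_iff hq).1 (Nat.even_pow.1 heven).1
  subst hq2
  have ha2 : 2 ≤ a := by
    by_contra h
    have ha1 : a ≤ 1 := by omega
    have h1 : 2 ^ a ≤ 2 ^ 1 := Nat.pow_le_pow_right (by norm_num) ha1
    have hp3 : 2 ≤ p := hp.two_le
    omega
  intro r hr hrG
  by_contra hcon
  push Not at hcon
  obtain ⟨hrp, hr2⟩ := hcon
  have := Fact.mk hr
  have hz1 : z ≠ 1 := by
    rintro rfl
    exact hgz' (by group)
  -- the Sylow `2`-subgroup is elementary abelian
  have hQsq : ∀ u ∈ Q, u * u = 1 := by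
    have h2Q : 2 ∣ Nat.card (Q : Subgroup G) := by
      rw [hQcard]; exact dvd_pow_self 2 (by omega)
    obtain ⟨u₀, hu₀⟩ := exists_prime_orderOf_dvd_card' 2 h2Q
    have hu₀1 : (u₀ : G) ≠ 1 := by
      intro h
      have h1 : u₀ = 1 := Subtype.ext h
      rw [h1, orderOf_one] at hu₀
      omega
    have hu₀sq : (u₀ : G) * u₀ = 1 := by
      have h1 := pow_orderOf_eq_one u₀
      rw [hu₀] at h1
      have h3 := congrArg Subtype.val h1
      rw [Subgroup.coe_pow, Subgroup.coe_one, pow_two] at h3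
      exact h3
    obtain ⟨c, -, hc⟩ := htr u₀ u₀.2 hu₀1
    have hzz : z * z = 1 := by
      have h1 : z = c⁻¹ * (u₀ : G) * c := by rw [← hc]; group
      rw [h1]
      calc c⁻¹ * ↑u₀ * c * (c⁻¹ * ↑u₀ * c) = c⁻¹ * (↑u₀ * ↑u₀) * c := by group
        _ = 1 := by rw [hu₀sq]; group
    intro u hu
    by_cases hu1 : u = 1
    · rw [hu1, one_mul]
    · obtain ⟨c, -, hc⟩ := htr u hu hu1
      rw [← hc]
      calc c * z * c⁻¹ * (c * z * c⁻¹) = c * (z * z) * c⁻¹ := by group
        _ = 1 := by rw [hzz]; group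
  have htwo_sq : ∀ x : G, PE 2 x → x * x = 1 := by
    intro x hx
    obtain ⟨Q', hxQ'⟩ := exists_sylow_mem hx
    obtain ⟨h, hh⟩ := exists_smul_sylow Q Q'
    rw [← hh, mem_smul_sylow] at hxQ'
    have h1 := hQsq _ hxQ'
    have e : x * x = h * ((h⁻¹ * x * h) * (h⁻¹ * x * h)) * h⁻¹ := by group
    rw [e, h1]; group
  have hp_comm : ∀ P : Sylow p G, ∀ x ∈ P, ∀ y ∈ P, x * y = y * x := by
    intro P x hx y hy
    have h := (hPcomm P).is_comm.comm (⟨x, hx⟩ : (P : Subgroup G)) ⟨y, hy⟩
    exact congrArg Subtype.val h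
  -- proper subgroups of even order
  have hproper : ∀ H : Subgroup G, H ≠ ⊤ → 2 ∣ Nat.card H →
      ∀ r : ℕ, r.Prime → r ∣ Nat.card H → r = 2 ∨ r = p := by
    intro H hH h2H r' hr' hr'H
    by_cases hH2 : IsPGroup 2 H
    · obtain ⟨m, hm⟩ := IsPGroup.iff_card.1 hH2
      rw [hm] at hr'H
      exact Or.inl ((Nat.prime_dvd_prime_iff_eq hr' Nat.prime_two).1 (hr'.dvd_of_dvd_pow hr'H))
    · have hpH := hmix H hH hH2 h2H
      have hlt : Nat.card H < n := by
        rw [← hn, ← Subgroup.card_top (G := G)]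
        exact card_lt_card_of_lt (lt_top_iff_ne_top.2 hH)
      have key := ih (Nat.card H) hlt H p 2 rfl hp Nat.prime_two hpq hp2 hpH h2H ?_ ?_ r' hr' hr'H
      · exact key.symm
      · intro K hK hK2 h2K
        have h1 := hmix (K.map H.subtype) ?_ ?_ ?_
        · rwa [Subgroup.card_subtype] at h1
        · intro h
          apply hK
          rw [eq_top_iff]
          intro x _
          have hx : (x : G) ∈ K.map H.subtype := by rw [h]; exact Subgroup.mem_top _
          obtain ⟨x', hx', hxx⟩ := hx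
          have : x' = x := Subtype.ext hxx
          rw [← this]; exact hx'
        · intro h
          apply hK2
          exact h.of_equiv (Subgroup.equivMapOfInjective K H.subtype H.subtype_injective).symm
        · rwa [Subgroup.card_subtype]
      · have hb : (Nat.card H).factorization 2 ≤ a := by
          rw [ha_def]
          exact (Nat.factorization_le_iff_dvd Nat.card_pos.ne' Nat.card_pos.ne').2
            (Subgroup.card_subgroup_dvd_card H) 2
        by_cases hb' : (Nat.card H).factorization 2 < a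
        · left
          have h1 : 2 ^ (Nat.card H).factorization 2 < 2 ^ a :=
            Nat.pow_lt_pow_right (by norm_num) hb'
          have h2 : 1 ≤ 2 ^ (Nat.card H).factorization 2 := Nat.one_le_pow _ _ (by norm_num)
          omega
        · right
          have hba : (Nat.card H).factorization 2 = a := by omega
          refine ⟨by rw [hba]; omega, ?_⟩
          intro P
          refine ⟨⟨?_⟩⟩
          intro x y
          obtain ⟨P', hP'⟩ := (P.2.map H.subtype).exists_le_sylow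
          have h1 := hp_comm P' ((x : H) : G) (hP' ⟨x, x.2, rfl⟩) ((y : H) : G)
            (hP' ⟨y, y.2, rfl⟩)
          exact Subtype.ext (Subtype.ext h1)
  have hnorm2 : ∀ T : Subgroup G, IsPGroup 2 T → T ≠ ⊥ →
      Subgroup.normalizer (T : Set G) ≠ ⊤ := by
    intro T hT hTbot htop
    obtain ⟨x, hx⟩ := exists_prime_orderOf_dvd_card' r hrG
    obtain ⟨i, hi⟩ := IsPGroup.iff_card.1 hT
    have hi0 : i ≠ 0 := by
      rintro rfl
      rw [pow_zero] at hi
      exact hTbot (Subgroup.card_eq_one.1 hi)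
    refine no_mixed Nat.prime_two hS1 (Subgroup.zpowers x) T (by rw [htop]; exact le_top) ?_ ?_
      hr hr2 ?_
    · rw [Nat.card_zpowers, hx, hi]
      intro h1
      rcases (Nat.Prime.dvd_mul hp).1 h1 with h1 | h1
      · exact hrp ((Nat.prime_dvd_prime_iff_eq hp hr).1 h1).symm
      · exact hp2 ((Nat.prime_dvd_prime_iff_eq hp Nat.prime_two).1 (hp.dvd_of_dvd_pow h1))
    · have h1 : Nat.card T ∣ Nat.card (Subgroup.zpowers x ⊔ T : Subgroup G) :=
        Subgroup.card_dvd_of_le le_sup_right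
      rw [hi] at h1
      exact (dvd_pow_self 2 hi0).trans h1
    · have h1 : Nat.card (Subgroup.zpowers x) ∣ Nat.card (Subgroup.zpowers x ⊔ T : Subgroup G) :=
        Subgroup.card_dvd_of_le le_sup_left
      rwa [Nat.card_zpowers, hx] at h1
  have hnormp : ∀ N : Subgroup G, IsPGroup p N → N ≠ ⊥ →
      Subgroup.normalizer (N : Set G) ≠ ⊤ := by
    intro N hN hNbot htop
    have hNn : N.Normal := Subgroup.normalizer_eq_top_iff.1 htop
    have hgN' : g ∉ N := by
      intro hg
      have h1 : g * z * g⁻¹ * z⁻¹ ∈ N := by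
        have h0 : g * z * g⁻¹ * z⁻¹ = g * (z * g⁻¹ * z⁻¹) := by group
        rw [h0]; exact N.mul_mem hg (hNn.conj_mem _ (N.inv_mem hg) z)
      have h2 : g * z * g⁻¹ * z⁻¹ ∈ Q :=
        Subgroup.mul_mem _ ((Subgroup.mem_normalizer_iff.1 hgN z).1 hz) (Subgroup.inv_mem _ hz)
      have h3 := PE.eq_one_of_ne hp Nat.prime_two hp2 (PE.of_mem hN h1) (PE.of_mem Q.2 h2)
      exact hgz' (mul_inv_eq_one.1 h3)
    obtain ⟨i, hi⟩ := IsPGroup.iff_card.1 hN
    have hi0 : i ≠ 0 := by
      rintro rfl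
      rw [pow_zero] at hi
      exact hNbot (Subgroup.card_eq_one.1 hi)
    have hcardG : Nat.card G = Nat.card (G ⧸ N) * Nat.card N :=
      Subgroup.card_eq_card_quotient_mul_card_subgroup N
    have hlt : Nat.card (G ⧸ N) < n := by
      rw [← hn, hcardG, hi]
      have h1 : 2 ≤ p ^ i := (hp.two_le).trans (Nat.le_self_pow hi0 p)
      have h2 : 0 < Nat.card (G ⧸ N) := Nat.card_pos
      nlinarith
    have hpq' : p ∣ Nat.card (G ⧸ N) := by
      obtain ⟨k, hk⟩ := hgpe
      have h1 : (QuotientGroup.mk' N g) ^ p ^ k = 1 := by rw [← map_pow, hk, map_one]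
      have h2 : QuotientGroup.mk' N g ≠ 1 := fun h => hgN' ((QuotientGroup.eq_one_iff g).1 h)
      have h3 : orderOf (QuotientGroup.mk' N g) ∣ p ^ k := orderOf_dvd_of_pow_eq_one h1
      obtain ⟨j, -, hj⟩ := (Nat.dvd_prime_pow hp).1 h3
      have hj0 : j ≠ 0 := by
        rintro rfl
        rw [pow_zero] at hj
        exact h2 (orderOf_eq_one_iff.1 hj)
      have h4 : p ∣ orderOf (QuotientGroup.mk' N g) := by rw [hj]; exact dvd_pow_self p hj0
      exact h4.trans (orderOf_dvd_natCard _)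
    have h2q' : 2 ∣ Nat.card (G ⧸ N) := by
      have h1 : 2 ∣ Nat.card (G ⧸ N) * Nat.card N := by rw [← hcardG]; exact hqG
      rcases (Nat.Prime.dvd_mul Nat.prime_two).1 h1 with h | h
      · exact h
      · rw [hi] at h
        exact (hp2 ((Nat.prime_dvd_prime_iff_eq Nat.prime_two hp).1
          (Nat.prime_two.dvd_of_dvd_pow h)).symm).elim
    have hfac : (Nat.card (G ⧸ N)).factorization 2 = a := by
      rw [ha_def, hcardG, Nat.factorization_mul Nat.card_pos.ne' Nat.card_pos.ne', hi,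
        Nat.factorization_pow, hp.factorization]
      simp [hp2]
    have hsurj := QuotientGroup.mk'_surjective N
    have key := ih (Nat.card (G ⧸ N)) hlt (G ⧸ N) p 2 rfl hp Nat.prime_two hpq hp2 hpq' h2q' ?_ ?_
    · have h1 : r ∣ Nat.card (G ⧸ N) * Nat.card N := by rw [← hcardG]; exact hrG
      rcases (Nat.Prime.dvd_mul hr).1 h1 with h | h
      · rcases key r hr h with h' | h'
        · exact hrp h'
        · exact hr2 h'
      · rw [hi] at h
        exact hrp ((Nat.prime_dvd_prime_iff_eq hr hp).1 (hr.dvd_of_dvd_pow h))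
    · intro K hK hK2 h2K
      have hLtop : K.comap (QuotientGroup.mk' N) ≠ ⊤ := by
        intro h
        apply hK
        rw [← Subgroup.map_comap_eq_self_of_surjective hsurj K, h, ← MonoidHom.range_eq_map,
          MonoidHom.range_eq_top.2 hsurj]
      have hcardL : Nat.card (K.comap (QuotientGroup.mk' N)) = Nat.card K * Nat.card N := by
        have e1 := Subgroup.card_mul_index (K.comap (QuotientGroup.mk' N))
        have e2 := Subgroup.card_mul_index K
        rw [Subgroup.index_comap_of_surjective K hsurj] at e1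
        have hidx : K.index ≠ 0 := Subgroup.index_ne_zero_of_finite
        apply Nat.eq_of_mul_eq_mul_right (Nat.pos_of_ne_zero hidx)
        rw [e1, hcardG, ← e2]; ring
      have h2L : 2 ∣ Nat.card (K.comap (QuotientGroup.mk' N)) := by
        rw [hcardL]; exact Dvd.dvd.mul_right h2K _
      have hpiL := hproper _ hLtop h2L
      by_contra hpK
      apply hK2
      have h5 : ∀ {d : ℕ}, d.Prime → d ∣ Nat.card K → d = 2 := by
        intro d hd hdK
        rcases hpiL d hd (by rw [hcardL]; exact Dvd.dvd.mul_right hdK _) with h | h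
        · exact h
        · exact (hpK (h ▸ hdK)).elim
      have h7 := Nat.eq_prime_pow_of_unique_prime_dvd Nat.card_pos.ne' h5
      exact IsPGroup.of_card h7
    · right
      refine ⟨by rw [hfac]; omega, ?_⟩
      intro P
      refine ⟨⟨?_⟩⟩
      rintro ⟨x, hx⟩ ⟨y, hy⟩
      have hL : IsPGroup p ((P : Subgroup (G ⧸ N)).comap (QuotientGroup.mk' N)) :=
        P.2.comap_of_ker_isPGroup (QuotientGroup.mk' N) (by rw [QuotientGroup.ker_mk']; exact hN)
      obtain ⟨P', hP'⟩ := hL.exists_le_sylow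
      obtain ⟨x', rfl⟩ := hsurj x
      obtain ⟨y', rfl⟩ := hsurj y
      have h1 := hp_comm P' x' (hP' hx) y' (hP' hy)
      apply Subtype.ext
      show QuotientGroup.mk' N x' * QuotientGroup.mk' N y' =
        QuotientGroup.mk' N y' * QuotientGroup.mk' N x'
      rw [← map_mul, ← map_mul, h1]
  have htrans : ∀ Q' : Sylow 2 G, ∀ u ∈ Q', u ≠ 1 → ∀ v ∈ Q', v ≠ 1 →
      ∃ c : G, PE p c ∧ c ∈ Subgroup.normalizer ((Q' : Subgroup G) : Set G) ∧
        c * u * c⁻¹ = v := by
    intro Q' u hu hu1 v hv hv1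
    obtain ⟨h, hh⟩ := exists_smul_sylow Q Q'
    rw [← hh, mem_smul_sylow] at hu hv
    have hu1' : h⁻¹ * u * h ≠ 1 := by
      intro h0
      apply hu1
      have : u = h * (h⁻¹ * u * h) * h⁻¹ := by group
      rw [this, h0]; group
    have hv1' : h⁻¹ * v * h ≠ 1 := by
      intro h0
      apply hv1
      have : v = h * (h⁻¹ * v * h) * h⁻¹ := by group
      rw [this, h0]; group
    obtain ⟨c₁, hc₁, hc₁u⟩ := htr _ hu hu1'
    obtain ⟨c₂, hc₂, hc₂v⟩ := htr _ hv hv1'
    have hcz : c₂ * c₁⁻¹ ∈ Subgroup.zpowers g :=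
      Subgroup.mul_mem _ hc₂ (Subgroup.inv_mem _ hc₁)
    refine ⟨h * (c₂ * c₁⁻¹) * h⁻¹, (hgpe.of_mem_zpowers hcz).conj h, ?_, ?_⟩
    · rw [← hh]
      apply Sylow.smul_eq_iff_mem_normalizer.1
      rw [← mul_smul]
      have h0 : h * (c₂ * c₁⁻¹) * h⁻¹ * h = h * (c₂ * c₁⁻¹) := by group
      rw [h0, mul_smul, Sylow.smul_eq_iff_mem_normalizer.2 (Subgroup.zpowers_le.2 hgN hcz)]
    · have e1 : u = h * (c₁ * z * c₁⁻¹) * h⁻¹ := by rw [hc₁u]; group
      have e2 : v = h * (c₂ * z * c₂⁻¹) * h⁻¹ := by rw [hc₂v]; group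
      rw [e1, e2]; group
  exact MixCtx.false (G := G) (p := p) (a := a)
    ⟨hp, hp2, ha2, hpa, fun Q' => by rw [ha_def]; exact Sylow.card_eq_multiplicity Q', htwo_sq,
      hp_comm, hproper, hnorm2, hnormp, htrans⟩

end Cfsg.Agent.Lib.Helper1.Mix
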