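import Mathlib
import Cfsg.Agent.Lib.Helper73.DihedralIso

/-!
# Recognition of `SL(2,3)` as `Q₈ ⋊ C₃`

A group generated by `a, b, y` with `a⁴ = 1`, `a² ≠ 1`, `b² = a²`, `b a b⁻¹ = a⁻¹`, `y³ = 1`, `y ≠ 1`,
`y a y⁻¹ = b`, `y b y⁻¹ = a b` is isomorphic to `SL(2,3)`.
-/

set_option autoImplicit false

namespace Cfsg.Agent.Lib.Helper1

open Cfsg.Agent.Lib.Helper73

/-- A homomorphism out of a generalized quaternion group with prescribed values on generators. -/
theorem exists_hom_quaternionGroup {G : Type*} [Group G] (n : ℕ) [NeZero n] (a b : G)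
    (ha : orderOf a = 2 * n) (hb2 : b ^ 2 = a ^ n) (hba : b * a * b⁻¹ = a⁻¹) :
    ∃ f : QuaternionGroup n →* G,
      f (QuaternionGroup.a 1) = a ∧ f (QuaternionGroup.xa 0) = b := by
  let f : QuaternionGroup n → G := fun x =>
    match x with
    | QuaternionGroup.a i => zmodPow (2 * n) a i
    | QuaternionGroup.xa i => b * zmodPow (2 * n) a i
  have hbb : b * b = a ^ n := by rw [← pow_two]; exact hb2
  have hmul : ∀ x y : QuaternionGroup n, f (x * y) = f x * f y := by
    rintro (i | i) (j | j)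
    · exact zmodPow_add ha i j
    · change b * zmodPow (2 * n) a (j - i) = zmodPow (2 * n) a i * (b * zmodPow (2 * n) a j)
      rw [zmodPow_sub ha, ← mul_assoc (zmodPow (2 * n) a i), zmodPow_mul_inverting hba i,
        (zmodPow_commute (2 * n) a j i).inv_right.eq]
      group
    · change b * zmodPow (2 * n) a (i + j) = b * zmodPow (2 * n) a i * zmodPow (2 * n) a j
      rw [zmodPow_add ha, mul_assoc]
    · change zmodPow (2 * n) a ((n : ZMod (2 * n)) + j - i)
        = b * zmodPow (2 * n) a i * (b * zmodPow (2 * n) a j)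
      rw [zmodPow_sub ha, zmodPow_add ha, zmodPow_natCast ha, mul_assoc b,
        ← mul_assoc (zmodPow (2 * n) a i), zmodPow_mul_inverting hba i, ← hbb,
        mul_assoc (b * b), (zmodPow_commute (2 * n) a j i).inv_right.eq]
      group
  refine ⟨MonoidHom.mk' f hmul, ?_, ?_⟩
  · change zmodPow (2 * n) a 1 = a
    have h1 := zmodPow_natCast ha 1
    rw [Nat.cast_one, pow_one] at h1
    exact h1
  · change b * zmodPow (2 * n) a 0 = b
    rw [zmodPow_zero, mul_one]

/-- The homomorphism from the cyclic group of order three determined by an element of order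
dividing three. -/
def zmod3Hom {L : Type*} [Group L] (y : L) (hy : y ^ 3 = 1) : Multiplicative (ZMod 3) →* L :=
  MonoidHom.mk' (fun k => y ^ (Multiplicative.toAdd k).val) (by
    intro k l
    change y ^ (Multiplicative.toAdd k + Multiplicative.toAdd l).val = _
    rw [ZMod.val_add, ← pow_add, ← pow_eq_pow_mod _ hy])

theorem zmod3Hom_apply {L : Type*} [Group L] (y : L) (hy : y ^ 3 = 1)
    (k : Multiplicative (ZMod 3)) : zmod3Hom y hy k = y ^ (Multiplicative.toAdd k).val := rfl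

/-- The function underlying the standard automorphism of order three of the quaternion group. -/
def q8rotFun : QuaternionGroup 2 → QuaternionGroup 2
  | .a i => match i.val with
    | 0 => .a 0
    | 1 => .xa 0
    | 2 => .a 2
    | _ => .xa 2
  | .xa i => match i.val with
    | 0 => .xa 3
    | 1 => .a 3
    | 2 => .xa 1
    | _ => .a 1

set_option maxRecDepth 10000 in
theorem q8rotFun_mul : ∀ x y : QuaternionGroup 2, q8rotFun (x * y) = q8rotFun x * q8rotFun y := by
  decide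

set_option maxRecDepth 10000 in
theorem q8rotFun_cube : ∀ x : QuaternionGroup 2, q8rotFun (q8rotFun (q8rotFun x)) = x := by
  decide

/-- The standard automorphism of order three of the quaternion group of order eight. -/
def q8rot : MulAut (QuaternionGroup 2) where
  toFun := q8rotFun
  invFun := fun x => q8rotFun (q8rotFun x)
  left_inv := q8rotFun_cube
  right_inv := q8rotFun_cube
  map_mul' := q8rotFun_mul

theorem q8rot_apply (x : QuaternionGroup 2) : q8rot x = q8rotFun x := rfl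

theorem q8rot_pow_three : q8rot ^ 3 = 1 := by
  ext x
  simp only [pow_succ, pow_zero, one_mul, MulAut.mul_apply, MulAut.one_apply, q8rot_apply]
  exact q8rotFun_cube x

/-- The model group `Q₈ ⋊ C₃`. -/
abbrev Q8C3 : Type := QuaternionGroup 2 ⋊[zmod3Hom q8rot q8rot_pow_three] Multiplicative (ZMod 3)

instance : Finite Q8C3 := Finite.of_equiv _ SemidirectProduct.equivProd.symm

theorem card_q8c3 : Nat.card Q8C3 = 24 := by
  rw [SemidirectProduct.card, Nat.card_eq_fintype_card, Nat.card_eq_fintype_card,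
    QuaternionGroup.card]
  rfl

/-- The quaternion group is generated by `a 1` and `xa 0`. -/
theorem quaternionGroup_closure (n : ℕ) [NeZero n] :
    Subgroup.closure ({QuaternionGroup.a 1, QuaternionGroup.xa 0} : Set (QuaternionGroup n)) = ⊤ := by
  rw [eq_top_iff]
  have ha : (QuaternionGroup.a 1 : QuaternionGroup n) ∈
      Subgroup.closure ({QuaternionGroup.a 1, QuaternionGroup.xa 0} : Set (QuaternionGroup n)) :=
    Subgroup.subset_closure (by simp)
  have hx : (QuaternionGroup.xa 0 : QuaternionGroup n) ∈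
      Subgroup.closure ({QuaternionGroup.a 1, QuaternionGroup.xa 0} : Set (QuaternionGroup n)) :=
    Subgroup.subset_closure (by simp)
  have hai : ∀ i : ZMod (2 * n), (QuaternionGroup.a i : QuaternionGroup n) ∈
      Subgroup.closure ({QuaternionGroup.a 1, QuaternionGroup.xa 0} : Set (QuaternionGroup n)) := by
    intro i
    have h1 : (QuaternionGroup.a i : QuaternionGroup n) = (QuaternionGroup.a 1) ^ i.val := by
      rw [QuaternionGroup.a_one_pow, ZMod.natCast_zmod_val]
    rw [h1]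
    exact Subgroup.pow_mem _ ha _
  rintro (i | i) -
  · exact hai i
  · have h1 : (QuaternionGroup.xa i : QuaternionGroup n) =
        QuaternionGroup.xa 0 * QuaternionGroup.a i := by
      rw [QuaternionGroup.xa_mul_a, zero_add]
    rw [h1]
    exact Subgroup.mul_mem _ hx (hai i)

set_option maxRecDepth 10000 in
theorem q8_pow_four : ∀ q : QuaternionGroup 2, q ^ 4 = 1 := by decide

set_option maxRecDepth 10000 in
theorem q8_ne_one_cases : ∀ q : QuaternionGroup 2, q ≠ 1 →
    q = QuaternionGroup.a 1 ^ 2 ∨ q ^ 2 = QuaternionGroup.a 1 ^ 2 := by decide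

set_option maxRecDepth 10000 in
theorem q8rotFun_a_one : q8rotFun (QuaternionGroup.a 1) = QuaternionGroup.xa 0 := by decide

set_option maxRecDepth 10000 in
theorem q8rotFun_xa_zero :
    q8rotFun (QuaternionGroup.xa 0) = QuaternionGroup.a 1 * QuaternionGroup.xa 0 := by decide

set_option maxRecDepth 10000 in
theorem zmod3_cases : ∀ k : ZMod 3, k.val = 0 ∨ k.val = 1 ∨ k.val = 2 := by decide

/-- The injective homomorphism from `Q₈ ⋊ C₃` determined by elements `a, b, y` satisfying the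
defining relations. -/
theorem q8c3_exists_hom {L : Type*} [Group L] (a b y : L)
    (ha4 : a ^ 4 = 1) (ha2 : a ^ 2 ≠ 1) (hb2 : b ^ 2 = a ^ 2) (hba : b * a * b⁻¹ = a⁻¹)
    (hy3 : y ^ 3 = 1) (hy1 : y ≠ 1) (hya : y * a * y⁻¹ = b) (hyb : y * b * y⁻¹ = a * b) :
    ∃ F : Q8C3 →* L, Function.Injective F ∧
      F (SemidirectProduct.inl (QuaternionGroup.a 1)) = a ∧
      F (SemidirectProduct.inl (QuaternionGroup.xa 0)) = b ∧
      F (SemidirectProduct.inr (Multiplicative.ofAdd 1)) = y := by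
  have hao : orderOf a = 2 * 2 := by
    have h1 : orderOf a = 2 ^ (1 + 1) := by
      have : Fact (Nat.Prime 2) := ⟨Nat.prime_two⟩
      exact orderOf_eq_prime_pow (by rw [pow_one]; exact ha2) (by norm_num; exact ha4)
    rw [h1]; norm_num
  obtain ⟨f₁, hf₁a, hf₁b⟩ := exists_hom_quaternionGroup 2 a b hao hb2 hba
  have hgen : ∀ x : QuaternionGroup 2, f₁ (q8rot x) = y * f₁ x * y⁻¹ := by
    have h1 : f₁.comp q8rot.toMonoidHom = (MulAut.conj y).toMonoidHom.comp f₁ := by
      apply MonoidHom.eq_of_eqOn_dense (quaternionGroup_closure 2)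
      intro x hx
      rcases hx with rfl | rfl
      · change f₁ (q8rotFun (QuaternionGroup.a 1)) = y * f₁ (QuaternionGroup.a 1) * y⁻¹
        rw [q8rotFun_a_one, hf₁a, hf₁b, hya]
      · change f₁ (q8rotFun (QuaternionGroup.xa 0)) = y * f₁ (QuaternionGroup.xa 0) * y⁻¹
        rw [q8rotFun_xa_zero, map_mul, hf₁a, hf₁b, hyb]
    intro x
    exact DFunLike.congr_fun h1 x
  have hpow : ∀ (k : ℕ) (x : QuaternionGroup 2), f₁ ((q8rot ^ k) x) = y ^ k * f₁ x * (y ^ k)⁻¹ := by
    intro k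
    induction k with
    | zero => intro x; simp
    | succ k ih =>
      intro x
      rw [pow_succ, MulAut.mul_apply, ih, hgen, pow_succ]
      group
  have h : ∀ g : Multiplicative (ZMod 3),
      f₁.comp ((zmod3Hom q8rot q8rot_pow_three) g).toMonoidHom =
        (MulAut.conj ((zmod3Hom y hy3) g)).toMonoidHom.comp f₁ := by
    intro g
    ext x
    exact hpow _ x
  refine ⟨SemidirectProduct.lift f₁ (zmod3Hom y hy3) h, ?_, ?_, ?_, ?_⟩
  · have hf₁inj : ∀ q : QuaternionGroup 2, f₁ q = 1 → q = 1 := by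
      intro q hq
      by_contra hq1
      have h2 : f₁ (QuaternionGroup.a 1 ^ 2) = 1 := by
        rcases q8_ne_one_cases q hq1 with h3 | h3
        · rw [← h3]; exact hq
        · rw [← h3, map_pow, hq, one_pow]
      rw [map_pow, hf₁a] at h2
      exact ha2 h2
    rw [injective_iff_map_eq_one]
    intro m hm
    have hm' : f₁ m.left * zmod3Hom y hy3 m.right = 1 := hm
    set k := (Multiplicative.toAdd m.right).val with hk
    have hw : zmod3Hom y hy3 m.right = y ^ k := rfl
    have hw1 : y ^ k = f₁ (m.left⁻¹) := by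
      rw [map_inv, ← hw]
      exact eq_inv_of_mul_eq_one_right hm'
    have hw4 : (y ^ k) ^ 4 = 1 := by
      rw [hw1, ← map_pow, q8_pow_four, map_one]
    have hw3 : (y ^ k) ^ 3 = 1 := by
      rw [← pow_mul, mul_comm, pow_mul, hy3, one_pow]
    have hwone : y ^ k = 1 := by
      calc y ^ k = (y ^ k) ^ 4 * ((y ^ k) ^ 3)⁻¹ := by group
        _ = 1 := by rw [hw4, hw3]; simp
    have hk0 : k = 0 := by
      rcases zmod3_cases (Multiplicative.toAdd m.right) with h0 | h0 | h0
      · exact h0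
      · exfalso
        rw [hk, h0, pow_one] at hwone
        exact hy1 hwone
      · exfalso
        rw [hk, h0] at hwone
        apply hy1
        calc y = y ^ 3 * (y ^ 2)⁻¹ := by group
          _ = 1 := by rw [hy3, hwone]; simp
    have hr : m.right = 1 := by
      have h0 : Multiplicative.toAdd m.right = 0 := (ZMod.val_eq_zero _).mp hk0
      exact h0
    have hl : m.left = 1 := by
      apply hf₁inj
      rw [hw, hwone, mul_one] at hm'
      exact hm'
    ext
    · exact hl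
    · exact hr
  · rw [SemidirectProduct.lift_inl, hf₁a]
  · rw [SemidirectProduct.lift_inl, hf₁b]
  · rw [SemidirectProduct.lift_inr]
    change y ^ (1 : ZMod 3).val = y
    rw [ZMod.val_one, pow_one]

/-- A group generated by elements satisfying the defining relations is isomorphic to
`Q₈ ⋊ C₃`. -/
theorem q8c3_mulEquiv_of_closure {L : Type*} [Group L] (a b y : L)
    (ha4 : a ^ 4 = 1) (ha2 : a ^ 2 ≠ 1) (hb2 : b ^ 2 = a ^ 2) (hba : b * a * b⁻¹ = a⁻¹)
    (hy3 : y ^ 3 = 1) (hy1 : y ≠ 1) (hya : y * a * y⁻¹ = b) (hyb : y * b * y⁻¹ = a * b)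
    (hgen : Subgroup.closure ({a, b, y} : Set L) = ⊤) : Nonempty (Q8C3 ≃* L) := by
  obtain ⟨F, hinj, hFa, hFb, hFy⟩ := q8c3_exists_hom a b y ha4 ha2 hb2 hba hy3 hy1 hya hyb
  have hsurj : Function.Surjective F := by
    rw [← MonoidHom.range_eq_top, eq_top_iff, ← hgen, Subgroup.closure_le]
    intro x hx
    rcases hx with rfl | rfl | rfl
    · exact ⟨_, hFa⟩
    · exact ⟨_, hFb⟩
    · exact ⟨_, hFy⟩
  exact ⟨MulEquiv.ofBijective F ⟨hinj, hsurj⟩⟩

/-- A group of order `24` with elements satisfying the defining relations is isomorphic to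
`Q₈ ⋊ C₃`. -/
theorem q8c3_mulEquiv_of_card {L : Type*} [Group L] [Finite L] (a b y : L)
    (ha4 : a ^ 4 = 1) (ha2 : a ^ 2 ≠ 1) (hb2 : b ^ 2 = a ^ 2) (hba : b * a * b⁻¹ = a⁻¹)
    (hy3 : y ^ 3 = 1) (hy1 : y ≠ 1) (hya : y * a * y⁻¹ = b) (hyb : y * b * y⁻¹ = a * b)
    (hcard : Nat.card L = 24) : Nonempty (Q8C3 ≃* L) := by
  obtain ⟨F, hinj, -, -, -⟩ := q8c3_exists_hom a b y ha4 ha2 hb2 hba hy3 hy1 hya hyb
  have hbij : Function.Bijective F := by
    rw [Nat.bijective_iff_injective_and_card]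
    exact ⟨hinj, by rw [card_q8c3, hcard]⟩
  exact ⟨MulEquiv.ofBijective F hbij⟩

/-- The element `[0 1; -1 0]` of `SL(2,3)`. -/
def sl23A : Matrix.SpecialLinearGroup (Fin 2) (ZMod 3) := ⟨!![0, 1; 2, 0], by decide⟩
/-- The element `[-1 1; 1 1]` of `SL(2,3)`. -/
def sl23B : Matrix.SpecialLinearGroup (Fin 2) (ZMod 3) := ⟨!![2, 1; 1, 1], by decide⟩
/-- The element `[1 0; 1 1]` of `SL(2,3)`. -/
def sl23Y : Matrix.SpecialLinearGroup (Fin 2) (ZMod 3) := ⟨!![1, 0; 1, 1], by decide⟩

set_option maxRecDepth 100000 in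
theorem card_sl23 : Nat.card (Matrix.SpecialLinearGroup (Fin 2) (ZMod 3)) = 24 := by
  rw [Nat.card_eq_fintype_card]
  decide

set_option maxRecDepth 100000 in
theorem sl23_relations : sl23A ^ 4 = 1 ∧ sl23A ^ 2 ≠ 1 ∧ sl23B ^ 2 = sl23A ^ 2 ∧
    sl23B * sl23A * sl23B⁻¹ = sl23A⁻¹ ∧ sl23Y ^ 3 = 1 ∧ sl23Y ≠ 1 ∧
    sl23Y * sl23A * sl23Y⁻¹ = sl23B ∧ sl23Y * sl23B * sl23Y⁻¹ = sl23A * sl23B := by
  decide

/-- `SL(2,3)` is isomorphic to `Q₈ ⋊ C₃`. -/
theorem q8c3_mulEquiv_sl23 : Nonempty (Q8C3 ≃* Matrix.SpecialLinearGroup (Fin 2) (ZMod 3)) := by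
  obtain ⟨h1, h2, h3, h4, h5, h6, h7, h8⟩ := sl23_relations
  exact q8c3_mulEquiv_of_card sl23A sl23B sl23Y h1 h2 h3 h4 h5 h6 h7 h8 card_sl23

/-- **Recognition of `SL(2,3)`**: a group generated by `a, b, y` with `a⁴ = 1`, `a² ≠ 1`,
`b² = a²`, `b a b⁻¹ = a⁻¹`, `y³ = 1`, `y ≠ 1`, `y a y⁻¹ = b`, `y b y⁻¹ = a b` is isomorphic to
`SL(2,3)`. -/
theorem nonempty_mulEquiv_sl23_of_closure {L : Type*} [Group L] (a b y : L)
    (ha4 : a ^ 4 = 1) (ha2 : a ^ 2 ≠ 1) (hb2 : b ^ 2 = a ^ 2) (hba : b * a * b⁻¹ = a⁻¹)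
    (hy3 : y ^ 3 = 1) (hy1 : y ≠ 1) (hya : y * a * y⁻¹ = b) (hyb : y * b * y⁻¹ = a * b)
    (hgen : Subgroup.closure ({a, b, y} : Set L) = ⊤) :
    Nonempty (L ≃* Matrix.SpecialLinearGroup (Fin 2) (ZMod 3)) := by
  obtain ⟨e1⟩ := q8c3_mulEquiv_of_closure a b y ha4 ha2 hb2 hba hy3 hy1 hya hyb hgen
  obtain ⟨e2⟩ := q8c3_mulEquiv_sl23
  exact ⟨e1.symm.trans e2⟩

/-- A group of order `24` containing elements satisfying the defining relations is isomorphic to
`SL(2,3)`. -/
theorem nonempty_mulEquiv_sl23_of_card {L : Type*} [Group L] [Finite L] (a b y : L)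
    (ha4 : a ^ 4 = 1) (ha2 : a ^ 2 ≠ 1) (hb2 : b ^ 2 = a ^ 2) (hba : b * a * b⁻¹ = a⁻¹)
    (hy3 : y ^ 3 = 1) (hy1 : y ≠ 1) (hya : y * a * y⁻¹ = b) (hyb : y * b * y⁻¹ = a * b)
    (hcard : Nat.card L = 24) :
    Nonempty (L ≃* Matrix.SpecialLinearGroup (Fin 2) (ZMod 3)) := by
  obtain ⟨e1⟩ := q8c3_mulEquiv_of_card a b y ha4 ha2 hb2 hba hy3 hy1 hya hyb hcard
  obtain ⟨e2⟩ := q8c3_mulEquiv_sl23
  exact ⟨e1.symm.trans e2⟩

end Cfsg.Agent.Lib.Helper1
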