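import Mathlib
import Cfsg.Agent.S0016
import Cfsg.Agent.Lib.Helper52.QuaternionSylow
import Cfsg.Agent.Lib.Helper53.Quaternion
import Cfsg.Agent.Lib.Helper54.Frobenius
import Cfsg.Agent.Lib.Helper1.Q8C3

/-!
# Groups with generalized quaternion Sylow `2`-subgroups

Either there is a normal `2`-complement or `SL(2,3)` is a section.
-/

set_option autoImplicit false

namespace Cfsg.Agent.Lib.Helper1

/-- The unique involution of a generalized quaternion group. -/
theorem quaternionGroup_eq_of_orderOf_eq_two (m : ℕ) [NeZero m] (u : QuaternionGroup m)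
    (hu : orderOf u = 2) : u = QuaternionGroup.a m := by
  rcases u with i | i
  · have h1 : (QuaternionGroup.a i : QuaternionGroup m) ^ 2 = 1 := by
      rw [← hu]; exact pow_orderOf_eq_one _
    rw [pow_two, QuaternionGroup.a_mul_a, QuaternionGroup.one_def] at h1
    have h2 : i + i = 0 := QuaternionGroup.a.inj h1
    have h3 : i ≠ 0 := by
      rintro rfl
      rw [QuaternionGroup.a_zero, orderOf_one] at hu
      omega
    have h4 : (i.val + i.val) % (2 * m) = 0 := by
      have := congrArg ZMod.val h2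
      rwa [ZMod.val_add, ZMod.val_zero] at this
    have h5 : i.val < 2 * m := ZMod.val_lt i
    have h6 : i.val ≠ 0 := fun h => h3 ((ZMod.val_eq_zero i).mp h)
    have h7 : i.val = m := by
      obtain ⟨c, hc⟩ := Nat.dvd_of_mod_eq_zero h4
      rcases c with _ | _ | c
      · rw [mul_zero] at hc; omega
      · rw [zero_add, mul_one] at hc; omega
      · have h8 : 2 * m * (c + 1 + 1) = 2 * (m * c) + 4 * m := by ring
        rw [h8] at hc
        omega
    rw [← ZMod.natCast_zmod_val i, h7]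
  · rw [QuaternionGroup.orderOf_xa] at hu; omega

/-- In a finite group, an element mapping a subgroup into itself by conjugation normalizes it. -/
theorem mem_normalizer_of_conj_mem {G : Type*} [Group G] [Finite G] (C : Subgroup G) (g : G)
    (h : ∀ x ∈ C, g * x * g⁻¹ ∈ C) : g ∈ Subgroup.normalizer (C : Set G) := by
  have hk : ∀ k : ℕ, ∀ x ∈ C, g ^ k * x * (g ^ k)⁻¹ ∈ C := by
    intro k
    induction k with
    | zero => intro x hx; simpa using hx
    | succ k ih =>
      intro x hx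
      have h1 := h _ (ih x hx)
      have h2 : g ^ (k + 1) * x * (g ^ (k + 1))⁻¹ = g * (g ^ k * x * (g ^ k)⁻¹) * g⁻¹ := by
        rw [pow_succ']; group
      rw [h2]; exact h1
  rw [Subgroup.mem_normalizer_iff]
  intro x
  refine ⟨h x, fun hx => ?_⟩
  have hn : 0 < orderOf g := orderOf_pos g
  have h1 : g⁻¹ = g ^ (orderOf g - 1) := by
    apply inv_eq_of_mul_eq_one_right
    rw [← pow_succ', Nat.sub_add_cancel hn, pow_orderOf_eq_one]
  have h2 := hk (orderOf g - 1) _ hx
  rw [← h1] at h2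
  have h3 : g⁻¹ * (g * x * g⁻¹) * g⁻¹⁻¹ = x := by group
  rwa [h3] at h2

/-- An element of odd order normalizing a cyclic `2`-subgroup centralizes it. -/
theorem mem_centralizer_of_cyclic_two_group {G : Type*} [Group G] [Finite G] (C : Subgroup G)
    (hcyc : IsCyclic C) (hC : IsPGroup 2 C) (g : G)
    (hg : g ∈ Subgroup.normalizer (C : Set G)) (hodd : (orderOf g).Coprime 2) :
    g ∈ Subgroup.centralizer (C : Set G) := by
  have : Fact (Nat.Prime 2) := ⟨Nat.prime_two⟩
  set ψ : MulAut C := C.normalizerMonoidHom ⟨g, hg⟩ with hψ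
  have h1 : orderOf ψ ∣ orderOf g := by
    have h2 : orderOf ψ ∣ orderOf (⟨g, hg⟩ : Subgroup.normalizer (C : Set G)) :=
      orderOf_map_dvd _ _
    rwa [Subgroup.orderOf_mk] at h2
  obtain ⟨k, hk⟩ := IsPGroup.iff_card.mp hC
  have h3 : orderOf ψ ∣ 2 ^ k := by
    have h4 : orderOf ψ ∣ Nat.card (MulAut C) := orderOf_dvd_natCard ψ
    rw [IsCyclic.card_mulAut, hk] at h4
    rcases k with _ | k
    · simpa using h4
    · rw [Nat.totient_prime_pow_succ Nat.prime_two] at h4
      exact h4.trans ⟨2, by ring⟩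
  have h5 : orderOf ψ = 1 := by
    apply Nat.Coprime.eq_one_of_dvd _ h3
    exact Nat.Coprime.pow_right k (Nat.Coprime.coprime_dvd_left h1 hodd)
  have h6 : ψ = 1 := orderOf_eq_one_iff.mp h5
  have h7 : (⟨g, hg⟩ : Subgroup.normalizer (C : Set G)) ∈ C.normalizerMonoidHom.ker := h6
  rw [Subgroup.normalizerMonoidHom_ker, Subgroup.mem_subgroupOf] at h7
  exact h7

/-- If `g s g⁻¹ = s c` with `g` centralizing `c` and the orders of `g` and `c` coprime,
then `c = 1`. -/
theorem eq_one_of_conj_eq_mul {G : Type*} [Group G] [Finite G] {g s c : G}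
    (h1 : g * s * g⁻¹ = s * c) (h2 : g * c = c * g)
    (hcop : (orderOf g).Coprime (orderOf c)) : c = 1 := by
  have hk : ∀ k : ℕ, g ^ k * s * (g ^ k)⁻¹ = s * c ^ k := by
    intro k
    induction k with
    | zero => simp
    | succ k ih =>
      have h3 : g * c ^ k * g⁻¹ = c ^ k := by
        have : Commute g (c ^ k) := Commute.pow_right h2 k
        rw [this.eq]; group
      calc g ^ (k + 1) * s * (g ^ (k + 1))⁻¹ = g * (g ^ k * s * (g ^ k)⁻¹) * g⁻¹ := by
            rw [pow_succ']; group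
        _ = (g * s * g⁻¹) * (g * c ^ k * g⁻¹) := by rw [ih]; group
        _ = s * c ^ (k + 1) := by rw [h1, h3, pow_succ', mul_assoc]
  have h4 := hk (orderOf g)
  rw [pow_orderOf_eq_one] at h4
  have h5 : c ^ orderOf g = 1 := by
    have : s = s * c ^ orderOf g := by simpa using h4
    exact (mul_eq_left.mp this.symm)
  have h6 : orderOf c ∣ orderOf g := orderOf_dvd_of_pow_eq_one h5
  have h7 : orderOf c = 1 := Nat.Coprime.eq_one_of_dvd hcop.symm h6
  exact orderOf_eq_one_iff.mp h7

/-- An element of odd order normalizing a generalized quaternion `2`-subgroup of order at least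
`16` centralizes it. -/
theorem mem_centralizer_of_quaternion_large {G : Type*} [Group G] [Finite G] (Q : Subgroup G)
    (hQ2 : IsPGroup 2 Q) (M : ℕ) [NeZero M] (hM : 4 ≤ M) (e : Q ≃* QuaternionGroup M) (g : G)
    (hg : g ∈ Subgroup.normalizer (Q : Set G)) (hodd : (orderOf g).Coprime 2) :
    g ∈ Subgroup.centralizer (Q : Set G) := by
  obtain ⟨α, hαQ, hαo, h4, -, hprod, -⟩ := Cfsg.Agent.Lib.Helper52.quaternion_data Q M e
  have hgn := Subgroup.mem_normalizer_iff.mp hg
  have hconj_ord : orderOf (g * α * g⁻¹) = orderOf α :=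
    orderOf_injective (MulAut.conj g).toMonoidHom (MulAut.conj g).injective α
  have hα' : g * α * g⁻¹ ∈ Subgroup.zpowers α := by
    by_contra hcon
    have h5 := h4 _ ((hgn α).mp hαQ) hcon
    have h6 : orderOf (g * α * g⁻¹) ∣ 4 := orderOf_dvd_of_pow_eq_one h5
    rw [hconj_ord, hαo] at h6
    have := Nat.le_of_dvd (by norm_num) h6
    omega
  have hgC : g ∈ Subgroup.normalizer ((Subgroup.zpowers α : Subgroup G) : Set G) := by
    apply mem_normalizer_of_conj_mem
    intro x hx
    obtain ⟨j, rfl⟩ := Subgroup.mem_zpowers_iff.mp hx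
    rw [← conj_zpow]
    exact Subgroup.zpow_mem _ hα' j
  have hzQ : Subgroup.zpowers α ≤ Q := by rw [Subgroup.zpowers_le]; exact hαQ
  have hcent := mem_centralizer_of_cyclic_two_group (Subgroup.zpowers α) inferInstance
    (hQ2.to_le hzQ) g hgC hodd
  rw [Subgroup.mem_centralizer_iff] at hcent ⊢
  intro s hs
  by_cases hsz : s ∈ Subgroup.zpowers α
  · exact hcent s hsz
  · have hs' : g * s * g⁻¹ ∈ Q := (hgn s).mp hs
    have hs'z : g * s * g⁻¹ ∉ Subgroup.zpowers α := by
      intro hcon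
      exact hsz ((Subgroup.mem_normalizer_iff.mp hgC s).mpr hcon)
    have hsinv : s⁻¹ ∉ Subgroup.zpowers α := fun hcon =>
      hsz (by simpa using Subgroup.inv_mem _ hcon)
    have hc := hprod s⁻¹ (Q.inv_mem hs) (g * s * g⁻¹) hs' hsinv hs'z
    set c := s⁻¹ * (g * s * g⁻¹) with hcdef
    have h1 : g * s * g⁻¹ = s * c := by rw [hcdef]; group
    have h2 : g * c = c * g := (hcent c hc).symm
    have hcQ : c ∈ Q := hzQ hc
    have hco : (orderOf g).Coprime (orderOf c) := by
      obtain ⟨j, hj⟩ := (IsPGroup.iff_orderOf.mp hQ2) ⟨c, hcQ⟩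
      rw [Subgroup.orderOf_mk] at hj
      rw [hj]; exact Nat.Coprime.pow_right j hodd
    have hc1 := eq_one_of_conj_eq_mul h1 h2 hco
    rw [hc1, mul_one] at h1
    calc s * g = (g * s * g⁻¹) * g := by rw [h1]
      _ = g * s := by group

/-- A subgroup of a generalized quaternion Sylow `2`-subgroup which is normalized but not
centralized by an element of odd order is a quaternion group of order `8`. -/
theorem quaternion_eight_of_odd_action {G : Type*} [Group G] [Finite G] (T : Sylow 2 G) (n : ℕ)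
    (eT : (T : Subgroup G) ≃* QuaternionGroup (2 ^ n)) (Q : Subgroup G)
    (hQT : Q ≤ (T : Subgroup G)) (g : G) (hg : g ∈ Subgroup.normalizer (Q : Set G))
    (hodd : (orderOf g).Coprime 2) (hgc : g ∉ Subgroup.centralizer (Q : Set G)) :
    Nonempty (Q ≃* QuaternionGroup 2) := by
  have : Fact (Nat.Prime 2) := ⟨Nat.prime_two⟩
  have hQ2 : IsPGroup 2 Q := T.2.to_le hQT
  have hinv : ∀ x y : Q, orderOf x = 2 → orderOf y = 2 → x = y := by
    intro x y hx hy
    have hx' : orderOf (eT ⟨(x : G), hQT x.2⟩) = 2 := by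
      rw [MulEquiv.orderOf_eq, Subgroup.orderOf_mk, Subgroup.orderOf_coe]; exact hx
    have hy' : orderOf (eT ⟨(y : G), hQT y.2⟩) = 2 := by
      rw [MulEquiv.orderOf_eq, Subgroup.orderOf_mk, Subgroup.orderOf_coe]; exact hy
    have h1 := quaternionGroup_eq_of_orderOf_eq_two (2 ^ n) _ hx'
    have h2 := quaternionGroup_eq_of_orderOf_eq_two (2 ^ n) _ hy'
    have h3 := eT.injective (h1.trans h2.symm)
    exact Subtype.ext (Subtype.mk.inj h3)
  have hQne : Nontrivial Q := by
    by_contra hcon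
    rw [not_nontrivial_iff_subsingleton] at hcon
    apply hgc
    rw [Subgroup.mem_centralizer_iff]
    intro h hh
    have h0 : (⟨h, hh⟩ : Q) = 1 := Subsingleton.elim _ _
    have h1 : h = 1 := congrArg Subtype.val h0
    rw [h1]; simp
  have h2dvd : 2 ∣ Nat.card Q := by
    obtain ⟨k, hk⟩ := IsPGroup.iff_card.mp hQ2
    rw [hk]
    have hk0 : k ≠ 0 := by
      rintro rfl
      rw [pow_zero] at hk
      have := Finite.one_lt_card (α := Q)
      omega
    exact dvd_pow_self 2 hk0
  obtain ⟨t, ht⟩ := exists_prime_orderOf_dvd_card' 2 h2dvd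
  have huniq : ∃! x : Q, orderOf x = 2 := ⟨t, ht, fun y hy => hinv y t hy ht⟩
  rcases Cfsg.Agent.S0016.result 2 hQ2
    (Cfsg.Agent.Lib.Helper53.uniq_subgroup_of_uniq_involution huniq) with hcyc | ⟨-, m, ⟨e⟩⟩
  · exact absurd (mem_centralizer_of_cyclic_two_group Q hcyc hQ2 g hg hodd) hgc
  · rcases m with _ | _ | m
    · have hc1 : IsCyclic (QuaternionGroup (2 ^ 0)) := QuaternionGroup.quaternionGroup_one_isCyclic
      have hcyc : IsCyclic Q := isCyclic_of_surjective e.symm e.symm.surjective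
      exact absurd (mem_centralizer_of_cyclic_two_group Q hcyc hQ2 g hg hodd) hgc
    · exact ⟨e⟩
    · exfalso
      have hM : 4 ≤ 2 ^ (m + 1 + 1) := by
        have h1 : 2 ^ (m + 1 + 1) = 4 * 2 ^ m := by ring
        have h2 := Nat.one_le_two_pow (n := m)
        omega
      exact hgc (mem_centralizer_of_quaternion_large Q hQ2 (2 ^ (m + 1 + 1)) hM e g hg hodd)

/-- The map of the quaternion group determined by the images `u`, `v` of the standard
generators. -/
def q8F (u v : QuaternionGroup 2) : QuaternionGroup 2 → QuaternionGroup 2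
  | .a i => u ^ i.val
  | .xa i => v * u ^ i.val

theorem q8F_eq (ψ : MulAut (QuaternionGroup 2)) (q : QuaternionGroup 2) :
    ψ q = q8F (ψ (QuaternionGroup.a 1)) (ψ (QuaternionGroup.xa 0)) q := by
  rcases q with i | i
  · change _ = ψ (QuaternionGroup.a 1) ^ i.val
    rw [← map_pow, QuaternionGroup.a_one_pow, ZMod.natCast_zmod_val]
  · change _ = ψ (QuaternionGroup.xa 0) * ψ (QuaternionGroup.a 1) ^ i.val
    rw [← map_pow, ← map_mul, QuaternionGroup.a_one_pow, ZMod.natCast_zmod_val,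
      QuaternionGroup.xa_mul_a, zero_add]

set_option maxRecDepth 100000 in
theorem q8F_order : ∀ u v : QuaternionGroup 2, u ^ 2 ≠ 1 → v ^ 2 ≠ 1 → v ≠ u → v ≠ u⁻¹ →
    (∀ q, q8F u v (q8F u v (q8F u v q)) = q) ∨
    (∀ q, q8F u v (q8F u v (q8F u v (q8F u v q))) = q) := by decide

set_option maxRecDepth 100000 in
theorem q8F_exists : ∀ u v : QuaternionGroup 2, u ^ 2 ≠ 1 → v ^ 2 ≠ 1 → v ≠ u → v ≠ u⁻¹ →
    (∀ q, q8F u v (q8F u v (q8F u v q)) = q) → (∃ q, q8F u v q ≠ q) →
    ∃ x, x ^ 2 ≠ 1 ∧ q8F u v x ≠ x ∧ q8F u v x ≠ x⁻¹ ∧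
      q8F u v (q8F u v x) = x * q8F u v x := by decide

set_option maxRecDepth 100000 in
theorem q8_pair : ∀ x y : QuaternionGroup 2, x ^ 2 ≠ 1 → y ^ 2 ≠ 1 → y ≠ x → y ≠ x⁻¹ →
    y ^ 2 = x ^ 2 ∧ y * x * y⁻¹ = x⁻¹ := by decide

set_option maxRecDepth 100000 in
theorem q8_gen_facts : (QuaternionGroup.a 1 : QuaternionGroup 2) ^ 2 ≠ 1 ∧
    (QuaternionGroup.xa 0 : QuaternionGroup 2) ^ 2 ≠ 1 ∧
    (QuaternionGroup.xa 0 : QuaternionGroup 2) ≠ QuaternionGroup.a 1 ∧
    (QuaternionGroup.xa 0 : QuaternionGroup 2) ≠ (QuaternionGroup.a 1)⁻¹ := by decide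

/-- A nontrivial automorphism of odd order of the quaternion group of order `8` has order `3`
and cyclically permutes suitable generators. -/
theorem q8_aut_odd (ψ : MulAut (QuaternionGroup 2)) (hodd : (orderOf ψ).Coprime 2)
    (hne : ψ ≠ 1) :
    ψ ^ 3 = 1 ∧ ∃ x : QuaternionGroup 2, x ^ 2 ≠ 1 ∧ ψ x ≠ x ∧ ψ x ≠ x⁻¹ ∧
      ψ (ψ x) = x * ψ x := by
  obtain ⟨g1, g2, g3, g4⟩ := q8_gen_facts
  have hF : ∀ q, ψ q = q8F (ψ (QuaternionGroup.a 1)) (ψ (QuaternionGroup.xa 0)) q := q8F_eq ψ
  generalize hu : ψ (QuaternionGroup.a 1) = u at hF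
  generalize hv : ψ (QuaternionGroup.xa 0) = v at hF
  have hu2 : u ^ 2 ≠ 1 := by
    rw [← hu, ← map_pow]; exact fun h => g1 (ψ.injective (h.trans (map_one ψ).symm))
  have hv2 : v ^ 2 ≠ 1 := by
    rw [← hv, ← map_pow]; exact fun h => g2 (ψ.injective (h.trans (map_one ψ).symm))
  have hvu : v ≠ u := by
    rw [← hu, ← hv]; exact fun h => g3 (ψ.injective h)
  have hvu' : v ≠ u⁻¹ := by
    rw [← hu, ← hv, ← map_inv]; exact fun h => g4 (ψ.injective h)
  have h3 : ∀ q, q8F u v (q8F u v (q8F u v q)) = q := by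
    rcases q8F_order u v hu2 hv2 hvu hvu' with h | h
    · exact h
    · exfalso
      have h4 : ψ ^ 4 = 1 := by
        ext q
        simp only [pow_succ, pow_zero, one_mul, MulAut.mul_apply, MulAut.one_apply, hF]
        exact h q
      have h5 : orderOf ψ ∣ 2 ^ 2 := orderOf_dvd_of_pow_eq_one h4
      have h6 : orderOf ψ = 1 := Nat.Coprime.eq_one_of_dvd (Nat.Coprime.pow_right 2 hodd) h5
      exact hne (orderOf_eq_one_iff.mp h6)
  have hne' : ∃ q, q8F u v q ≠ q := by
    by_contra hcon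
    push Not at hcon
    apply hne
    ext q
    rw [hF, hcon]; rfl
  obtain ⟨x, hx2, hx1, hx3, hx4⟩ := q8F_exists u v hu2 hv2 hvu hvu' h3 hne'
  refine ⟨?_, x, hx2, ?_, ?_, ?_⟩
  · ext q
    simp only [pow_succ, pow_zero, one_mul, MulAut.mul_apply, MulAut.one_apply, hF]
    exact h3 q
  · rw [hF]; exact hx1
  · rw [hF]; exact hx3
  · rw [hF (ψ x), hF x]; exact hx4

/-- A quaternion subgroup of order `8` normalized but not centralized by an element of odd order
gives a section isomorphic to `SL(2,3)`. -/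
theorem exists_sl23_section_of_q8 {G : Type*} [Group G] [Finite G] (Q : Subgroup G)
    (e : Q ≃* QuaternionGroup 2) (g : G) (hg : g ∈ Subgroup.normalizer (Q : Set G))
    (hodd : (orderOf g).Coprime 2) (hgc : g ∉ Subgroup.centralizer (Q : Set G)) :
    ∃ (H K : Subgroup G) (_ : (K.subgroupOf H).Normal),
      Nonempty ((H ⧸ K.subgroupOf H) ≃* Matrix.SpecialLinearGroup (Fin 2) (ZMod 3)) := by
  set ψ : MulAut Q := Q.normalizerMonoidHom ⟨g, hg⟩ with hψ
  have hψval : ∀ q : Q, ((ψ q : Q) : G) = g * q * g⁻¹ := fun q => rfl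
  have hψord : orderOf ψ ∣ orderOf g := by
    have h2 : orderOf ψ ∣ orderOf (⟨g, hg⟩ : Subgroup.normalizer (Q : Set G)) :=
      orderOf_map_dvd _ _
    rwa [Subgroup.orderOf_mk] at h2
  set ψ' : MulAut (QuaternionGroup 2) := MulAut.congr e ψ with hψ'
  have hψ'val : ∀ x, ψ' x = e (ψ (e.symm x)) := fun x => rfl
  have hψ'ord : (orderOf ψ').Coprime 2 := by
    rw [hψ', MulEquiv.orderOf_eq]; exact Nat.Coprime.coprime_dvd_left hψord hodd
  have hψ'ne : ψ' ≠ 1 := by
    intro h
    have h1 : ψ = 1 := by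
      have h0 : MulAut.congr e ψ = MulAut.congr e 1 := by rw [← hψ', h, map_one]
      exact (MulAut.congr e).injective h0
    apply hgc
    have h7 : (⟨g, hg⟩ : Subgroup.normalizer (Q : Set G)) ∈ Q.normalizerMonoidHom.ker := h1
    rw [Subgroup.normalizerMonoidHom_ker, Subgroup.mem_subgroupOf] at h7
    exact h7
  obtain ⟨hcube, x, hx2, hx1, hx3, hx4⟩ := q8_aut_odd ψ' hψ'ord hψ'ne
  obtain ⟨y, hy⟩ : ∃ y, y = ψ' x := ⟨_, rfl⟩
  rw [← hy] at hx1 hx3 hx4
  have hy2 : y ^ 2 ≠ 1 := by
    rw [hy, ← map_pow]; exact fun h => hx2 (ψ'.injective (h.trans (map_one ψ').symm))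
  obtain ⟨hyx2, hyx⟩ := q8_pair x y hx2 hy2 hx1 hx3
  obtain ⟨a, ha⟩ : ∃ a : G, a = ((e.symm x : Q) : G) := ⟨_, rfl⟩
  obtain ⟨b, hb⟩ : ∃ b : G, b = ((e.symm y : Q) : G) := ⟨_, rfl⟩
  have ha4 : a ^ 4 = 1 := by
    rw [ha, ← Subgroup.coe_pow, ← map_pow, q8_pow_four, map_one]; rfl
  have ha2 : a ^ 2 ≠ 1 := by
    rw [ha, ← Subgroup.coe_pow, ← map_pow]
    intro h
    have h1 : e.symm (x ^ 2) = 1 := Subtype.ext h
    exact hx2 (e.symm.injective (h1.trans (map_one e.symm).symm))
  have hb2 : b ^ 2 = a ^ 2 := by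
    rw [ha, hb, ← Subgroup.coe_pow, ← Subgroup.coe_pow, ← map_pow, ← map_pow, hyx2]
  have hba : b * a * b⁻¹ = a⁻¹ := by
    rw [ha, hb, ← Subgroup.coe_inv, ← Subgroup.coe_mul, ← Subgroup.coe_mul, ← Subgroup.coe_inv,
      ← map_inv, ← map_mul, ← map_mul, ← map_inv, hyx]
  have hga : g * a * g⁻¹ = b := by
    have h1 : ψ (e.symm x) = e.symm y := by
      rw [hy, hψ'val, MulEquiv.symm_apply_apply]
    rw [ha, hb, ← h1]; rfl
  have hgb : g * b * g⁻¹ = a * b := by
    have h1 : ψ (e.symm y) = e.symm x * e.symm y := by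
      have h2 : ψ' y = x * y := hx4
      rw [hψ'val] at h2
      rw [← map_mul, ← h2, MulEquiv.symm_apply_apply]
    rw [ha, hb, ← Subgroup.coe_mul, ← h1]; rfl
  have hg3 : ∀ q : Q, (q : G) * g ^ 3 = g ^ 3 * (q : G) := by
    intro q
    have h1 : ψ ^ 3 = 1 := by
      have h0 : MulAut.congr e (ψ ^ 3) = MulAut.congr e 1 := by
        rw [map_pow, ← hψ', hcube, map_one]
      exact (MulAut.congr e).injective h0
    have h2 : ψ (ψ (ψ q)) = q := by
      have h3 := DFunLike.congr_fun h1 q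
      simpa [pow_succ, MulAut.mul_apply] using h3
    have h3 := congrArg Subtype.val h2
    rw [hψval, hψval, hψval] at h3
    have hg3' : g ^ 3 = g * g * g := by rw [pow_succ, pow_succ, pow_one]
    rw [hg3']
    calc (q : G) * (g * g * g) = (g * (g * (g * (q : G) * g⁻¹) * g⁻¹) * g⁻¹) * (g * g * g) := by
          rw [h3]
      _ = g * g * g * (q : G) := by group
  have hag3 : a * g ^ 3 = g ^ 3 * a := by rw [ha]; exact hg3 _
  have hbg3 : b * g ^ 3 = g ^ 3 * b := by rw [hb]; exact hg3 _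
  have hab : b ≠ a := by
    rw [ha, hb]
    intro h
    exact hx1 (e.symm.injective (Subtype.ext h))
  have hcomm3 : ∀ h ∈ Subgroup.closure ({a, b, g} : Set G), h * g ^ 3 = g ^ 3 * h := by
    intro h hh
    have hle : Subgroup.closure ({a, b, g} : Set G) ≤ Subgroup.centralizer ({g ^ 3} : Set G) := by
      rw [Subgroup.closure_le]
      intro z hz
      rw [SetLike.mem_coe, Subgroup.mem_centralizer_singleton_iff]
      rcases hz with rfl | rfl | rfl
      · exact hag3
      · exact hbg3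
      · rw [← pow_succ, ← pow_succ']
    exact Subgroup.mem_centralizer_singleton_iff.mp (hle hh)
  have hcommz : ∀ h ∈ Subgroup.closure ({a, b, g} : Set G), ∀ z ∈ Subgroup.zpowers (g ^ 3),
      h * z * h⁻¹ = z := by
    intro h hh z hz
    obtain ⟨j, rfl⟩ := Subgroup.mem_zpowers_iff.mp hz
    have h1 : Commute h (g ^ 3) := hcomm3 h hh
    have h2 : Commute h ((g ^ 3) ^ j) := Commute.zpow_right h1 j
    rw [h2.eq]; group
  have hK : ((Subgroup.zpowers (g ^ 3)).subgroupOf (Subgroup.closure ({a, b, g} : Set G))).Normal := by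
    constructor
    intro n hn h
    rw [Subgroup.mem_subgroupOf] at hn ⊢
    rw [Subgroup.coe_mul, Subgroup.coe_mul, Subgroup.coe_inv, hcommz _ h.2 _ hn]
    exact hn
  refine ⟨Subgroup.closure ({a, b, g} : Set G), Subgroup.zpowers (g ^ 3), hK, ?_⟩
  obtain ⟨a', ha'⟩ : ∃ a' : Subgroup.closure ({a, b, g} : Set G), (a' : G) = a :=
    ⟨⟨a, Subgroup.subset_closure (by simp)⟩, rfl⟩
  obtain ⟨b', hb'⟩ : ∃ b' : Subgroup.closure ({a, b, g} : Set G), (b' : G) = b :=
    ⟨⟨b, Subgroup.subset_closure (by simp)⟩, rfl⟩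
  obtain ⟨g', hg'⟩ : ∃ g' : Subgroup.closure ({a, b, g} : Set G), (g' : G) = g :=
    ⟨⟨g, Subgroup.subset_closure (by simp)⟩, rfl⟩
  have hmk1 : ∀ z : Subgroup.closure ({a, b, g} : Set G),
      (QuotientGroup.mk' ((Subgroup.zpowers (g ^ 3)).subgroupOf
        (Subgroup.closure ({a, b, g} : Set G))) z = 1) ↔ (z : G) ∈ Subgroup.zpowers (g ^ 3) := by
    intro z
    rw [QuotientGroup.mk'_apply, QuotientGroup.eq_one_iff, Subgroup.mem_subgroupOf]
  generalize hπ : QuotientGroup.mk' ((Subgroup.zpowers (g ^ 3)).subgroupOf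
        (Subgroup.closure ({a, b, g} : Set G))) = π at hmk1
  have hπsurj : Function.Surjective π := by
    rw [← hπ]; exact QuotientGroup.mk'_surjective _
  apply nonempty_mulEquiv_sl23_of_closure (π a') (π b') (π g')
  · rw [← map_pow]
    have h1 : a' ^ 4 = 1 := Subtype.ext (by rw [Subgroup.coe_pow, ha', ha4]; rfl)
    rw [h1, map_one]
  · rw [← map_pow]
    intro h
    rw [hmk1, Subgroup.coe_pow, ha'] at h
    have h1 : a ^ 2 ∈ Subgroup.zpowers g := by
      have h2 : Subgroup.zpowers (g ^ 3) ≤ Subgroup.zpowers g := by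
        rw [Subgroup.zpowers_le]; exact Subgroup.pow_mem _ (Subgroup.mem_zpowers g) 3
      exact h2 h
    have h3 : orderOf (a ^ 2) ∣ orderOf g := orderOf_dvd_of_mem_zpowers h1
    have h4 : orderOf (a ^ 2) = 2 := by
      have : Fact (Nat.Prime 2) := ⟨Nat.prime_two⟩
      apply orderOf_eq_prime
      · rw [← pow_mul]; exact ha4
      · exact ha2
    rw [h4] at h3
    have h5 := Nat.Coprime.eq_one_of_dvd hodd.symm h3
    omega
  · rw [← map_pow, ← map_pow]
    congr 1
    exact Subtype.ext (by rw [Subgroup.coe_pow, Subgroup.coe_pow, ha', hb', hb2])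
  · rw [← map_inv, ← map_mul, ← map_mul, ← map_inv]
    congr 1
    exact Subtype.ext (by
      rw [Subgroup.coe_mul, Subgroup.coe_mul, Subgroup.coe_inv, Subgroup.coe_inv, ha', hb', hba])
  · rw [← map_pow, hmk1, Subgroup.coe_pow, hg']
    exact Subgroup.mem_zpowers _
  · intro h
    have h0 : π g' = 1 := h
    rw [hmk1, hg'] at h0
    have h1 := hcommz a (Subgroup.subset_closure (by simp)) g h0
    apply hab
    rw [← hga]
    calc g * a * g⁻¹ = (a * g * a⁻¹) * a * g⁻¹ := by rw [h1]
      _ = a := by group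
  · rw [← map_inv, ← map_mul, ← map_mul]
    congr 1
    exact Subtype.ext (by
      rw [Subgroup.coe_mul, Subgroup.coe_mul, Subgroup.coe_inv, ha', hg', hb', hga])
  · rw [← map_inv, ← map_mul, ← map_mul, ← map_mul]
    congr 1
    exact Subtype.ext (by
      rw [Subgroup.coe_mul, Subgroup.coe_mul, Subgroup.coe_mul, Subgroup.coe_inv, ha', hg', hb',
        hgb])
  · have h1 : Subgroup.closure ({a', b', g'} :
        Set (Subgroup.closure ({a, b, g} : Set G))) = ⊤ := by
      have h2 := Subgroup.closure_closure_coe_preimage (k := ({a, b, g} : Set G))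
      have h3 : ((↑) : Subgroup.closure ({a, b, g} : Set G) → G) ⁻¹' ({a, b, g} : Set G) =
          {a', b', g'} := by
        ext z
        simp only [Set.mem_preimage, Set.mem_insert_iff, Set.mem_singleton_iff]
        constructor
        · rintro (h | h | h)
          · left; exact Subtype.ext (h.trans ha'.symm)
          · right; left; exact Subtype.ext (h.trans hb'.symm)
          · right; right; exact Subtype.ext (h.trans hg'.symm)
        · rintro (h | h | h)
          · left; rw [h, ha']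
          · right; left; rw [h, hb']
          · right; right; rw [h, hg']
      rw [← h3]; exact h2
    have h3 : Subgroup.closure ({π a', π b', π g'} : Set _) =
        (Subgroup.closure ({a', b', g'} :
          Set (Subgroup.closure ({a, b, g} : Set G)))).map π := by
      rw [MonoidHom.map_closure, Set.image_insert_eq, Set.image_insert_eq, Set.image_singleton]
    rw [h3, h1, ← MonoidHom.range_eq_map, MonoidHom.range_eq_top]
    exact hπsurj

/-- A finite group with generalized quaternion Sylow `2`-subgroups has a normal `2`-complement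
or a section isomorphic to `SL(2,3)`. -/
theorem quaternion_sylow_dichotomy {G : Type*} [Group G] [Finite G] (T : Sylow 2 G) (n : ℕ)
    (hT : Nonempty ((T : Subgroup G) ≃* QuaternionGroup (2 ^ n))) :
    Cfsg.HasNormalPComplement 2 G ∨ ∃ (H K : Subgroup G) (_ : (K.subgroupOf H).Normal),
      Nonempty ((H ⧸ K.subgroupOf H) ≃* Matrix.SpecialLinearGroup (Fin 2) (ZMod 3)) := by
  have : Fact (Nat.Prime 2) := ⟨Nat.prime_two⟩
  obtain ⟨eT⟩ := hT
  by_cases hF : ∀ Q : Subgroup G, Q ≤ (T : Subgroup G) →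
      ∀ g ∈ Subgroup.normalizer (Q : Set G), (orderOf g).Coprime 2 →
        g ∈ Subgroup.centralizer (Q : Set G)
  · left
    rw [Cfsg.Agent.Lib.Helper54.hasNormalPComplement_iff]
    exact Cfsg.Agent.Lib.Helper54.exists_isNormalPComplement_of_frobeniusCondition
      (Cfsg.Agent.Lib.Helper54.frobeniusCondition_of_le_sylow T hF)
  · right
    push Not at hF
    obtain ⟨Q, hQT, g, hg, hodd, hgc⟩ := hF
    obtain ⟨e⟩ := quaternion_eight_of_odd_action T n eT Q hQT g hg hodd hgc
    exact exists_sl23_section_of_q8 Q e g hg hodd hgc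

end Cfsg.Agent.Lib.Helper1
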