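import Mathlib
import Cfsg.Prelude.Def_Solvable
import Cfsg.Agent.Lib.Helper1.FrobFacts
import Cfsg.Agent.Lib.Helper1.FittingOmega
import Cfsg.Agent.Lib.Helper58.FrobAvg
import Cfsg.Agent.Lib.Helper54.Stability

/-!
# 2-Frobenius groups

Structure of a group `G` with normal subgroups `H < K` such that `K` is a Frobenius group with
kernel `H` and `G / H` is a Frobenius group with kernel `K / H`.
-/

set_option autoImplicit false

namespace Cfsg.Agent.Lib.Helper1

open scoped Pointwise

/-- A suitable power of an element has any prescribed order dividing its order. -/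
theorem orderOf_pow_div_eq {G : Type*} [Group G] (x : G) (n : ℕ) (hn : n ∣ orderOf x)
    (hx : 0 < orderOf x) : orderOf (x ^ (orderOf x / n)) = n := by
  obtain ⟨m, hm⟩ := hn
  have hn0 : 0 < n := Nat.pos_of_ne_zero (by rintro rfl; rw [zero_mul] at hm; omega)
  have hm0 : 0 < m := Nat.pos_of_ne_zero (by rintro rfl; rw [mul_zero] at hm; omega)
  have h1 : orderOf x / n = m := by rw [hm]; exact Nat.mul_div_cancel_left m hn0
  rw [h1, orderOf_pow_of_dvd hm0.ne' ⟨n, by rw [hm, mul_comm]⟩, hm]
  exact Nat.mul_div_cancel n hm0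

/-- **Structure of 2-Frobenius groups.** -/
theorem two_frobenius {G : Type*} [Group G] [Finite G] (H K : Subgroup G) [H.Normal] [K.Normal]
    (hlt : H < K)
    (hK : ∃ C : Subgroup ↥K, Cfsg.IsFrobeniusComplement C ∧
      Cfsg.frobeniusKernel C = (H.subgroupOf K : Set ↥K))
    (hGH : ∃ C : Subgroup (G ⧸ H), Cfsg.IsFrobeniusComplement C ∧
      Cfsg.frobeniusKernel C = (K.map (QuotientGroup.mk' H) : Set (G ⧸ H))) :
    Group.IsSolvable G ∧ Odd (Nat.card (↥K ⧸ H.subgroupOf K)) ∧
      Nat.Coprime (Nat.card (↥K ⧸ H.subgroupOf K)) (Nat.card ↥H * Nat.card (G ⧸ K)) ∧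
      IsCyclic (G ⧸ K) ∧
      ∀ p q : ℕ, p.Prime → q.Prime → p ≠ q → p ∣ Nat.card G → q ∣ Nat.card G →
        ((∃ g : G, orderOf g = p * q) ↔
          (p ∣ Nat.card (↥K ⧸ H.subgroupOf K) ↔ q ∣ Nat.card (↥K ⧸ H.subgroupOf K))) := by
  obtain ⟨C, hC, hCk⟩ := hK
  obtain ⟨D, hD, hDk⟩ := hGH
  have hHK : H ≤ K := hlt.le
  obtain ⟨hH'n, hH'c, hH'nil, hH'bot, hCbot, hCfpf, hCcop, hCsyl, hCout⟩ :=
    frobenius_facts C (H.subgroupOf K) hC hCk.symm
  obtain ⟨hBn, hBc, hBnil, hBbot, hDbot, hDfpf, hDcop, hDsyl, hDout⟩ :=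
    frobenius_facts D (K.map (QuotientGroup.mk' H)) hD hDk.symm
  -- cardinalities
  have hcardH' : Nat.card (H.subgroupOf K) = Nat.card H :=
    Nat.card_congr (Subgroup.subgroupOfEquivOfLe hHK).toEquiv
  have hn1 : Nat.card (↥K ⧸ H.subgroupOf K) = Nat.card C :=
    Nat.card_congr (hH'c.symm.QuotientMulEquiv).toEquiv
  have hcardK : Nat.card (H.subgroupOf K) * Nat.card C = Nat.card K := hH'c.card_mul_card
  have hcardGH : Nat.card (K.map (QuotientGroup.mk' H)) * Nat.card D = Nat.card (G ⧸ H) :=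
    hBc.card_mul_card
  have e₂ : G ⧸ K ≃* D :=
    (QuotientGroup.quotientQuotientEquivQuotient H K hHK).symm.trans (hBc.symm.QuotientMulEquiv)
  have hcardGK : Nat.card (G ⧸ K) = Nat.card D := Nat.card_congr e₂.toEquiv
  have hG1 : Nat.card G = Nat.card (G ⧸ H) * Nat.card H :=
    Subgroup.card_eq_card_quotient_mul_card_subgroup H
  have hG2 : Nat.card G = Nat.card (G ⧸ K) * Nat.card K :=
    Subgroup.card_eq_card_quotient_mul_card_subgroup K
  have hcardB : Nat.card (K.map (QuotientGroup.mk' H)) = Nat.card C := by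
    have h1 : Nat.card (K.map (QuotientGroup.mk' H)) * Nat.card D * Nat.card H =
        Nat.card D * (Nat.card H * Nat.card C) := by
      rw [hcardGH, ← hG1, hG2, hcardGK, ← hcardK, hcardH']
    have hDpos : 0 < Nat.card D := Nat.card_pos
    have hHpos : 0 < Nat.card H := Nat.card_pos
    have h2 : Nat.card (K.map (QuotientGroup.mk' H)) * (Nat.card D * Nat.card H) =
        Nat.card C * (Nat.card D * Nat.card H) := by
      rw [← mul_assoc, h1]; ring
    exact Nat.eq_of_mul_eq_mul_right (Nat.mul_pos hDpos hHpos) h2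
  have hGcard : Nat.card G = Nat.card D * (Nat.card H * Nat.card C) := by
    rw [hG2, hcardGK, ← hcardK, hcardH']
  have hcopCH : (Nat.card C).Coprime (Nat.card H) := hcardH' ▸ hCcop
  have hcopCD : (Nat.card C).Coprime (Nat.card D) := hcardB ▸ hDcop.symm
  -- the isomorphism `C ≃* K/H` realized inside `G/H`
  let f₀ : C →* (G ⧸ H) := (QuotientGroup.mk' H).comp (K.subtype.comp C.subtype)
  have hf₀B : ∀ c : C, f₀ c ∈ K.map (QuotientGroup.mk' H) := fun c =>
    ⟨((c : K) : G), (c : K).2, rfl⟩
  let f : C →* K.map (QuotientGroup.mk' H) := f₀.codRestrict _ hf₀B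
  have hfinj : Function.Injective f := by
    rw [injective_iff_map_eq_one]
    intro c hc
    have h1 : f₀ c = 1 := congrArg Subtype.val hc
    have h2 : ((c : K) : G) ∈ H := by
      have h0 : (QuotientGroup.mk' H) ((c : K) : G) = 1 := h1
      rwa [QuotientGroup.mk'_apply, QuotientGroup.eq_one_iff] at h0
    have h3 : (c : K) ∈ H.subgroupOf K := Subgroup.mem_subgroupOf.mpr h2
    have h4 : (c : K) = 1 := by
      have hd := hH'c.disjoint
      rw [Subgroup.disjoint_def] at hd
      exact hd h3 c.2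
    exact Subtype.ext h4
  have hfbij : Function.Bijective f := by
    rw [Nat.bijective_iff_injective_and_card]
    exact ⟨hfinj, hcardB.symm⟩
  let fe : C ≃* K.map (QuotientGroup.mk' H) := MulEquiv.ofBijective f hfbij
  -- `K/H` has odd order
  have hodd : Odd (Nat.card C) := by
    by_contra hcon
    rw [Nat.not_odd_iff_even, even_iff_two_dvd] at hcon
    have : Fact (Nat.Prime 2) := ⟨Nat.prime_two⟩
    have h2B : 2 ∣ Nat.card (K.map (QuotientGroup.mk' H)) := hcardB ▸ hcon
    obtain ⟨z, hz⟩ := exists_prime_orderOf_dvd_card' 2 h2B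
    obtain ⟨d, hdD, hd1⟩ := D.bot_or_exists_ne_one.resolve_left hDbot
    have hz' : d * (z : G ⧸ H) * d⁻¹ ∈ K.map (QuotientGroup.mk' H) := hBn.conj_mem _ z.2 d
    have huniq : ∀ b₁ b₂ : K.map (QuotientGroup.mk' H), orderOf b₁ = 2 → orderOf b₂ = 2 →
        b₁ = b₂ := by
      intro b₁ b₂ h1 h2
      have h3 : orderOf (fe.symm b₁) = 2 := by rw [MulEquiv.orderOf_eq]; exact h1
      have h4 : orderOf (fe.symm b₂) = 2 := by rw [MulEquiv.orderOf_eq]; exact h2
      have h5 := frobenius_complement_involution_unique C (H.subgroupOf K) hC hCk.symm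
        ((fe.symm b₁ : C) : K) ((fe.symm b₂ : C) : K) (fe.symm b₁).2 (fe.symm b₂).2
        (by rw [Subgroup.orderOf_coe]; exact h3) (by rw [Subgroup.orderOf_coe]; exact h4)
      exact fe.symm.injective (Subtype.ext h5)
    have h5 : (⟨d * (z : G ⧸ H) * d⁻¹, hz'⟩ : K.map (QuotientGroup.mk' H)) = z := by
      apply huniq _ _ _ hz
      rw [Subgroup.orderOf_mk]
      have h6 : orderOf (d * (z : G ⧸ H) * d⁻¹) = orderOf (z : G ⧸ H) :=
        orderOf_injective (MulAut.conj d).toMonoidHom (MulAut.conj d).injective _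
      rw [h6, Subgroup.orderOf_coe]; exact hz
    have h6 : d * (z : G ⧸ H) * d⁻¹ = z := congrArg Subtype.val h5
    have h7 : (z : G ⧸ H) ∈ K.map (QuotientGroup.mk' H) ⊓ Subgroup.centralizer {d} :=
      Subgroup.mem_inf.mpr ⟨z.2, Subgroup.mem_centralizer_singleton_iff.mpr (by
        calc (z : G ⧸ H) * d = (d * z * d⁻¹) * d := by rw [h6]
          _ = d * z := by group)⟩
    rw [hDfpf d hdD hd1, Subgroup.mem_bot] at h7
    have h8 : z = 1 := Subtype.ext h7
    rw [h8, orderOf_one] at hz; omega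
  -- `C` is cyclic
  have hCZ : IsZGroup C := by
    rw [isZGroup_iff]
    intro p hp P
    have : Fact p.Prime := ⟨hp⟩
    rcases hCsyl p P with h | ⟨n, ⟨e⟩⟩
    · exact h
    · exfalso
      have h1 : Nat.card P = 4 * 2 ^ n := by
        rw [Nat.card_congr e.toEquiv, Nat.card_eq_fintype_card, QuaternionGroup.card]
      have h2 : Nat.card P ∣ Nat.card C := Subgroup.card_subgroup_dvd_card _
      have h3 : 2 ∣ Nat.card C := Dvd.dvd.trans ⟨2 * 2 ^ n, by rw [h1]; ring⟩ h2
      exact (Nat.not_even_iff_odd.mpr hodd) (even_iff_two_dvd.mpr h3)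
  have hCnil : Group.IsNilpotent C := Group.nilpotent_of_mulEquiv fe.symm
  have hCcyc : IsCyclic C := inferInstance
  have hBcyc : IsCyclic (K.map (QuotientGroup.mk' H)) := isCyclic_of_surjective fe fe.surjective
  -- `D` is commutative
  have hDcomm : ∀ d₁ ∈ D, ∀ d₂ ∈ D, d₁ * d₂ = d₂ * d₁ := by
    intro d₁ h₁ d₂ h₂
    have hAut : ∀ φ ψ : MulAut (K.map (QuotientGroup.mk' H)), φ * ψ = ψ * φ := by
      intro φ ψ
      apply (IsCyclic.mulAutMulEquiv (K.map (QuotientGroup.mk' H))).injective
      rw [map_mul, map_mul, mul_comm]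
    obtain ⟨u, hu⟩ : ∃ u, u = d₁ * d₂ * (d₂ * d₁)⁻¹ := ⟨_, rfl⟩
    have huD : u ∈ D := hu ▸ D.mul_mem (D.mul_mem h₁ h₂) (D.inv_mem (D.mul_mem h₂ h₁))
    have hu1 : (MulAut.conjNormal u : MulAut (K.map (QuotientGroup.mk' H))) = 1 := by
      rw [hu, map_mul, map_inv, map_mul, map_mul,
        hAut (MulAut.conjNormal d₁) (MulAut.conjNormal d₂)]
      exact mul_inv_cancel _
    by_contra hne
    have hu_ne : u ≠ 1 := by
      intro h; apply hne
      rw [hu, mul_inv_eq_one] at h; exact h
    apply hBbot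
    rw [Subgroup.eq_bot_iff_forall]
    intro b hb
    have h1 : b ∈ K.map (QuotientGroup.mk' H) ⊓ Subgroup.centralizer {u} := by
      refine Subgroup.mem_inf.mpr ⟨hb, Subgroup.mem_centralizer_singleton_iff.mpr ?_⟩
      have h2 : (MulAut.conjNormal u : MulAut (K.map (QuotientGroup.mk' H))) ⟨b, hb⟩ = ⟨b, hb⟩ := by
        rw [hu1]; rfl
      have h3 : u * b * u⁻¹ = b := congrArg Subtype.val h2
      calc b * u = (u * b * u⁻¹) * u := by rw [h3]
        _ = u * b := by group
    rw [hDfpf u huD hu_ne, Subgroup.mem_bot] at h1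
    exact h1
  -- `D` is cyclic
  have hDcyc : IsCyclic D := by
    let _ : CommGroup D :=
      { (inferInstance : Group D) with
        mul_comm := fun a b => Subtype.ext (hDcomm a a.2 b b.2) }
    have hDZ : IsZGroup D := by
      rw [isZGroup_iff]
      intro p hp P
      have : Fact p.Prime := ⟨hp⟩
      rcases hDsyl p P with h | ⟨n, ⟨e⟩⟩
      · exact h
      · rcases n with _ | n
        · have hc1 : IsCyclic (QuaternionGroup (2 ^ 0)) :=
            QuaternionGroup.quaternionGroup_one_isCyclic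
          exact isCyclic_of_surjective e.symm e.symm.surjective
        · exfalso
          have h1 : (QuaternionGroup.a 1 : QuaternionGroup (2 ^ (n + 1))) * QuaternionGroup.xa 0 =
              QuaternionGroup.xa 0 * QuaternionGroup.a 1 := by
            have h2 := mul_comm (e.symm (QuaternionGroup.a 1)) (e.symm (QuaternionGroup.xa 0))
            rw [← map_mul, ← map_mul] at h2
            exact e.symm.injective h2
          rw [QuaternionGroup.a_mul_xa, QuaternionGroup.xa_mul_a] at h1
          have h3 : (0 : ZMod (2 * 2 ^ (n + 1))) - 1 = 0 + 1 := QuaternionGroup.xa.inj h1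
          have h4 : ((2 : ℕ) : ZMod (2 * 2 ^ (n + 1))) = 0 := by
            push_cast; linear_combination (-1 : ZMod (2 * 2 ^ (n + 1))) * h3
          rw [ZMod.natCast_eq_zero_iff] at h4
          have h5 := Nat.le_of_dvd (by norm_num) h4
          have h6 : 2 * 2 ^ (n + 1) = 4 * 2 ^ n := by ring
          have h7 := Nat.one_le_two_pow (n := n)
          omega
    infer_instance
  have hGKcyc : IsCyclic (G ⧸ K) := isCyclic_of_surjective e₂.symm e₂.symm.surjective
  -- solvability
  have hHnil : Group.IsNilpotent H :=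
    Group.nilpotent_of_mulEquiv (Subgroup.subgroupOfEquivOfLe hHK)
  have hsolvGH : Group.IsSolvable (G ⧸ H) := by
    have h1 : Group.IsSolvable (K.map (QuotientGroup.mk' H)) := inferInstance
    have h2 : Group.IsSolvable ((G ⧸ H) ⧸ K.map (QuotientGroup.mk' H)) := by
      have h3 : Group.IsSolvable D := inferInstance
      exact Group.isSolvable_of_isSolvable_injective
        (f := (hBc.symm.QuotientMulEquiv).toMonoidHom) (hBc.symm.QuotientMulEquiv).injective
    exact Group.isSolvable_of_ker_le_range (K.map (QuotientGroup.mk' H)).subtype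
      (QuotientGroup.mk' (K.map (QuotientGroup.mk' H)))
      (by rw [QuotientGroup.ker_mk', Subgroup.range_subtype])
  have hsolvG : Group.IsSolvable G := by
    have h1 : Group.IsSolvable H := inferInstance
    exact Group.isSolvable_of_ker_le_range H.subtype (QuotientGroup.mk' H)
      (by rw [QuotientGroup.ker_mk', Subgroup.range_subtype])
  -- no element of order `p q` across the two components
  have hno : ∀ p q : ℕ, p.Prime → q.Prime → p ∣ Nat.card C → ¬ q ∣ Nat.card C →
      ∀ x y : G, orderOf x = p → orderOf y = q → x * y = y * x → False := by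
    intro p q hp hq hpC hqC x y hx hy hxy
    have hxK : x ∈ K := by
      rw [← QuotientGroup.eq_one_iff (N := K)]
      have h1 : orderOf (x : G ⧸ K) ∣ p := hx ▸ orderOf_map_dvd (QuotientGroup.mk' K) x
      have h2 : orderOf (x : G ⧸ K) ∣ Nat.card D := hcardGK ▸ orderOf_dvd_natCard _
      have h3 : p.Coprime (Nat.card D) := Nat.Coprime.coprime_dvd_left hpC hcopCD
      exact orderOf_eq_one_iff.mp (Nat.eq_one_of_dvd_coprimes h3 h1 h2)
    have hxH : x ∉ H := by
      intro h
      have h1 : p ∣ Nat.card H := hx ▸ Subgroup.orderOf_dvd_natCard H h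
      exact hp.one_lt.ne' (Nat.eq_one_of_dvd_coprimes hcopCH hpC h1)
    by_cases hyH : y ∈ H
    · have h1 := hCout ⟨x, hxK⟩ (by rw [Subgroup.mem_subgroupOf]; exact hxH) ⟨y, hHK hyH⟩
        (by rw [Subgroup.mem_subgroupOf]; exact hyH) (Subtype.ext hxy)
      have hy1 : y = 1 := congrArg Subtype.val h1
      rw [hy1, orderOf_one] at hy
      exact hq.one_lt.ne' hy.symm
    · by_cases hyK : y ∈ K
      · apply hqC
        have h1 : orderOf (((⟨y, hyK⟩ : K) : ↥K ⧸ H.subgroupOf K)) = q := by
          have h2 : orderOf (((⟨y, hyK⟩ : K) : ↥K ⧸ H.subgroupOf K)) ∣ q := by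
            have h0 := orderOf_map_dvd (QuotientGroup.mk' (H.subgroupOf K)) (⟨y, hyK⟩ : K)
            rwa [Subgroup.orderOf_mk, hy] at h0
          rcases (Nat.dvd_prime hq).mp h2 with h3 | h3
          · exfalso; apply hyH
            have h4 := orderOf_eq_one_iff.mp h3
            rw [QuotientGroup.eq_one_iff, Subgroup.mem_subgroupOf] at h4
            exact h4
          · exact h3
        rw [← hn1, ← h1]; exact orderOf_dvd_natCard _
      · have hyB : (y : G ⧸ H) ∉ K.map (QuotientGroup.mk' H) := by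
          rintro ⟨k, hk, hky⟩
          apply hyK
          have h1 : k⁻¹ * y ∈ H := QuotientGroup.eq.mp hky
          have h2 := K.mul_mem hk (hHK h1)
          simpa using h2
        have hxB : (x : G ⧸ H) ∈ K.map (QuotientGroup.mk' H) := ⟨x, hxK, rfl⟩
        have h1 := hDout (y : G ⧸ H) hyB (x : G ⧸ H) hxB (by
          rw [← QuotientGroup.mk_mul, ← QuotientGroup.mk_mul, hxy])
        exact hxH ((QuotientGroup.eq_one_iff x).mp h1)
  -- both primes divide `|K/H|`
  have hboth : ∀ p q : ℕ, p.Prime → q.Prime → p ≠ q → p ∣ Nat.card C → q ∣ Nat.card C →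
      ∃ g : G, orderOf g = p * q := by
    intro p q hp hq hpq hpC hqC
    obtain ⟨c, hc⟩ := IsCyclic.exists_ofOrder_eq_natCard (α := C)
    have hdvd : p * q ∣ orderOf c := by
      rw [hc]
      exact Nat.Coprime.mul_dvd_of_dvd_of_dvd ((Nat.coprime_primes hp hq).mpr hpq) hpC hqC
    refine ⟨(((c ^ (orderOf c / (p * q)) : C) : K) : G), ?_⟩
    rw [Subgroup.orderOf_coe, Subgroup.orderOf_coe]
    exact orderOf_pow_div_eq c (p * q) hdvd (orderOf_pos c)
  -- both primes divide `|G/K|`
  have hbothD : ∀ p q : ℕ, p.Prime → q.Prime → p ≠ q → p ∣ Nat.card D → q ∣ Nat.card D →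
      ∃ g : G, orderOf g = p * q := by
    intro p q hp hq hpq hpD hqD
    obtain ⟨d, hd⟩ := IsCyclic.exists_ofOrder_eq_natCard (α := D)
    obtain ⟨g₀, hg₀⟩ := QuotientGroup.mk_surjective (d : G ⧸ H)
    have hdvd : p * q ∣ orderOf g₀ := by
      have h1 : orderOf ((g₀ : G ⧸ H)) ∣ orderOf g₀ := orderOf_map_dvd (QuotientGroup.mk' H) g₀
      rw [hg₀, Subgroup.orderOf_coe, hd] at h1
      exact (Nat.Coprime.mul_dvd_of_dvd_of_dvd ((Nat.coprime_primes hp hq).mpr hpq) hpD hqD).trans h1
    exact ⟨_, orderOf_pow_div_eq g₀ (p * q) hdvd (orderOf_pos g₀)⟩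
  -- both primes divide `|H|`
  have hbothH : ∀ p q : ℕ, p.Prime → q.Prime → p ≠ q → p ∣ Nat.card H → q ∣ Nat.card H →
      ∃ g : G, orderOf g = p * q := by
    intro p q hp hq hpq hpH hqH
    have : Fact p.Prime := ⟨hp⟩
    have : Fact q.Prime := ⟨hq⟩
    obtain ⟨x, hx⟩ := exists_prime_orderOf_dvd_card' p hpH
    obtain ⟨y, hy⟩ := exists_prime_orderOf_dvd_card' q hqH
    have hco : (orderOf x).Coprime (orderOf y) := by
      rw [hx, hy]; exact (Nat.coprime_primes hp hq).mpr hpq
    have hcomm := Cfsg.Agent.Lib.Helper54.commute_of_coprime_of_nilpotent H x y hco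
    refine ⟨((x * y : H) : G), ?_⟩
    rw [Subgroup.orderOf_coe, hcomm.orderOf_mul_eq_mul_orderOf_of_coprime hco, hx, hy]
  -- one prime divides `|H|`, the other `|G/K|`
  have hmixed : ∀ p q : ℕ, p.Prime → q.Prime → p ≠ q → p ∣ Nat.card H → q ∣ Nat.card D →
      ∃ x y : G, orderOf x = p ∧ orderOf y = q ∧ x * y = y * x := by
    intro p q hp hq hpq hpH hqD
    have : Fact p.Prime := ⟨hp⟩
    have : Fact q.Prime := ⟨hq⟩
    obtain ⟨P⟩ : Nonempty (Sylow p H) := inferInstance
    have hPn : (P : Subgroup H).Normal :=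
      Sylow.normal_of_normalizerCondition Group.normalizerCondition_of_isNilpotent P
    have hPc : (P : Subgroup H).Characteristic := Sylow.characteristic_of_normal P hPn
    obtain ⟨PG, hPG⟩ : ∃ PG : Subgroup G, PG = (P : Subgroup H).map H.subtype := ⟨_, rfl⟩
    have hPGn : PG.Normal := by rw [hPG]; exact ConjAct.normal_of_characteristic_of_normal
    have hPGle : PG ≤ H := by
      rw [hPG]; rintro _ ⟨w, -, rfl⟩; exact w.2
    have hPGp : IsPGroup p PG := by rw [hPG]; exact P.2.map _
    have hmemPG : ∀ w : G, w ∈ H → (∃ e : ℕ, orderOf w = p ^ e) → w ∈ PG := by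
      rintro w hw ⟨e, he⟩
      have hp' : IsPGroup p (Subgroup.zpowers (⟨w, hw⟩ : H)) := by
        apply IsPGroup.of_card (n := e)
        rw [Nat.card_zpowers, Subgroup.orderOf_mk, he]
      obtain ⟨P', hP'⟩ := hp'.exists_le_sylow
      obtain ⟨u, rfl⟩ := MulAction.exists_smul_eq H P P'
      rw [Sylow.smul_eq_of_normal] at hP'
      rw [hPG]
      exact ⟨⟨w, hw⟩, hP' (Subgroup.mem_zpowers _), rfl⟩
    obtain ⟨V, hV⟩ : ∃ V : Subgroup G, V = PG ⊓ Subgroup.centralizer (PG : Set G) := ⟨_, rfl⟩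
    have hVn : V.Normal := by
      have h1 := centralizer_normal_of_conj_invariant (PG : Set G)
        (fun u x hx => hPGn.conj_mem x hx u)
      rw [hV]; exact Subgroup.normal_inf_normal _ _
    have hVPG : ∀ v ∈ V, v ∈ PG := fun v hv => by
      rw [hV] at hv; exact (Subgroup.mem_inf.mp hv).1
    have hVcent : ∀ v ∈ V, ∀ w ∈ PG, w * v = v * w := fun v hv w hw => by
      rw [hV] at hv
      have h1 := (Subgroup.mem_inf.mp hv).2
      rw [Subgroup.mem_centralizer_iff] at h1
      exact h1 w hw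
    have hVcomm : ∀ v ∈ V, ∀ w ∈ V, v * w = w * v := fun v hv w hw =>
      (hVcent v hv w (hVPG w hw)).symm
    have hVbot : V ≠ ⊥ := by
      obtain ⟨x, hx⟩ := exists_prime_orderOf_dvd_card' p hpH
      have hxPG : (x : G) ∈ PG := hmemPG x x.2 ⟨1, by rw [Subgroup.orderOf_coe, hx, pow_one]⟩
      have hPGnt : Nontrivial PG := by
        refine ⟨⟨⟨(x : G), hxPG⟩, 1, ?_⟩⟩
        intro h
        have h1 : (x : G) = 1 := congrArg Subtype.val h
        have h2 : x = 1 := Subtype.ext h1
        rw [h2, orderOf_one] at hx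
        exact hp.one_lt.ne' hx.symm
      have hcnt := hPGp.center_nontrivial
      obtain ⟨z, hz⟩ := exists_ne (1 : Subgroup.center PG)
      intro hbot
      have hzV : ((z : PG) : G) ∈ V := by
        rw [hV]
        refine Subgroup.mem_inf.mpr ⟨(z : PG).2, ?_⟩
        rw [Subgroup.mem_centralizer_iff]
        intro w hw
        have h1 := Subgroup.mem_center_iff.mp z.2 ⟨w, hw⟩
        exact congrArg Subtype.val h1
      rw [hbot, Subgroup.mem_bot] at hzV
      exact hz (Subtype.ext (Subtype.ext hzV))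
    have hHV : ∀ h ∈ H, ∀ v ∈ V, h * v = v * h := by
      intro h hh v hv
      have hvPG := hVPG v hv
      have h1 : h ∈ Subgroup.centralizer ({v} : Set G) := by
        apply mem_of_primePow_pow_mem
        intro k hk
        obtain ⟨r, e, hr, he, hre⟩ := hk
        have hrp : r.Prime := Nat.prime_iff.mpr hr
        rw [Subgroup.mem_centralizer_singleton_iff]
        by_cases hrp' : r = p
        · exact hVcent v hv _ (hmemPG _ (H.pow_mem hh k) ⟨e, by rw [← hre, hrp']⟩)
        · have hvH : v ∈ H := hPGle hvPG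
          have hco : (orderOf (⟨h ^ k, H.pow_mem hh k⟩ : H)).Coprime (orderOf (⟨v, hvH⟩ : H)) := by
            rw [Subgroup.orderOf_mk, Subgroup.orderOf_mk, ← hre]
            obtain ⟨j, hj⟩ := (IsPGroup.iff_orderOf.mp hPGp) ⟨v, hvPG⟩
            rw [Subgroup.orderOf_mk] at hj
            rw [hj]
            exact Nat.Coprime.pow _ _ ((Nat.coprime_primes hrp hp).mpr hrp')
          have h2 := Cfsg.Agent.Lib.Helper54.commute_of_coprime_of_nilpotent H _ _ hco
          exact congrArg Subtype.val h2.eq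
      rw [Subgroup.mem_centralizer_singleton_iff] at h1
      exact h1
    let _ : CommGroup V :=
      { (inferInstance : Group V) with
        mul_comm := fun a b => Subtype.ext (hVcomm a a.2 b b.2) }
    let ρ : G →* MulAut V := MulAut.conjNormal
    have hρH : H ≤ ρ.ker := by
      intro h hh
      rw [MonoidHom.mem_ker]
      ext v
      change h * (v : G) * h⁻¹ = v
      rw [hHV h hh v v.2]; group
    let c : G ⧸ H →* MulAut V := QuotientGroup.lift H ρ hρH
    have hc_mk : ∀ (g : G) (v : V), ((c (g : G ⧸ H) v : V) : G) = g * v * g⁻¹ := fun g v => rfl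
    have : Fintype (G ⧸ H) := Fintype.ofFinite _
    have hfrob : ∀ g : G ⧸ H, g ∉ D → D ⊓ (MulAut.conj g • D) = ⊥ := hD.2.2
    have hker : ∀ f : G ⧸ H, f ∉ K.map (QuotientGroup.mk' H) →
        ∃ g : G ⧸ H, f ∈ MulAut.conj g • D := by
      intro f hf
      have hf' : f ∉ Cfsg.frobeniusKernel D := by rw [hDk]; exact hf
      change ¬ (f = 1 ∨ ∀ g : G ⧸ H, f ∉ MulAut.conj g • D) at hf'
      push Not at hf'
      exact hf'.2
    have hNfix : ∀ v : V, (∀ n ∈ K.map (QuotientGroup.mk' H), c n v = v) → v = 1 := by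
      intro v hv
      obtain ⟨k, hkK, hkH⟩ := SetLike.exists_of_lt hlt
      have h1 := hv (k : G ⧸ H) ⟨k, hkK, rfl⟩
      have h2 : k * (v : G) * k⁻¹ = v := by
        rw [← hc_mk k v, h1]
      have hvH : (v : G) ∈ H := hPGle (hVPG v v.2)
      have h3 := hCout ⟨k, hkK⟩ (by rw [Subgroup.mem_subgroupOf]; exact hkH)
        ⟨(v : G), hHK hvH⟩ (by rw [Subgroup.mem_subgroupOf]; exact hvH) (Subtype.ext (by
          change k * (v : G) = v * k
          calc k * (v : G) = (k * v * k⁻¹) * k := by group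
            _ = v * k := by rw [h2]))
      have h4 : (v : G) = 1 := congrArg (fun t : K => (t : G)) h3
      exact Subtype.ext h4
    have hexfix : ∃ v : V, v ≠ 1 ∧ ∀ d ∈ D, c d v = v := by
      by_contra hcon
      push Not at hcon
      have hDfix : ∀ v : V, (∀ h ∈ D, c h v = v) → v = 1 := fun v hv => by
        by_contra hv1
        obtain ⟨d, hd, hdv⟩ := hcon v hv1
        exact hdv (hv d hd)
      have hall : ∀ v : V, v ^ Nat.card (K.map (QuotientGroup.mk' H)) = 1 :=
        Cfsg.Agent.Lib.Helper58.frob_avg c (K.map (QuotientGroup.mk' H)) D hBc hfrob hker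
          hNfix hDfix
      apply hVbot
      rw [Subgroup.eq_bot_iff_forall]
      intro v hv
      have h1 := hall ⟨v, hv⟩
      have h2 : v ^ Nat.card (K.map (QuotientGroup.mk' H)) = 1 := congrArg Subtype.val h1
      have h3 : orderOf v ∣ Nat.card C := hcardB ▸ orderOf_dvd_of_pow_eq_one h2
      have h4 : orderOf v ∣ Nat.card H := Subgroup.orderOf_dvd_natCard H (hPGle (hVPG v hv))
      exact orderOf_eq_one_iff.mp (Nat.eq_one_of_dvd_coprimes hcopCH h3 h4)
    obtain ⟨v, hv1, hvfix⟩ := hexfix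
    obtain ⟨d, hd⟩ := exists_prime_orderOf_dvd_card' q hqD
    obtain ⟨y, hy⟩ := QuotientGroup.mk_surjective (d : G ⧸ H)
    have hyv : y * (v : G) * y⁻¹ = v := by
      have h1 := hvfix (d : G ⧸ H) d.2
      rw [← hy] at h1
      rw [← hc_mk y v, h1]
    have hqy : q ∣ orderOf y := by
      have h1 : orderOf ((y : G ⧸ H)) ∣ orderOf y := orderOf_map_dvd (QuotientGroup.mk' H) y
      rw [hy, Subgroup.orderOf_coe, hd] at h1; exact h1
    obtain ⟨j, hj⟩ : ∃ j, orderOf (v : G) = p ^ j := by
      obtain ⟨j, hj⟩ := (IsPGroup.iff_orderOf.mp hPGp) ⟨v, hVPG v v.2⟩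
      rw [Subgroup.orderOf_mk] at hj; exact ⟨j, hj⟩
    have hj0 : j ≠ 0 := by
      rintro rfl
      rw [pow_zero, orderOf_eq_one_iff] at hj
      exact hv1 (Subtype.ext hj)
    have hpv : p ∣ orderOf (v : G) := hj ▸ dvd_pow_self p hj0
    refine ⟨(v : G) ^ (orderOf (v : G) / p), y ^ (orderOf y / q),
      orderOf_pow_div_eq _ p hpv (orderOf_pos _), orderOf_pow_div_eq _ q hqy (orderOf_pos _), ?_⟩
    have hcomm : Commute (v : G) y := by
      change (v : G) * y = y * v
      calc (v : G) * y = (y * v * y⁻¹) * y := by rw [hyv]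
        _ = y * v := by group
    exact (hcomm.pow_pow _ _).eq
  refine ⟨hsolvG, hn1 ▸ hodd, ?_, hGKcyc, ?_⟩
  · rw [hn1, hcardGK]
    exact Nat.Coprime.mul_right hcopCH hcopCD
  · intro p q hp hq hpq hpG hqG
    rw [hn1]
    constructor
    · rintro ⟨g, hg⟩
      have hx : orderOf (g ^ q) = p := by
        rw [orderOf_pow_of_dvd hq.ne_zero ⟨p, by rw [hg, mul_comm]⟩, hg]
        exact Nat.mul_div_cancel _ hq.pos
      have hy : orderOf (g ^ p) = q := by
        rw [orderOf_pow_of_dvd hp.ne_zero ⟨q, by rw [hg]⟩, hg]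
        exact Nat.mul_div_cancel_left _ hp.pos
      have hxy : g ^ q * g ^ p = g ^ p * g ^ q := by rw [← pow_add, ← pow_add, add_comm]
      constructor
      · intro hpC
        by_contra hqC
        exact hno p q hp hq hpC hqC _ _ hx hy hxy
      · intro hqC
        by_contra hpC
        exact hno q p hq hp hqC hpC _ _ hy hx hxy.symm
    · intro hiff
      by_cases hpC : p ∣ Nat.card C
      · exact hboth p q hp hq hpq hpC (hiff.mp hpC)
      · have hqC : ¬ q ∣ Nat.card C := fun h => hpC (hiff.mpr h)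
        have hp' : p ∣ Nat.card D ∨ p ∣ Nat.card H := by
          rw [hGcard] at hpG
          rcases (Nat.Prime.dvd_mul hp).mp hpG with h | h
          · left; exact h
          · rcases (Nat.Prime.dvd_mul hp).mp h with h | h
            · right; exact h
            · exact absurd h hpC
        have hq' : q ∣ Nat.card D ∨ q ∣ Nat.card H := by
          rw [hGcard] at hqG
          rcases (Nat.Prime.dvd_mul hq).mp hqG with h | h
          · left; exact h
          · rcases (Nat.Prime.dvd_mul hq).mp h with h | h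
            · right; exact h
            · exact absurd h hqC
        have hcopq : p.Coprime q := (Nat.coprime_primes hp hq).mpr hpq
        rcases hp' with hpD | hpH <;> rcases hq' with hqD | hqH
        · exact hbothD p q hp hq hpq hpD hqD
        · obtain ⟨x, y, hx, hy, hxy⟩ := hmixed q p hq hp (Ne.symm hpq) hqH hpD
          refine ⟨y * x, ?_⟩
          have hcomm : Commute y x := hxy.symm
          rw [hcomm.orderOf_mul_eq_mul_orderOf_of_coprime (by rw [hx, hy]; exact hcopq), hx, hy]
        · obtain ⟨x, y, hx, hy, hxy⟩ := hmixed p q hp hq hpq hpH hqD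
          refine ⟨x * y, ?_⟩
          have hcomm : Commute x y := hxy
          rw [hcomm.orderOf_mul_eq_mul_orderOf_of_coprime (by rw [hx, hy]; exact hcopq), hx, hy]
        · exact hbothH p q hp hq hpq hpH hqH

end Cfsg.Agent.Lib.Helper1
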